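import Mathlib
import Cfsg.Agent.Helper16.ModDefs

/-!
# Density for finitely many pairwise non-isomorphic simple modules (helper34, for helper16)

`exists_groupAlgebra_action` : for a finite family of pairwise non-isomorphic irreducible
finite-dimensional representations of a finite group over an algebraically closed field, every
family of linear endomorphisms is induced by one element of the group algebra.
-/

set_option autoImplicit false

namespace Cfsg.Agent.Helper34.Density

open Representation

universe u v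

section Core

variable {k : Type v} [Field k] {G : Type u} [Group G] {ι : Type*}
  (F : Cfsg.Agent.Helper16.SimpleRepFamily k G ι)

/-- The action of the group algebra on the `i`-th module. -/
noncomputable abbrev act (i : ι) : MonoidAlgebra k G →ₐ[k] Module.End k (F.V i) :=
  (F.ρ i).asAlgebraHom

theorem act_of_mul (i : ι) (g : G) (a : MonoidAlgebra k G) (w : F.V i) :
    act F i (MonoidAlgebra.of k G g * a) w = F.ρ i g (act F i a w) := by
  rw [map_mul, asAlgebraHom_of]
  rfl

theorem schur_step [IsAlgClosed k] [DecidableEq ι] (I : Submodule k (MonoidAlgebra k G))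
    (hI : ∀ (g : G) (a : MonoidAlgebra k G), a ∈ I → MonoidAlgebra.of k G g * a ∈ I)
    (i₁ i : ι) (w : F.V i₁) (u : F.V i)
    (h0 : ∀ a ∈ I, act F i₁ a w = 0 → act F i a u = 0)
    (hw : ∃ a ∈ I, act F i₁ a w ≠ 0) :
    ∃ c : k, ∀ a ∈ I,
      (Pi.single i (act F i a u) : ∀ i, F.V i) = c • Pi.single i₁ (act F i₁ a w) := by
  classical
  let e₁ : I →ₗ[k] F.V i₁ :=
    ((LinearMap.applyₗ w).comp (act F i₁).toLinearMap).comp I.subtype
  let e₀ : I →ₗ[k] F.V i :=
    ((LinearMap.applyₗ u).comp (act F i).toLinearMap).comp I.subtype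
  have he₁ : ∀ a : I, e₁ a = act F i₁ (a : MonoidAlgebra k G) w := fun a => rfl
  have he₀ : ∀ a : I, e₀ a = act F i (a : MonoidAlgebra k G) u := fun a => rfl
  let S : Subrepresentation (F.ρ i₁) :=
    { toSubmodule := LinearMap.range e₁
      apply_mem_toSubmodule := by
        rintro g _ ⟨a, rfl⟩
        refine ⟨⟨MonoidAlgebra.of k G g * a, hI g a a.2⟩, ?_⟩
        rw [he₁, he₁]
        exact act_of_mul F i₁ g a w }
  have hirr₁ := F.irr i₁
  have hS : S = ⊤ := by
    rcases eq_bot_or_eq_top S with h | h
    · exfalso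
      obtain ⟨a, ha, hne⟩ := hw
      have h1 : act F i₁ a w ∈ S.toSubmodule := ⟨⟨a, ha⟩, rfl⟩
      rw [h] at h1
      exact hne ((Submodule.mem_bot k).mp h1)
    · exact h
  have hsurj : LinearMap.range e₁ = ⊤ := congrArg Subrepresentation.toSubmodule hS
  obtain ⟨σ, hσ⟩ := LinearMap.exists_rightInverse_of_surjective e₁ hsurj
  let φ : F.V i₁ →ₗ[k] F.V i := e₀.comp σ
  have hφ : ∀ a : I, φ (e₁ a) = e₀ a := by
    intro a
    have h1 : e₁ (σ (e₁ a) - a) = 0 := by
      rw [map_sub, ← LinearMap.comp_apply, hσ, LinearMap.id_apply, sub_self]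
    have h3 : e₀ (σ (e₁ a) - a) = 0 := h0 _ (σ (e₁ a) - a).2 h1
    rw [map_sub, sub_eq_zero] at h3
    exact h3
  have hint : ∀ (g : G) (y : F.V i₁), φ (F.ρ i₁ g y) = F.ρ i g (φ y) := by
    intro g y
    obtain ⟨a, rfl⟩ : ∃ a, e₁ a = y := by
      have : y ∈ LinearMap.range e₁ := by rw [hsurj]; trivial
      exact this
    have h1 : F.ρ i₁ g (e₁ a) = e₁ ⟨MonoidAlgebra.of k G g * a, hI g a a.2⟩ := by
      rw [he₁, he₁]; exact (act_of_mul F i₁ g a w).symm
    rw [h1, hφ, hφ, he₀, he₀]
    exact act_of_mul F i g a u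
  let Φ : IntertwiningMap (F.ρ i₁) (F.ρ i) := φ.intertwiningMap_of_isIntertwiningMap _ _ hint
  have hirr := F.irr i
  rcases IsIrreducible.bijective_or_eq_zero Φ with hb | hz
  · have hii : i₁ = i := by
      by_contra hne
      exact (F.ne i₁ i hne).false (Φ.ofBijective hb)
    subst hii
    obtain ⟨c, hc⟩ :=
      (IsIrreducible.algebraMap_intertwiningMap_bijective_of_isAlgClosed (ρ := F.ρ i₁)).2 Φ
    refine ⟨c, fun a ha => ?_⟩
    have h2 : φ (act F i₁ a w) = act F i₁ a u := hφ ⟨a, ha⟩
    have h3 : φ (act F i₁ a w) = c • act F i₁ a w := by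
      have h4 : Φ (act F i₁ a w) = (algebraMap k (IntertwiningMap (F.ρ i₁) (F.ρ i₁)) c) (act F i₁ a w) := by
        rw [hc]
      exact h4
    rw [← h2, h3, Pi.single_smul]
  · refine ⟨0, fun a ha => ?_⟩
    have h2 : φ (act F i₁ a w) = act F i a u := hφ ⟨a, ha⟩
    have h3 : φ = 0 := congrArg IntertwiningMap.toLinearMap hz
    rw [h3, LinearMap.zero_apply] at h2
    rw [← h2, zero_smul, Pi.single_zero]

/-- The componentwise action of the group algebra on the product of the modules. -/
noncomputable def actM (a : MonoidAlgebra k G) : (∀ i, F.V i) →ₗ[k] (∀ i, F.V i) :=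
  LinearMap.pi fun i => (act F i a).comp (LinearMap.proj i)

theorem actM_apply (a : MonoidAlgebra k G) (m : ∀ i, F.V i) (i : ι) :
    actM F a m i = act F i a (m i) := rfl

theorem actM_single [DecidableEq ι] (a : MonoidAlgebra k G) (i : ι) (w : F.V i) :
    actM F a (Pi.single i w) = Pi.single i (act F i a w) := by
  funext j
  rw [actM_apply]
  by_cases h : j = i
  · subst h
    rw [Pi.single_eq_same, Pi.single_eq_same]
  · rw [Pi.single_eq_of_ne h, Pi.single_eq_of_ne h, map_zero]

theorem actM_mul (a b : MonoidAlgebra k G) (m : ∀ i, F.V i) :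
    actM F (a * b) m = actM F a (actM F b m) := by
  funext i
  rw [actM_apply, actM_apply, actM_apply, map_mul]
  rfl

theorem actM_one (m : ∀ i, F.V i) : actM F 1 m = m := by
  funext i
  rw [actM_apply, map_one]
  rfl

theorem actM_add (a b : MonoidAlgebra k G) (m : ∀ i, F.V i) :
    actM F (a + b) m = actM F a m + actM F b m := by
  funext i
  rw [Pi.add_apply, actM_apply, actM_apply, actM_apply, map_add]
  rfl

theorem actM_smul (c : k) (a : MonoidAlgebra k G) (m : ∀ i, F.V i) :
    actM F (c • a) m = c • actM F a m := by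
  funext i
  rw [Pi.smul_apply, actM_apply, actM_apply, map_smul]
  rfl

theorem actM_zero (m : ∀ i, F.V i) : actM F 0 m = 0 := by
  funext i
  rw [actM_apply, map_zero]
  rfl

theorem mem_span_of_annihilated [IsAlgClosed k] [Fintype ι] [DecidableEq ι] {J : Type*}
    [DecidableEq J] (X : J → ∀ i, F.V i)
    (hX : ∀ j, ∃ (i : ι) (w : F.V i), X j = Pi.single i w) (s : Finset J) :
    ∀ m : (∀ i, F.V i),
      (∀ a : MonoidAlgebra k G, (∀ j ∈ s, actM F a (X j) = 0) → actM F a m = 0) →
      m ∈ Submodule.span k (X '' (s : Set J)) := by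
  induction s using Finset.induction_on with
  | empty =>
    intro m hm
    have h1 := hm 1 (by simp)
    rw [actM_one] at h1
    rw [h1]
    exact Submodule.zero_mem _
  | insert j₁ s hj₁ ih =>
    intro m hm
    obtain ⟨i₁, w, hXj⟩ := hX j₁
    let I : Submodule k (MonoidAlgebra k G) :=
      { carrier := {a | ∀ j ∈ s, actM F a (X j) = 0}
        add_mem' := by
          intro a b ha hb j hj
          rw [actM_add, ha j hj, hb j hj, add_zero]
        zero_mem' := by
          intro j _
          exact actM_zero F _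
        smul_mem' := by
          intro c a ha j hj
          rw [actM_smul, ha j hj, smul_zero] }
    have hI : ∀ (g : G) (a : MonoidAlgebra k G), a ∈ I → MonoidAlgebra.of k G g * a ∈ I := by
      intro g a ha j hj
      rw [actM_mul, ha j hj, map_zero]
    have hmono : Submodule.span k (X '' (s : Set J)) ≤
        Submodule.span k (X '' ((insert j₁ s : Finset J) : Set J)) := by
      apply Submodule.span_mono
      apply Set.image_mono
      rw [Finset.coe_insert]
      exact Set.subset_insert _ _
    by_cases hcase : ∀ a ∈ I, act F i₁ a w = 0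
    · apply hmono
      apply ih
      intro a ha
      apply hm
      intro j hj
      rcases Finset.mem_insert.mp hj with rfl | hj
      · rw [hXj, actM_single, hcase a ha, Pi.single_zero]
      · exact ha j hj
    · have hcase' : ∃ a ∈ I, act F i₁ a w ≠ 0 := by
        by_contra hcon
        apply hcase
        intro a ha
        by_contra hne
        exact hcon ⟨a, ha, hne⟩
      have hstep : ∀ i, ∃ c : k, ∀ a ∈ I,
          (Pi.single i (act F i a (m i)) : ∀ i, F.V i) = c • Pi.single i₁ (act F i₁ a w) := by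
        intro i
        apply schur_step F I hI i₁ i w (m i) ?_ hcase'
        intro a ha haw
        have h1 : actM F a m = 0 := by
          apply hm
          intro j hj
          rcases Finset.mem_insert.mp hj with rfl | hj
          · rw [hXj, actM_single, haw, Pi.single_zero]
          · exact ha j hj
        exact congrFun h1 i
      choose c hc using hstep
      have hC : ∀ a ∈ I, actM F a m = (∑ i, c i) • actM F a (X j₁) := by
        intro a ha
        rw [hXj, actM_single]
        have h1 : actM F a m = ∑ i, Pi.single i (act F i a (m i)) := by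
          rw [← Finset.univ_sum_single (actM F a m)]
          rfl
        rw [h1, Finset.sum_smul]
        exact Finset.sum_congr rfl fun i _ => hc i a ha
      have hm' : m - (∑ i, c i) • X j₁ ∈ Submodule.span k (X '' (s : Set J)) := by
        apply ih
        intro a ha
        rw [map_sub, map_smul, hC a ha, sub_self]
      have h2 : m = (m - (∑ i, c i) • X j₁) + (∑ i, c i) • X j₁ := by abel
      rw [h2]
      refine Submodule.add_mem _ (hmono hm') (Submodule.smul_mem _ _ (Submodule.subset_span ?_))
      exact ⟨j₁, by simp, rfl⟩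

end Core

/-- **Density** for a finite family of pairwise non-isomorphic simple modules over an algebraically
closed field: every family of endomorphisms is induced by an element of the group algebra. -/
theorem exists_groupAlgebra_action {k : Type v} [Field k] [IsAlgClosed k] {G : Type u} [Group G]
    [Fintype G] {ι : Type*} [Fintype ι] (F : Cfsg.Agent.Helper16.SimpleRepFamily k G ι)
    (f : ∀ i, F.V i →ₗ[k] F.V i) : ∃ a : G → k, ∀ i, ∑ g : G, a g • F.ρ i g = f i := by
  classical
  let B : ι → Type u := fun i => Module.Free.ChooseBasisIndex k (F.V i)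
  let b : ∀ i, Module.Basis (B i) k (F.V i) := fun i => Module.Free.chooseBasis k (F.V i)
  let X : (Σ i, B i) → ∀ i, F.V i := fun j => Pi.single j.1 (b j.1 j.2)
  have hX : ∀ j, ∃ (i : ι) (w : F.V i), X j = Pi.single i w := fun j => ⟨j.1, _, rfl⟩
  -- separating elements
  have hsep : ∀ j₀ : (Σ i, B i), ∃ a : MonoidAlgebra k G,
      (∀ j, j ≠ j₀ → actM F a (X j) = 0) ∧ act F j₀.1 a (b j₀.1 j₀.2) ≠ 0 := by
    intro j₀
    by_contra hcon
    have hcon' : ∀ a : MonoidAlgebra k G, (∀ j, j ≠ j₀ → actM F a (X j) = 0) →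
        act F j₀.1 a (b j₀.1 j₀.2) = 0 := by
      intro a ha
      by_contra hne
      exact hcon ⟨a, ha, hne⟩
    have h1 := mem_span_of_annihilated F X hX (Finset.univ.erase j₀) (X j₀) (by
      intro a ha
      have h := hcon' a (fun j hj => ha j (Finset.mem_erase.mpr ⟨hj, Finset.mem_univ _⟩))
      show actM F a (Pi.single j₀.1 (b j₀.1 j₀.2)) = 0
      rw [actM_single, h, Pi.single_zero])
    let ℓ : (∀ i, F.V i) →ₗ[k] k := ((b j₀.1).coord j₀.2).comp (LinearMap.proj j₀.1)
    have h2 : ℓ (X j₀) = 1 := by
      show (b j₀.1).coord j₀.2 ((Pi.single j₀.1 (b j₀.1 j₀.2) : ∀ i, F.V i) j₀.1) = 1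
      rw [Pi.single_eq_same, Module.Basis.coord_apply, Module.Basis.repr_self,
        Finsupp.single_eq_same]
    have h3 : Submodule.span k (X '' ((Finset.univ.erase j₀ : Finset (Σ i, B i)) : Set (Σ i, B i))) ≤
        LinearMap.ker ℓ := by
      rw [Submodule.span_le]
      rintro _ ⟨j, hj, rfl⟩
      have hne : j ≠ j₀ := (Finset.mem_erase.mp hj).1
      show ℓ (X j) = 0
      obtain ⟨i, b'⟩ := j
      obtain ⟨i₀, b₀⟩ := j₀
      show (b i₀).coord b₀ ((Pi.single i (b i b') : ∀ i, F.V i) i₀) = 0
      by_cases hi : i₀ = i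
      · subst hi
        have hb : b' ≠ b₀ := fun h => hne (by rw [h])
        rw [Pi.single_eq_same, Module.Basis.coord_apply, Module.Basis.repr_self,
          Finsupp.single_eq_of_ne (Ne.symm hb)]
      · rw [Pi.single_eq_of_ne hi, map_zero]
    have h4 := h3 h1
    rw [LinearMap.mem_ker, h2] at h4
    exact one_ne_zero h4
  choose α hα0 hα1 using hsep
  -- cyclic generation
  have hgen : ∀ j₀ : (Σ i, B i), ∃ β : MonoidAlgebra k G,
      act F j₀.1 β (act F j₀.1 (α j₀) (b j₀.1 j₀.2)) = f j₀.1 (b j₀.1 j₀.2) := by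
    intro j₀
    let v₀ : F.V j₀.1 := act F j₀.1 (α j₀) (b j₀.1 j₀.2)
    let ev : MonoidAlgebra k G →ₗ[k] F.V j₀.1 :=
      (LinearMap.applyₗ v₀).comp (act F j₀.1).toLinearMap
    have hev : ∀ β, ev β = act F j₀.1 β v₀ := fun β => rfl
    let S : Subrepresentation (F.ρ j₀.1) :=
      { toSubmodule := LinearMap.range ev
        apply_mem_toSubmodule := by
          rintro g _ ⟨β, rfl⟩
          refine ⟨MonoidAlgebra.of k G g * β, ?_⟩
          rw [hev, hev]
          exact act_of_mul F j₀.1 g β v₀ }
    have hirr := F.irr j₀.1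
    have hS : S = ⊤ := by
      rcases eq_bot_or_eq_top S with h | h
      · exfalso
        have h1 : v₀ ∈ S.toSubmodule := ⟨1, by rw [hev, map_one]; rfl⟩
        rw [h] at h1
        exact hα1 j₀ ((Submodule.mem_bot k).mp h1)
      · exact h
    have hsurj : LinearMap.range ev = ⊤ := congrArg Subrepresentation.toSubmodule hS
    have h1 : f j₀.1 (b j₀.1 j₀.2) ∈ LinearMap.range ev := by rw [hsurj]; trivial
    obtain ⟨β, hβ⟩ := h1
    exact ⟨β, hβ⟩
  choose β hβ using hgen
  let γ : MonoidAlgebra k G := ∑ j : (Σ i, B i), β j * α j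
  refine ⟨fun g => γ.coeff g, fun i => ?_⟩
  have h1 : ∑ g : G, γ.coeff g • F.ρ i g = act F i γ := by
    show _ = (F.ρ i).asAlgebraHom γ
    rw [asAlgebraHom_def, MonoidAlgebra.lift_apply, Finsupp.sum_fintype]
    intro g
    exact zero_smul _ _
  rw [h1]
  apply (b i).ext
  intro b₀
  rw [map_sum, LinearMap.sum_apply]
  rw [Finset.sum_eq_single (⟨i, b₀⟩ : Σ i, B i)]
  · rw [map_mul]
    exact hβ ⟨i, b₀⟩
  · intro j _ hj
    have h2 := hα0 j ⟨i, b₀⟩ (Ne.symm hj)
    have h3 : actM F (α j) (Pi.single i (b i b₀)) = 0 := h2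
    rw [actM_single] at h3
    have h4 := congrFun h3 i
    rw [Pi.single_eq_same] at h4
    rw [map_mul]
    show act F i (β j) (act F i (α j) (b i b₀)) = 0
    rw [h4]
    exact map_zero _
  · intro h
    exact absurd (Finset.mem_univ _) h

end Cfsg.Agent.Helper34.Density
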