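import Mathlib

/-!
# A baby Hall–Higman lemma (helper34)

Let `A` be a commutative group of exponent `p`, `R` a finite commutative subgroup of `MulAut A` of
order prime to `p`, and `a ∈ MulAut A` normalizing `R` such that the norm operator
`m ↦ ∏ i < p, a ^ i m` is trivial.  Then `a` commutes with `R` (`commute_of_norm_trivial`).

The norm operator is trivial as soon as `(a - 1) ^ (p - 1) = 0`, that is, when the `(p-1)`-fold
iterate of `m ↦ a m * m⁻¹` is trivial (`norm_trivial_of_engel`); for odd `p` this covers quadratic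
action.
-/

set_option autoImplicit false

namespace Cfsg.Agent.Helper34

open Finset

section general

variable {Γ : Type*} [Group Γ]

theorem conj_pow_mem_of_conj_mem {R : Subgroup Γ} {a : Γ} (ha : ∀ x ∈ R, a * x * a⁻¹ ∈ R) (i : ℕ) :
    ∀ x ∈ R, a ^ i * x * (a ^ i)⁻¹ ∈ R := by
  induction i with
  | zero => intro x hx; simpa using hx
  | succ i ih =>
    intro x hx
    have h1 := ha _ (ih x hx)
    have h2 : a ^ (i + 1) * x * (a ^ (i + 1))⁻¹ = a * (a ^ i * x * (a ^ i)⁻¹) * a⁻¹ := by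
      rw [pow_succ']; group
    rw [h2]; exact h1

theorem commute_of_commute_pow {a x : Γ} {p i : ℕ} (hp : p.Prime) (hap : a ^ p = 1)
    (hi0 : 0 < i) (hip : i < p) (h : Commute (a ^ i) x) : Commute a x := by
  have hcop : Nat.Coprime i p :=
    ((Nat.Prime.coprime_iff_not_dvd hp).mpr (Nat.not_dvd_of_pos_of_lt hi0 hip)).symm
  obtain ⟨j, -, hj⟩ := Nat.exists_mul_mod_eq_one_of_coprime hcop hp.one_lt
  have h1 : a ^ (i * j) = a := by
    have h2 := Nat.div_add_mod (i * j) p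
    rw [← h2, hj, pow_add, pow_mul, hap, one_pow, one_mul, pow_one]
  rw [← h1, pow_mul]
  exact h.pow_left j

end general

section core

variable {A : Type*} [CommGroup A] {p : ℕ} [hp : Fact p.Prime]

omit hp in
theorem pow_eq_one_of_norm_trivial (a : MulAut A) (p : ℕ)
    (hTr : ∀ m : A, ∏ i ∈ range p, (a ^ i) m = 1) : a ^ p = 1 := by
  ext m
  have h1 := hTr m
  have h2 : a (∏ i ∈ range p, (a ^ i) m) = 1 := by rw [h1, map_one]
  rw [map_prod] at h2
  have h3 : ∀ i, a ((a ^ i) m) = (a ^ (i + 1)) m := by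
    intro i; rw [pow_succ']; rfl
  simp only [h3] at h2
  have h4 := Finset.prod_range_succ (fun i => (a ^ i) m) p
  have h5 := Finset.prod_range_succ' (fun i => (a ^ i) m) p
  rw [h4, h1, h2] at h5
  simpa using h5

/-- The fixed-point-free case. -/
theorem eq_one_of_norm_trivial_of_fpf (hexp : ∀ m : A, m ^ p = 1)
    (R : Subgroup (MulAut A)) [Finite R]
    (hRp : (Nat.card R).Coprime p) (a : MulAut A) (ha : ∀ x ∈ R, a * x * a⁻¹ ∈ R)
    (hTr : ∀ m : A, ∏ i ∈ range p, (a ^ i) m = 1)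
    (hfpf : ∀ x ∈ R, a * x = x * a → x = 1) : ∀ x ∈ R, x = 1 := by
  classical
  have : Fintype R := Fintype.ofFinite R
  have hap : a ^ p = 1 := pow_eq_one_of_norm_trivial a p hTr
  have hconj := conj_pow_mem_of_conj_mem ha
  -- the maps `f i`
  let f : ℕ → R → R := fun i s =>
    ⟨(s : MulAut A)⁻¹ * (a ^ i * s * (a ^ i)⁻¹), R.mul_mem (R.inv_mem s.2) (hconj i s s.2)⟩
  have hfinj : ∀ i, 0 < i → i < p → Function.Injective (f i) := by
    intro i hi0 hip s s' hss'
    have h1 : (s : MulAut A)⁻¹ * (a ^ i * s * (a ^ i)⁻¹) =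
        (s' : MulAut A)⁻¹ * (a ^ i * s' * (a ^ i)⁻¹) := congrArg Subtype.val hss'
    have hxR : (s : MulAut A) * (s' : MulAut A)⁻¹ ∈ R := R.mul_mem s.2 (R.inv_mem s'.2)
    have hcomm : a ^ i * ((s : MulAut A) * (s' : MulAut A)⁻¹) * (a ^ i)⁻¹ =
        (s : MulAut A) * (s' : MulAut A)⁻¹ := by
      have e1 : a ^ i * ((s : MulAut A) * (s' : MulAut A)⁻¹) * (a ^ i)⁻¹ =
          (a ^ i * s * (a ^ i)⁻¹) * (a ^ i * s' * (a ^ i)⁻¹)⁻¹ := by group
      have e2 : a ^ i * s * (a ^ i)⁻¹ =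
          s * ((s' : MulAut A)⁻¹ * (a ^ i * s' * (a ^ i)⁻¹)) := by rw [← h1]; group
      rw [e1, e2]; group
    have hcomm' : Commute (a ^ i) ((s : MulAut A) * (s' : MulAut A)⁻¹) :=
      mul_inv_eq_iff_eq_mul.mp hcomm
    have h2 := commute_of_commute_pow hp.1 hap hi0 hip hcomm'
    have hx1 := hfpf _ hxR h2.eq
    exact Subtype.ext (mul_inv_eq_one.mp hx1)
  have hfbij : ∀ i, 0 < i → i < p → Function.Bijective (f i) := fun i h0 h1 =>
    Finite.injective_iff_bijective.mp (hfinj i h0 h1)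
  -- the averaging operator
  let σ : A →* A := ∏ t : R, ((t : MulAut A) : A ≃* A).toMonoidHom
  have hσ_apply : ∀ m, σ m = ∏ t : R, (t : MulAut A) m := by
    intro m
    simp only [σ, MonoidHom.finsetProd_apply]
    rfl
  have hkey : ∀ i, 0 < i → i < p → ∀ m : A,
      ∏ s : R, (s : MulAut A)⁻¹ ((a ^ i) ((s : MulAut A) m)) = σ ((a ^ i) m) := by
    intro i h0 hip m
    have h1 : ∀ s : R, (s : MulAut A)⁻¹ ((a ^ i) ((s : MulAut A) m)) =
        ((f i s : R) : MulAut A) ((a ^ i) m) := by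
      intro s
      show ((s : MulAut A)⁻¹ * a ^ i * s) m =
        ((s : MulAut A)⁻¹ * (a ^ i * s * (a ^ i)⁻¹) * a ^ i) m
      congr 1; group
    simp only [h1]
    rw [hσ_apply]
    exact Fintype.prod_bijective (f i) (hfbij i h0 hip) _ _ (fun s => rfl)
  -- main computation
  have hσ : ∀ m : A, σ m = m ^ Nat.card R := by
    intro m
    have h0 : ∏ s : R, (s : MulAut A)⁻¹ (∏ i ∈ range p, (a ^ i) ((s : MulAut A) m)) = 1 := by
      apply Finset.prod_eq_one
      intro s _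
      rw [hTr, map_one]
    simp only [map_prod] at h0
    rw [Finset.prod_comm] at h0
    obtain ⟨p', hp'⟩ : ∃ p', p = p' + 1 := ⟨p - 1, (Nat.succ_pred_eq_of_pos hp.1.pos).symm⟩
    rw [hp', Finset.prod_range_succ'] at h0
    have h1 : ∏ s : R, (s : MulAut A)⁻¹ ((a ^ 0) ((s : MulAut A) m)) = m ^ Nat.card R := by
      have : ∀ s : R, (s : MulAut A)⁻¹ ((a ^ 0) ((s : MulAut A) m)) = m := by
        intro s
        show ((s : MulAut A)⁻¹ * a ^ 0 * s) m = m
        simp
      simp only [this, Finset.prod_const, Finset.card_univ, Nat.card_eq_fintype_card]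
    have h2 : ∀ i ∈ range p', ∏ s : R, (s : MulAut A)⁻¹ ((a ^ (i + 1)) ((s : MulAut A) m)) =
        σ ((a ^ (i + 1)) m) := by
      intro i hi
      exact hkey (i + 1) (Nat.succ_pos i)
        (by rw [hp']; exact Nat.succ_lt_succ (Finset.mem_range.mp hi)) m
    rw [Finset.prod_congr rfl h2, h1, ← map_prod] at h0
    have h3 : ∏ i ∈ range p', (a ^ (i + 1)) m = m⁻¹ := by
      have h4 := hTr m
      rw [hp', Finset.prod_range_succ'] at h4
      have h5 : (a ^ 0) m = m := by simp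
      rw [h5] at h4
      exact eq_inv_of_mul_eq_one_left h4
    rw [h3, map_inv] at h0
    exact (inv_mul_eq_one.mp h0)
  -- conclusion
  intro r hr
  ext m
  show r m = m
  have h1 : r (σ m) = σ m := by
    rw [hσ_apply, map_prod]
    exact Fintype.prod_equiv (Equiv.mulLeft (⟨r, hr⟩ : R)) _ _ (fun t => rfl)
  rw [hσ, map_pow] at h1
  have h2 : (r m * m⁻¹) ^ Nat.card R = 1 := by
    rw [mul_pow, inv_pow, h1, mul_inv_cancel]
  have h3 : (r m * m⁻¹) ^ p = 1 := hexp _
  have h4 : (r m * m⁻¹) ^ Nat.gcd (Nat.card R) p = 1 := pow_gcd_eq_one.mpr ⟨h2, h3⟩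
  rw [Nat.Coprime.gcd_eq_one hRp, pow_one] at h4
  exact mul_inv_eq_one.mp h4

/-- **Baby Hall–Higman**: if the norm operator of `a` is trivial, `a` centralizes every finite
commutative `p'`-subgroup of `MulAut A` which it normalizes. -/
theorem commute_of_norm_trivial (hexp : ∀ m : A, m ^ p = 1)
    (R : Subgroup (MulAut A)) [Finite R] (hRc : ∀ x ∈ R, ∀ y ∈ R, x * y = y * x)
    (hRp : (Nat.card R).Coprime p) (a : MulAut A) (ha : ∀ x ∈ R, a * x * a⁻¹ ∈ R)
    (hTr : ∀ m : A, ∏ i ∈ range p, (a ^ i) m = 1) : ∀ x ∈ R, a * x = x * a := by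
  have hap : a ^ p = 1 := pow_eq_one_of_norm_trivial a p hTr
  let R₁ : Subgroup (MulAut A) :=
    { carrier := {t | ∃ s ∈ R, t = s⁻¹ * (a * s * a⁻¹)}
      one_mem' := ⟨1, R.one_mem, by group⟩
      mul_mem' := by
        rintro t₁ t₂ ⟨s₁, hs₁, rfl⟩ ⟨s₂, hs₂, rfl⟩
        refine ⟨s₁ * s₂, R.mul_mem hs₁ hs₂, ?_⟩
        have hc : (s₁⁻¹ * (a * s₁ * a⁻¹)) * s₂⁻¹ = s₂⁻¹ * (s₁⁻¹ * (a * s₁ * a⁻¹)) :=
          hRc _ (R.mul_mem (R.inv_mem hs₁) (ha s₁ hs₁)) _ (R.inv_mem hs₂)
        calc s₁⁻¹ * (a * s₁ * a⁻¹) * (s₂⁻¹ * (a * s₂ * a⁻¹))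
            = (s₁⁻¹ * (a * s₁ * a⁻¹)) * s₂⁻¹ * (a * s₂ * a⁻¹) := by group
          _ = s₂⁻¹ * (s₁⁻¹ * (a * s₁ * a⁻¹)) * (a * s₂ * a⁻¹) := by rw [hc]
          _ = (s₁ * s₂)⁻¹ * (a * (s₁ * s₂) * a⁻¹) := by group
      inv_mem' := by
        rintro t ⟨s, hs, rfl⟩
        refine ⟨s⁻¹, R.inv_mem hs, ?_⟩
        have hc : (a * s⁻¹ * a⁻¹) * s = s * (a * s⁻¹ * a⁻¹) :=
          hRc _ (ha _ (R.inv_mem hs)) _ hs
        calc (s⁻¹ * (a * s * a⁻¹))⁻¹ = (a * s⁻¹ * a⁻¹) * s := by group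
          _ = s * (a * s⁻¹ * a⁻¹) := hc
          _ = s⁻¹⁻¹ * (a * s⁻¹ * a⁻¹) := by group }
  have hR₁R : R₁ ≤ R := by
    rintro t ⟨s, hs, rfl⟩
    exact R.mul_mem (R.inv_mem hs) (ha s hs)
  have : Finite R₁ := Finite.of_injective (Subgroup.inclusion hR₁R) (Subgroup.inclusion_injective hR₁R)
  have hR₁p : (Nat.card R₁).Coprime p :=
    Nat.Coprime.coprime_dvd_left (Subgroup.card_dvd_of_le hR₁R) hRp
  have ha₁ : ∀ x ∈ R₁, a * x * a⁻¹ ∈ R₁ := by
    rintro t ⟨s, hs, rfl⟩
    refine ⟨a * s * a⁻¹, ha s hs, ?_⟩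
    group
  have hfpf : ∀ x ∈ R₁, a * x = x * a → x = 1 := by
    rintro t ⟨s, hs, rfl⟩ hcomm
    set t := s⁻¹ * (a * s * a⁻¹) with ht
    have hk : ∀ k : ℕ, a ^ k * s * (a ^ k)⁻¹ = s * t ^ k := by
      intro k
      induction k with
      | zero => simp
      | succ k ih =>
        have h1 : a ^ (k + 1) * s * (a ^ (k + 1))⁻¹ = a * (a ^ k * s * (a ^ k)⁻¹) * a⁻¹ := by
          rw [pow_succ']; group
        have h2 : a * t ^ k * a⁻¹ = t ^ k := by
          have : Commute a (t ^ k) := (show Commute a t from hcomm).pow_right k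
          rw [this.eq]; group
        rw [h1, ih]
        calc a * (s * t ^ k) * a⁻¹ = (a * s * a⁻¹) * (a * t ^ k * a⁻¹) := by group
          _ = (a * s * a⁻¹) * t ^ k := by rw [h2]
          _ = s * (s⁻¹ * (a * s * a⁻¹)) * t ^ k := by group
          _ = s * t ^ (k + 1) := by rw [← ht, pow_succ', mul_assoc]
    have h3 := hk p
    rw [hap] at h3
    have h4 : t ^ p = 1 := by
      have : s = s * t ^ p := by simpa using h3
      exact (mul_eq_left).mp this.symm
    have htR : t ∈ R := hR₁R ⟨s, hs, rfl⟩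
    have h5 : t ^ Nat.card R = 1 := by
      have h6 : (⟨t, htR⟩ : R) ^ Nat.card R = 1 := pow_card_eq_one'
      have h7 : ((⟨t, htR⟩ : R) ^ Nat.card R : R).1 = (1 : R).1 := by rw [h6]
      simpa only [Subgroup.coe_pow, Subgroup.coe_one] using h7
    have h8 : t ^ Nat.gcd (Nat.card R) p = 1 := pow_gcd_eq_one.mpr ⟨h5, h4⟩
    rwa [Nat.Coprime.gcd_eq_one hRp, pow_one] at h8
  have hall := eq_one_of_norm_trivial_of_fpf hexp R₁ hR₁p a ha₁ hTr hfpf
  intro s hs
  have h1 : s⁻¹ * (a * s * a⁻¹) = 1 := hall _ ⟨s, hs, rfl⟩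
  have h2 : a * s * a⁻¹ = s := by
    have := congrArg (fun z => s * z) h1
    simpa [mul_assoc] using this
  exact mul_inv_eq_iff_eq_mul.mp h2

end core


section engel

/-- In a ring of characteristic `p`: `∑ i < p, a ^ i = (a - 1) ^ (p - 1)`. -/
theorem geom_sum_eq_sub_one_pow {E : Type*} [Ring E] {p : ℕ} [hp : Fact p.Prime]
    (hpE : (p : E) = 0) (a : E) : ∑ i ∈ range p, a ^ i = (a - 1) ^ (p - 1) := by
  let P : Polynomial ℤ := (Polynomial.X - 1) ^ (p - 1) - ∑ i ∈ range p, Polynomial.X ^ i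
  have hmap : P.map (Int.castRingHom (ZMod p)) = 0 := by
    simp only [P, Polynomial.map_sub, Polynomial.map_pow, Polynomial.map_X, Polynomial.map_one,
      Polynomial.map_sum]
    rw [sub_eq_zero]
    have hX : (Polynomial.X - 1 : Polynomial (ZMod p)) ≠ 0 := by
      have := Polynomial.X_sub_C_ne_zero (1 : ZMod p)
      simpa using this
    apply mul_left_cancel₀ hX
    rw [← pow_succ', Nat.sub_add_cancel hp.1.one_le, mul_geom_sum, sub_pow_char, one_pow]
  have hdvd : Polynomial.C (p : ℤ) ∣ P := by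
    rw [Polynomial.C_dvd_iff_dvd_coeff]
    intro i
    have h1 := congrArg (fun q => q.coeff i) hmap
    simp only [Polynomial.coeff_map, Polynomial.coeff_zero] at h1
    exact (ZMod.intCast_zmod_eq_zero_iff_dvd _ p).mp h1
  obtain ⟨h, hh⟩ := hdvd
  have heval := congrArg (Polynomial.aeval a) hh
  simp only [P, map_sub, map_pow, Polynomial.aeval_X, map_one, map_sum, map_mul,
    Polynomial.aeval_C, algebraMap_int_eq, Int.coe_castRingHom, Int.cast_natCast, hpE,
    zero_mul] at heval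
  exact (sub_eq_zero.mp heval).symm

variable {A : Type*} [CommGroup A] {p : ℕ} [hp : Fact p.Prime]

/-- If the `(p-1)`-fold iterate of `m ↦ a m * m⁻¹` is trivial on a commutative group of exponent
`p`, then the norm operator of `a` is trivial. -/
theorem norm_trivial_of_engel (hexp : ∀ m : A, m ^ p = 1) (a : MulAut A)
    (hE : ∀ m : A, (fun x : A => a x * x⁻¹)^[p - 1] m = 1) :
    ∀ m : A, ∏ i ∈ range p, (a ^ i) m = 1 := by
  let a' : AddMonoid.End (Additive A) := MonoidHom.toAdditive (a : A ≃* A).toMonoidHom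
  have hpE : ((p : ℕ) : AddMonoid.End (Additive A)) = 0 := by
    ext x
    rw [AddMonoid.End.natCast_apply]
    show Additive.ofMul ((Additive.toMul x) ^ p) = 0
    rw [hexp]; rfl
  have hpow : ∀ (k : ℕ) (m : A), (a' ^ k) (Additive.ofMul m) = Additive.ofMul ((a ^ k) m) := by
    intro k
    induction k with
    | zero => intro m; simp
    | succ k ih =>
      intro m
      rw [pow_succ', pow_succ']
      show a' ((a' ^ k) (Additive.ofMul m)) = _
      rw [ih]
      rfl
  have hsub1 : ∀ y : A, (a' - 1) (Additive.ofMul y) = Additive.ofMul (a y * y⁻¹) := by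
    intro y
    show Additive.ofMul (a y) - Additive.ofMul y = _
    rw [← ofMul_div, div_eq_mul_inv]
  have hsub : ∀ (k : ℕ) (m : A), ((a' - 1) ^ k) (Additive.ofMul m) =
      Additive.ofMul ((fun x : A => a x * x⁻¹)^[k] m) := by
    intro k
    induction k with
    | zero => intro m; simp
    | succ k ih =>
      intro m
      rw [pow_succ', Function.iterate_succ_apply']
      show (a' - 1) (((a' - 1) ^ k) (Additive.ofMul m)) = _
      rw [ih, hsub1]
  intro m
  have h1 := geom_sum_eq_sub_one_pow hpE a'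
  have h2 : (∑ i ∈ range p, a' ^ i) (Additive.ofMul m) =
      ((a' - 1) ^ (p - 1)) (Additive.ofMul m) := by rw [h1]
  rw [hsub, hE] at h2
  have h3 : (∑ i ∈ range p, a' ^ i) (Additive.ofMul m) =
      Additive.ofMul (∏ i ∈ range p, (a ^ i) m) := by
    rw [ofMul_prod]
    have : (∑ i ∈ range p, a' ^ i) (Additive.ofMul m) =
        ∑ i ∈ range p, (a' ^ i) (Additive.ofMul m) := by
      exact AddMonoidHom.finsetSum_apply _ _ _
    rw [this]
    exact Finset.sum_congr rfl (fun i _ => hpow i m)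
  rw [h3] at h2
  exact Additive.ofMul.injective h2

end engel

end Cfsg.Agent.Helper34
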