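import Mathlib
import Cfsg.Agent.Helper48.CoprimeGen

/-!
# Groups `Z = T K` with `T` a maximal subgroup which is a `p`-group and `K` a normal `p'`-subgroup
(helper34)

* `eq_bot_or_eq_of_isCoatom` : a `T`-invariant subgroup of `K` is `⊥` or `K`;
* `commute_of_isCoatom` : `K` is commutative;
* `mem_of_mem_centralizer_of_isCoatom` : if moreover `Z` has no nontrivial normal `p`-subgroup
  and `T ⊔ K = ⊤` then `C_Z(K) ≤ K`.
-/

set_option autoImplicit false

namespace Cfsg.Agent.Helper34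

open Subgroup
open scoped Pointwise

section

variable {p : ℕ} [hp : Fact p.Prime] {Z : Type*} [Group Z]

omit hp in
theorem inf_eq_bot_of_isPGroup_of_coprime {T K : Subgroup Z} (hTp : IsPGroup p T)
    (hKc : (Nat.card K).Coprime p) : T ⊓ K = ⊥ := by
  rw [eq_bot_iff]
  intro x hx
  rw [Subgroup.mem_bot]
  obtain ⟨n, hn⟩ := hTp ⟨x, hx.1⟩
  have hn' : x ^ p ^ n = 1 := by
    have := congrArg Subtype.val hn
    simpa using this
  have hd1 : orderOf x ∣ p ^ n := orderOf_dvd_of_pow_eq_one hn'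
  have hd2 : orderOf x ∣ Nat.card K := Subgroup.orderOf_dvd_natCard K hx.2
  exact orderOf_eq_one_iff.mp (Nat.eq_one_of_dvd_coprimes (hKc.pow_right n) hd2 hd1)

omit hp in
/-- A `T`-invariant subgroup of `K` is trivial or all of `K`, when `T` is a maximal subgroup. -/
theorem eq_bot_or_eq_of_isCoatom {T K : Subgroup Z} (hTp : IsPGroup p T) (hTco : IsCoatom T)
    (hKc : (Nat.card K).Coprime p) {L : Subgroup Z} (hLK : L ≤ K)
    (hTL : T ≤ normalizer (L : Set Z)) : L = ⊥ ∨ L = K := by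
  have hTK : T ⊓ K = ⊥ := inf_eq_bot_of_isPGroup_of_coprime hTp hKc
  by_cases hH : T ⊔ L = T
  · left
    rw [eq_bot_iff, ← hTK]
    exact le_inf (hH ▸ le_sup_right) hLK
  · right
    have hlt : T < T ⊔ L := lt_of_le_of_ne le_sup_left (Ne.symm hH)
    have htop : T ⊔ L = ⊤ := hTco.2 _ hlt
    apply le_antisymm hLK
    intro k hk
    have hk' : k ∈ ((T ⊔ L : Subgroup Z) : Set Z) := by rw [htop]; trivial
    rw [Subgroup.coe_mul_of_left_le_normalizer_right T L hTL] at hk'
    obtain ⟨t, ht, l, hl, hprod⟩ := Set.mem_mul.mp hk'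
    have htK : t ∈ K := by
      have : t = k * l⁻¹ := by rw [← hprod]; group
      rw [this]
      exact K.mul_mem hk (K.inv_mem (hLK hl))
    have : t ∈ T ⊓ K := ⟨ht, htK⟩
    rw [hTK, Subgroup.mem_bot] at this
    rw [← hprod, this, one_mul]
    exact hl

/-- `K` is commutative when `T` is a maximal subgroup. -/
theorem commute_of_isCoatom [Finite Z] {T K : Subgroup Z} [hKn : K.Normal] (hTp : IsPGroup p T)
    (hTco : IsCoatom T) (hKc : (Nat.card K).Coprime p) :
    ∀ x ∈ K, ∀ y ∈ K, x * y = y * x := by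
  by_cases hK : K = ⊥
  · intro x hx y hy
    rw [hK, Subgroup.mem_bot] at hx hy
    rw [hx, hy]
  have hcard : Nat.card K ≠ 1 := fun h => hK (Subgroup.card_eq_one.mp h)
  obtain ⟨q, hq, hqK⟩ := Nat.exists_prime_and_dvd hcard
  have : Fact q.Prime := ⟨hq⟩
  have hpK : ¬ p ∣ Nat.card K := by
    intro h
    have := Nat.eq_one_of_dvd_coprimes hKc h (dvd_refl p)
    exact hp.1.one_lt.ne' this
  obtain ⟨S, hS⟩ := Helper48.exists_invariant_sylow K T le_normalizer_of_normal hTp hpK q
  have hSne : (S : Subgroup K) ≠ ⊥ := S.ne_bot_of_dvd_card hqK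
  -- the image of `S` in `Z`
  have hS'K : (S : Subgroup K).map K.subtype ≤ K := Subgroup.map_subtype_le _
  have hconj : ∀ a ∈ T, ∀ x ∈ (S : Subgroup K).map K.subtype,
      a * x * a⁻¹ ∈ (S : Subgroup K).map K.subtype := by
    rintro a ha _ ⟨x, hx, rfl⟩
    have hxK : a * (x : Z) * a⁻¹ ∈ K := hKn.conj_mem _ x.2 a
    exact ⟨⟨a * x * a⁻¹, hxK⟩, hS a ha x hx hxK, rfl⟩
  -- the centre of `S'`
  have hTZ : T ≤ normalizer (((S : Subgroup K).map K.subtype ⊓
      centralizer (((S : Subgroup K).map K.subtype : Subgroup Z) : Set Z) : Subgroup Z) : Set Z) := by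
    intro a ha
    have hone : ∀ b ∈ T, ∀ z ∈ (S : Subgroup K).map K.subtype ⊓
        centralizer (((S : Subgroup K).map K.subtype : Subgroup Z) : Set Z),
        b * z * b⁻¹ ∈ (S : Subgroup K).map K.subtype ⊓
          centralizer (((S : Subgroup K).map K.subtype : Subgroup Z) : Set Z) := by
      intro b hb z hz
      refine Subgroup.mem_inf.mpr ⟨hconj b hb z hz.1, ?_⟩
      rw [mem_centralizer_iff]
      intro s hs
      have h1 : b⁻¹ * s * b⁻¹⁻¹ ∈ (S : Subgroup K).map K.subtype :=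
        hconj b⁻¹ (T.inv_mem hb) s hs
      have h2 := (mem_centralizer_iff.mp hz.2) _ h1
      rw [inv_inv] at h2
      have e1 : s * (b * z * b⁻¹) = b * ((b⁻¹ * s * b) * z) * b⁻¹ := by group
      have e2 : b * z * b⁻¹ * s = b * (z * (b⁻¹ * s * b)) * b⁻¹ := by group
      rw [e1, e2, h2]
    rw [mem_normalizer_iff]
    intro z
    constructor
    · intro hz
      exact hone a ha z hz
    · intro hz
      have := hone a⁻¹ (T.inv_mem ha) _ hz
      have e : a⁻¹ * (a * z * a⁻¹) * a⁻¹⁻¹ = z := by group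
      rwa [e] at this
  have hZle : (S : Subgroup K).map K.subtype ⊓
      centralizer (((S : Subgroup K).map K.subtype : Subgroup Z) : Set Z) ≤ K :=
    inf_le_left.trans hS'K
  have hZne : (S : Subgroup K).map K.subtype ⊓
      centralizer (((S : Subgroup K).map K.subtype : Subgroup Z) : Set Z) ≠ ⊥ := by
    have hnt : Nontrivial ↥(S : Subgroup K) := (Subgroup.nontrivial_iff_ne_bot _).mpr hSne
    have hcn := IsPGroup.center_nontrivial S.2
    obtain ⟨z, hz⟩ := exists_ne (1 : center ↥(S : Subgroup K))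
    intro h0
    apply hz
    have hzmem : ((z : ↥(S : Subgroup K)) : K).1 ∈ (S : Subgroup K).map K.subtype ⊓
        centralizer (((S : Subgroup K).map K.subtype : Subgroup Z) : Set Z) := by
      refine Subgroup.mem_inf.mpr ⟨⟨(z : ↥(S : Subgroup K)), (z : ↥(S : Subgroup K)).2, rfl⟩, ?_⟩
      rw [mem_centralizer_iff]
      rintro _ ⟨s, hs, rfl⟩
      have h1 := (mem_center_iff.mp z.2) ⟨s, hs⟩
      have h2 := congrArg (fun w : ↥(S : Subgroup K) => ((w : K) : Z)) h1
      exact h2
    rw [h0, Subgroup.mem_bot] at hzmem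
    apply Subtype.ext
    apply Subtype.ext
    apply Subtype.ext
    exact hzmem
  rcases eq_bot_or_eq_of_isCoatom hTp hTco hKc hZle hTZ with h | h
  · exact absurd h hZne
  · intro x hx y hy
    rw [← h] at hx hy
    exact ((mem_centralizer_iff.mp hy.2) x hx.1)

omit hp in
/-- If `Z` has no nontrivial normal `p`-subgroup, `T ⊔ K = ⊤` and `K` is commutative normal, then
`C_Z(K) ≤ K`. -/
theorem mem_of_mem_centralizer_of_sup_eq_top {T K : Subgroup Z} [hKn : K.Normal]
    (hTp : IsPGroup p T) (hsup : T ⊔ K = ⊤)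
    (hKcomm : ∀ x ∈ K, ∀ y ∈ K, x * y = y * x)
    (hOp : ∀ D : Subgroup Z, D.Normal → IsPGroup p D → D = ⊥)
    {x : Z} (hx : x ∈ centralizer (K : Set Z)) : x ∈ K := by
  have hD : (T ⊓ centralizer (K : Set Z)).Normal := by
    constructor
    intro d hd z
    have hz : z ∈ ((T ⊔ K : Subgroup Z) : Set Z) := by rw [hsup]; trivial
    rw [Subgroup.mul_normal] at hz
    obtain ⟨t, ht, k, hk, hprod⟩ := Set.mem_mul.mp hz
    have h1 : k * d * k⁻¹ = d := by
      have := (mem_centralizer_iff.mp hd.2) k hk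
      rw [this]; group
    have e : z * d * z⁻¹ = t * (k * d * k⁻¹) * t⁻¹ := by rw [← hprod]; group
    rw [e, h1]
    refine Subgroup.mem_inf.mpr ⟨T.mul_mem (T.mul_mem ht hd.1) (T.inv_mem ht), ?_⟩
    exact (Subgroup.normal_centralizer (H := K)).conj_mem d hd.2 t
  have hDbot : T ⊓ centralizer (K : Set Z) = ⊥ := hOp _ hD (hTp.to_le inf_le_left)
  have hxz : x ∈ ((T ⊔ K : Subgroup Z) : Set Z) := by rw [hsup]; trivial
  rw [Subgroup.mul_normal] at hxz
  obtain ⟨t, ht, k, hk, hprod⟩ := Set.mem_mul.mp hxz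
  have htc : t ∈ centralizer (K : Set Z) := by
    have hkc : k ∈ centralizer (K : Set Z) := by
      rw [mem_centralizer_iff]
      intro y hy
      exact hKcomm y hy k hk
    have : t = x * k⁻¹ := by rw [← hprod]; group
    rw [this]
    exact Subgroup.mul_mem _ hx (Subgroup.inv_mem _ hkc)
  have : t ∈ T ⊓ centralizer (K : Set Z) := ⟨ht, htc⟩
  rw [hDbot, Subgroup.mem_bot] at this
  rw [← hprod, this, one_mul]
  exact hk

end

end Cfsg.Agent.Helper34
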