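import Mathlib
import Cfsg.Prelude.Def_Transfer
import Cfsg.Agent.Helper78.Frobenius
import Cfsg.Agent.Helper78.PNilpotent

/-!
# `p`-nilpotent groups in index form, and sections (helper34)

`PNil p X` : `X` has a normal subgroup of order prime to `p` and index a power of `p`.  For finite `X`
this is `Cfsg.HasNormalPComplement p X`.  Closure under subgroups, images, extensions by `p'`-groups.

`IsSec X Y` : `Y` is a homomorphic image of a subgroup of `X`.
-/

set_option autoImplicit false

namespace Cfsg.Agent.Helper34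

universe u v w

/-- `X` has a normal `p'`-subgroup of `p`-power index. -/
def PNil (p : ℕ) (X : Type*) [Group X] : Prop :=
  ∃ M : Subgroup X, M.Normal ∧ (Nat.card M).Coprime p ∧ ∃ k : ℕ, M.index = p ^ k

section PNil

variable {p : ℕ} [hp : Fact p.Prime] {X : Type u} {Y : Type v} [Group X] [Group Y]

theorem pnil_iff [Finite X] : PNil p X ↔ Cfsg.HasNormalPComplement p X := by
  constructor
  · rintro ⟨M, hMn, hMc, k, hk⟩
    obtain ⟨P⟩ : Nonempty (Sylow p X) := inferInstance
    exact ⟨P, M, hMn, Helper78.isComplement'_of_coprime_of_index P M hMc hk⟩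
  · rintro ⟨P, N, hNn, hN⟩
    obtain ⟨m, hm⟩ := IsPGroup.iff_card.mp P.2
    refine ⟨N, hNn, ?_, m, ?_⟩
    · rw [← hN.index_eq_card]
      exact ((Nat.Prime.coprime_iff_not_dvd hp.1).mpr P.not_dvd_index).symm
    · rw [← hm]; exact hN.symm.index_eq_card

theorem PNil.of_injective (h : PNil p X) (f : Y →* X) (hf : Function.Injective f) :
    PNil p Y := by
  obtain ⟨M, hMn, hMc, k, hk⟩ := h
  refine ⟨M.comap f, hMn.comap f, ?_, ?_⟩
  · exact Nat.Coprime.coprime_dvd_left (Subgroup.card_comap_dvd_of_injective M f hf) hMc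
  · have h1 : (M.comap f).index ∣ M.index := by
      rw [Subgroup.index_comap]; exact Subgroup.relIndex_dvd_index_of_normal M f.range
    rw [hk] at h1
    obtain ⟨j, _, hj⟩ := (Nat.dvd_prime_pow hp.1).mp h1
    exact ⟨j, hj⟩

theorem PNil.subgroup (h : PNil p X) (H : Subgroup X) : PNil p ↥H :=
  h.of_injective H.subtype H.subtype_injective

theorem PNil.of_surjective (h : PNil p X) (f : X →* Y) (hf : Function.Surjective f) :
    PNil p Y := by
  obtain ⟨M, hMn, hMc, k, hk⟩ := h
  refine ⟨M.map f, hMn.map f hf, ?_, ?_⟩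
  · exact Nat.Coprime.coprime_dvd_left (Subgroup.card_map_dvd M f) hMc
  · have h1 : (M.map f).index ∣ M.index := Subgroup.index_map_dvd M hf
    rw [hk] at h1
    obtain ⟨j, _, hj⟩ := (Nat.dvd_prime_pow hp.1).mp h1
    exact ⟨j, hj⟩

theorem PNil.of_mulEquiv (h : PNil p X) (e : X ≃* Y) : PNil p Y :=
  h.of_surjective e.toMonoidHom e.surjective

theorem pnil_congr (e : X ≃* Y) : PNil p X ↔ PNil p Y :=
  ⟨fun h => h.of_mulEquiv e, fun h => h.of_mulEquiv e.symm⟩

/-- A `p`-group is `p`-nilpotent. -/
theorem pnil_of_isPGroup [Finite X] (h : IsPGroup p X) : PNil p X := by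
  obtain ⟨k, hk⟩ := IsPGroup.iff_card.mp h
  refine ⟨⊥, inferInstance, ?_, k, ?_⟩
  · simp
  · rw [Subgroup.index_bot, hk]

omit hp in
/-- A `p'`-group is `p`-nilpotent. -/
theorem pnil_of_coprime (h : (Nat.card X).Coprime p) : PNil p X := by
  refine ⟨⊤, inferInstance, ?_, 0, ?_⟩
  · rwa [Subgroup.card_top]
  · simp

omit hp in
/-- An extension of a `p`-nilpotent group by a normal `p'`-subgroup is `p`-nilpotent. -/
theorem pnil_of_quotient [Finite X] (M : Subgroup X) [M.Normal] (hM : (Nat.card M).Coprime p)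
    (h : PNil p (X ⧸ M)) : PNil p X := by
  obtain ⟨M₁, hM₁n, hM₁c, k, hk⟩ := h
  refine ⟨M₁.comap (QuotientGroup.mk' M), hM₁n.comap _, ?_, k, ?_⟩
  · have h1 : Nat.card (M₁.comap (QuotientGroup.mk' M)) = Nat.card M₁ * Nat.card M := by
      have h2 := Subgroup.card_mul_index (M₁.comap (QuotientGroup.mk' M))
      have h3 := Subgroup.card_mul_index M₁
      have h4 := Subgroup.card_mul_index M
      rw [Subgroup.index_comap_of_surjective _ (QuotientGroup.mk'_surjective M)] at h2
      rw [Subgroup.index_eq_card M] at h4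
      have hpos : 0 < M₁.index := Nat.pos_of_ne_zero Subgroup.index_ne_zero_of_finite
      have : Nat.card (M₁.comap (QuotientGroup.mk' M)) * M₁.index =
          Nat.card M₁ * Nat.card M * M₁.index := by
        rw [h2, ← h4, ← h3]; ring
      exact Nat.eq_of_mul_eq_mul_right hpos this
    rw [h1]
    exact Nat.Coprime.mul_left hM₁c hM
  · rw [Subgroup.index_comap_of_surjective _ (QuotientGroup.mk'_surjective M), hk]

omit hp in
/-- In a `p`-nilpotent group, a normal `p`-subgroup commutes with the normal `p`-complement,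
so the complement centralizes it: if moreover `C(Q) ≤ Q`, the complement is trivial and the group
is a `p`-group. -/
theorem PNil.isPGroup_of_centralizer_le [Finite X] (h : PNil p X) (Q : Subgroup X) [hQn : Q.Normal]
    (hQ : IsPGroup p Q) (hC : Subgroup.centralizer (Q : Set X) ≤ Q) : IsPGroup p X := by
  obtain ⟨M, hMn, hMc, k, hk⟩ := h
  have hdisj : Q ⊓ M = ⊥ := by
    rw [eq_bot_iff]
    intro x hx
    rw [Subgroup.mem_bot]
    obtain ⟨a, ha⟩ := hQ ⟨x, hx.1⟩
    have ha' : x ^ p ^ a = 1 := by
      have := congrArg Subtype.val ha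
      simpa using this
    have hd1 : orderOf x ∣ p ^ a := orderOf_dvd_of_pow_eq_one ha'
    have hd2 : orderOf x ∣ Nat.card M := Subgroup.orderOf_dvd_natCard M hx.2
    exact orderOf_eq_one_iff.mp (Nat.eq_one_of_dvd_coprimes (hMc.pow_right a) hd2 hd1)
  have hMle : M ≤ Subgroup.centralizer (Q : Set X) := by
    intro m hm
    rw [Subgroup.mem_centralizer_iff]
    intro q hq
    have h1 : q * m * q⁻¹ * m⁻¹ ∈ Q ⊓ M := by
      refine ⟨?_, ?_⟩
      · have : q * m * q⁻¹ * m⁻¹ = q * (m * q⁻¹ * m⁻¹) := by group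
        rw [this]
        exact Q.mul_mem hq (hQn.conj_mem _ (Q.inv_mem hq) m)
      · exact M.mul_mem (hMn.conj_mem _ hm q) (M.inv_mem hm)
    rw [hdisj, Subgroup.mem_bot] at h1
    have : q * m = q * m * q⁻¹ * m⁻¹ * (m * q) := by group
    rw [this, h1, one_mul]
  have hMbot : M = ⊥ := by
    rw [eq_bot_iff, ← hdisj]
    exact le_inf (hMle.trans hC) le_rfl
  rw [hMbot, Subgroup.index_bot] at hk
  exact IsPGroup.of_card hk

end PNil

/-! ### Sections -/

/-- `Y` is a section of `X`: a homomorphic image of a subgroup of `X`. -/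
def IsSec (X : Type u) (Y : Type v) [Group X] [Group Y] : Prop :=
  ∃ (K : Subgroup X) (f : ↥K →* Y), Function.Surjective f

section IsSec

variable {X : Type u} {Y : Type v} {Z : Type w} [Group X] [Group Y] [Group Z]

theorem isSec_refl (X : Type u) [Group X] : IsSec X X :=
  ⟨⊤, (Subgroup.topEquiv : (⊤ : Subgroup X) ≃* X).toMonoidHom, Subgroup.topEquiv.surjective⟩

theorem isSec_of_surjective (f : X →* Y) (hf : Function.Surjective f) : IsSec X Y :=
  ⟨⊤, f.comp (Subgroup.topEquiv : (⊤ : Subgroup X) ≃* X).toMonoidHom,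
    hf.comp Subgroup.topEquiv.surjective⟩

theorem isSec_subgroup (H : Subgroup X) : IsSec X ↥H :=
  ⟨H, MonoidHom.id _, Function.surjective_id⟩

/-- A section of a subgroup is a section. -/
theorem IsSec.of_subgroup {H : Subgroup X} (h : IsSec ↥H Z) : IsSec X Z := by
  obtain ⟨K, f, hf⟩ := h
  refine ⟨K.map H.subtype,
    f.comp (K.equivMapOfInjective H.subtype H.subtype_injective).symm.toMonoidHom, ?_⟩
  exact hf.comp (K.equivMapOfInjective H.subtype H.subtype_injective).symm.surjective

/-- A section of a homomorphic image is a section. -/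
theorem IsSec.of_surjective (π : X →* Y) (hπ : Function.Surjective π) (h : IsSec Y Z) :
    IsSec X Z := by
  obtain ⟨K, f, hf⟩ := h
  refine ⟨K.comap π, f.comp (π.subgroupComap K), ?_⟩
  exact hf.comp (π.subgroupComap_surjective_of_surjective K hπ)

/-- Sections of sections are sections. -/
theorem IsSec.trans (h₁ : IsSec X Y) (h₂ : IsSec Y Z) : IsSec X Z := by
  obtain ⟨K, f, hf⟩ := h₁
  exact (h₂.of_surjective f hf).of_subgroup

theorem IsSec.card_le [Finite X] (h : IsSec X Y) : Nat.card Y ≤ Nat.card X := by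
  obtain ⟨K, f, hf⟩ := h
  calc Nat.card Y ≤ Nat.card K := Nat.card_le_card_of_surjective f hf
    _ ≤ Nat.card X := Nat.card_le_card_of_injective _ K.subtype_injective

theorem IsSec.finite [Finite X] (h : IsSec X Y) : Finite Y := by
  obtain ⟨K, f, hf⟩ := h
  exact Finite.of_surjective f hf

end IsSec

end Cfsg.Agent.Helper34
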