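import Mathlib
import Cfsg.Prelude.Def_PLocal
import Cfsg.Prelude.Def_LocalEven
import Cfsg.Agent.Lib.Cores
import Cfsg.Agent.Helper34.PNil
import Cfsg.Agent.Helper34.BabyHH
import Cfsg.Agent.Helper34.MaxSylow

/-!
# Baby Hall–Higman in groups with a maximal Sylow subgroup (helper34)

`commutator_le_of_engel_of_maxSylow` : let `Y` be a finite group such that `Y / O_p(Y)` is
`p`-nilpotent and a Sylow `p`-subgroup of `Y` is a maximal subgroup.  If `U / V` is a chief factor of
`Y` with `U ≤ O_p(Y)` and `g ∈ Y` satisfies `[U, g; p - 1] ≤ V`, then `[U, g] ≤ V`.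
-/

set_option autoImplicit false

namespace Cfsg.Agent.Helper34

universe u

open Subgroup
open scoped commutatorElement

section FP

variable {p : ℕ} [hp : Fact p.Prime]

/-- A normal subgroup `D` inducing a `p`-group of automorphisms on a minimal normal `p`-subgroup `N`
centralizes `N`. -/
theorem le_centralizer_of_minimal_normal {Z : Type*} [Group Z] [Finite Z] {N : Subgroup Z}
    [hNn : N.Normal] (hNp : IsPGroup p N) (hNne : N ≠ ⊥)
    (hmin : ∀ M : Subgroup Z, M.Normal → M ≤ N → M = ⊥ ∨ M = N) (D : Subgroup Z) [hDn : D.Normal]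
    (hD : ∀ d ∈ D, ∃ k : ℕ, ∀ n ∈ N, d ^ p ^ k * n = n * d ^ p ^ k) :
    N ≤ centralizer (D : Set Z) := by
  have hP : IsPGroup p ↥(D.map (MulAut.conjNormal (H := N))) := by
    rintro ⟨_, d, hd, rfl⟩
    obtain ⟨k, hk⟩ := hD d hd
    refine ⟨k, ?_⟩
    apply Subtype.ext
    rw [Subgroup.coe_pow, Subgroup.coe_one, ← map_pow]
    ext n
    rw [MulAut.conjNormal_apply, MulAut.one_apply, hk n n.2]
    group
  have hdvd : p ∣ Nat.card ↥N := by
    obtain ⟨n, hn⟩ := hNp.exists_card_eq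
    rcases Nat.eq_zero_or_pos n with h0 | h0
    · exfalso
      apply hNne
      rw [h0, pow_zero] at hn
      exact Subgroup.card_eq_one.mp hn
    · rw [hn]
      exact dvd_pow_self p h0.ne'
  have h1 : (1 : ↥N) ∈ MulAction.fixedPoints ↥(D.map (MulAut.conjNormal (H := N))) ↥N := by
    intro φ
    show (φ : MulAut ↥N) 1 = 1
    exact map_one _
  obtain ⟨b, hb, hb1⟩ := hP.exists_fixed_point_of_prime_dvd_card_of_fixed_point (α := ↥N) hdvd h1
  have hF : (N ⊓ centralizer (D : Set Z)).Normal := inferInstance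
  have hbF : (b : Z) ∈ N ⊓ centralizer (D : Set Z) := by
    refine Subgroup.mem_inf.mpr ⟨b.2, ?_⟩
    rw [mem_centralizer_iff]
    intro d hd
    have h2 := hb ⟨MulAut.conjNormal d, d, hd, rfl⟩
    have h3 : (MulAut.conjNormal d b : ↥N) = b := h2
    have h4 := congrArg Subtype.val h3
    rw [MulAut.conjNormal_apply] at h4
    exact (mul_inv_eq_iff_eq_mul.mp h4)
  rcases hmin _ hF inf_le_left with h | h
  · exfalso
    rw [h, Subgroup.mem_bot] at hbF
    apply hb1
    exact (Subtype.ext hbF).symm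
  · rw [← h]
    exact inf_le_right

end FP

section gen

variable {p : ℕ} [hp : Fact p.Prime]

/-- Baby Hall–Higman for a group acting on a commutative group of exponent `p` through a
group `Y` with `Y/O_p(Y)` `p`-nilpotent and maximal Sylow `p`-subgroup. -/
theorem eq_one_of_norm_trivial_of_maxSylow {Y : Type u} [Group Y] [Finite Y]
    {A : Type*} [CommGroup A] (hexp : ∀ m : A, m ^ p = 1) (φ : Y →* MulAut A)
    (hQ : Cfsg.pCore p Y ≤ φ.ker)
    (hquot : PNil p (Y ⧸ Cfsg.pCore p Y)) (T : Sylow p Y) (hT : IsCoatom (T : Subgroup Y))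
    (hirr : (∀ d : Y, ∃ k : ℕ, φ d ^ p ^ k = 1) → ∀ d : Y, φ d = 1)
    (g : Y) (hTr : ∀ m : A, ∏ i ∈ Finset.range p, ((φ g) ^ i) m = 1) : φ g = 1 := by
  have hπ : Function.Surjective (QuotientGroup.mk' (Cfsg.pCore p Y)) :=
    QuotientGroup.mk'_surjective _
  have hρ' : ∀ y : Y, QuotientGroup.lift (Cfsg.pCore p Y) φ hQ
      (QuotientGroup.mk' (Cfsg.pCore p Y) y) = φ y := fun y => rfl
  obtain ⟨Kb, hKbn, hKbc, k, hk⟩ := hquot
  have hTbp : IsPGroup p ↥((T : Subgroup Y).map (QuotientGroup.mk' (Cfsg.pCore p Y))) :=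
    T.2.map _
  have hQT : Cfsg.pCore p Y ≤ (T : Subgroup Y) := Lib.pCore_le_sylow T
  have hcomapT : ((T : Subgroup Y).map (QuotientGroup.mk' (Cfsg.pCore p Y))).comap
      (QuotientGroup.mk' (Cfsg.pCore p Y)) = (T : Subgroup Y) := by
    rw [Subgroup.comap_map_eq, QuotientGroup.ker_mk', sup_eq_left.mpr hQT]
  have hTbco : IsCoatom ((T : Subgroup Y).map (QuotientGroup.mk' (Cfsg.pCore p Y))) := by
    constructor
    · intro htop
      apply hT.1
      rw [← hcomapT, htop, Subgroup.comap_top]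
    · intro Hb hHb
      have h1 : (T : Subgroup Y) < Hb.comap (QuotientGroup.mk' (Cfsg.pCore p Y)) := by
        have hle : (T : Subgroup Y) ≤ Hb.comap (QuotientGroup.mk' (Cfsg.pCore p Y)) := by
          rw [← Subgroup.map_le_iff_le_comap]; exact hHb.le
        refine lt_of_le_of_ne hle ?_
        intro heq
        apply hHb.ne
        rw [heq, Subgroup.map_comap_eq_self_of_surjective hπ]
      have h2 := hT.2 _ h1
      rw [← Subgroup.map_comap_eq_self_of_surjective hπ Hb, h2,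
        Subgroup.map_top_of_surjective _ hπ]
  have hsup : (T : Subgroup Y).map (QuotientGroup.mk' (Cfsg.pCore p Y)) ⊔ Kb = ⊤ := by
    have hidx1 : ((T : Subgroup Y).map (QuotientGroup.mk' (Cfsg.pCore p Y)) ⊔ Kb).index ∣ p ^ k :=
      hk ▸ Subgroup.index_dvd_of_le le_sup_right
    have hidx2 : ((T : Subgroup Y).map (QuotientGroup.mk' (Cfsg.pCore p Y)) ⊔ Kb).index ∣
        ((T : Subgroup Y).map (QuotientGroup.mk' (Cfsg.pCore p Y))).index :=
      Subgroup.index_dvd_of_le le_sup_left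
    have hnd : ¬ p ∣ ((T : Subgroup Y).map (QuotientGroup.mk' (Cfsg.pCore p Y))).index :=
      (T.mapSurjective hπ).not_dvd_index
    obtain ⟨j, -, hj⟩ := (Nat.dvd_prime_pow hp.1).mp hidx1
    rcases Nat.eq_zero_or_pos j with h0 | h0
    · rw [h0, pow_zero] at hj
      exact Subgroup.index_eq_one.mp hj
    · exfalso
      apply hnd
      exact (hj ▸ dvd_pow_self p h0.ne').trans hidx2
  have hKcomm := commute_of_isCoatom hTbp hTbco hKbc
  -- the image of `Kb` in `MulAut A`
  have hfin : Finite ↥(Kb.map (QuotientGroup.lift (Cfsg.pCore p Y) φ hQ)) :=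
    Finite.of_surjective _ ((QuotientGroup.lift (Cfsg.pCore p Y) φ hQ).subgroupMap_surjective Kb)
  have hRc : ∀ x ∈ Kb.map (QuotientGroup.lift (Cfsg.pCore p Y) φ hQ),
      ∀ y ∈ Kb.map (QuotientGroup.lift (Cfsg.pCore p Y) φ hQ), x * y = y * x := by
    rintro _ ⟨x, hx, rfl⟩ _ ⟨y, hy, rfl⟩
    rw [← map_mul, ← map_mul, hKcomm x hx y hy]
  have hRp : (Nat.card ↥(Kb.map (QuotientGroup.lift (Cfsg.pCore p Y) φ hQ))).Coprime p :=
    Nat.Coprime.coprime_dvd_left (Subgroup.card_map_dvd Kb _) hKbc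
  have ha : ∀ x ∈ Kb.map (QuotientGroup.lift (Cfsg.pCore p Y) φ hQ),
      φ g * x * (φ g)⁻¹ ∈ Kb.map (QuotientGroup.lift (Cfsg.pCore p Y) φ hQ) := by
    rintro _ ⟨x, hx, rfl⟩
    refine ⟨QuotientGroup.mk' (Cfsg.pCore p Y) g * x * (QuotientGroup.mk' (Cfsg.pCore p Y) g)⁻¹,
      hKbn.conj_mem x hx _, ?_⟩
    rw [map_mul, map_mul, map_inv, hρ']
  have hcomm := commute_of_norm_trivial hexp _ hRc hRp (φ g) ha hTr
  have hTN : (T : Subgroup Y).map (QuotientGroup.mk' (Cfsg.pCore p Y)) ≤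
      normalizer (((QuotientGroup.lift (Cfsg.pCore p Y) φ hQ).ker ⊓ Kb : Subgroup _) : Set _) :=
    le_normalizer_of_normal
  rcases eq_bot_or_eq_of_isCoatom hTbp hTbco hKbc
      (inf_le_right : (QuotientGroup.lift (Cfsg.pCore p Y) φ hQ).ker ⊓ Kb ≤ Kb) hTN with h | h
  · -- the kernel meets `Kb` trivially
    have hgc : QuotientGroup.mk' (Cfsg.pCore p Y) g ∈ centralizer (Kb : Set (Y ⧸ Cfsg.pCore p Y)) := by
      rw [mem_centralizer_iff]
      intro x hx
      have hc : QuotientGroup.mk' (Cfsg.pCore p Y) g * x *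
          (QuotientGroup.mk' (Cfsg.pCore p Y) g)⁻¹ * x⁻¹ ∈
          (QuotientGroup.lift (Cfsg.pCore p Y) φ hQ).ker ⊓ Kb := by
        refine Subgroup.mem_inf.mpr ⟨?_, Kb.mul_mem (hKbn.conj_mem x hx _) (Kb.inv_mem hx)⟩
        rw [MonoidHom.mem_ker, map_mul, map_mul, map_mul, map_inv, map_inv, hρ',
          hcomm _ ⟨x, hx, rfl⟩]
        group
      rw [h, Subgroup.mem_bot] at hc
      have e : QuotientGroup.mk' (Cfsg.pCore p Y) g * x =
          (QuotientGroup.mk' (Cfsg.pCore p Y) g * x *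
            (QuotientGroup.mk' (Cfsg.pCore p Y) g)⁻¹ * x⁻¹) *
            (x * QuotientGroup.mk' (Cfsg.pCore p Y) g) := by group
      rw [e, hc, one_mul]
    have hOp : ∀ D : Subgroup (Y ⧸ Cfsg.pCore p Y), D.Normal → IsPGroup p D → D = ⊥ := by
      intro D hDn hDp
      have h1 : IsPGroup p ↥(D.comap (QuotientGroup.mk' (Cfsg.pCore p Y))) := by
        apply IsPGroup.comap_of_ker_isPGroup hDp
        rw [QuotientGroup.ker_mk']
        exact Lib.isPGroup_pCore p
      have h2 : D.comap (QuotientGroup.mk' (Cfsg.pCore p Y)) ≤ Cfsg.pCore p Y :=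
        Lib.le_pCore (hDn.comap _) h1
      rw [← Subgroup.map_comap_eq_self_of_surjective hπ D, eq_bot_iff]
      refine (Subgroup.map_mono h2).trans ?_
      rw [le_bot_iff, Subgroup.map_eq_bot_iff, QuotientGroup.ker_mk']
    have hgK := mem_of_mem_centralizer_of_sup_eq_top hTbp hsup hKcomm hOp hgc
    have hmem : φ g ∈ Kb.map (QuotientGroup.lift (Cfsg.pCore p Y) φ hQ) := ⟨_, hgK, hρ' g⟩
    have h1 : (φ g) ^ Nat.card ↥(Kb.map (QuotientGroup.lift (Cfsg.pCore p Y) φ hQ)) = 1 := by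
      have h6 : (⟨φ g, hmem⟩ : ↥(Kb.map (QuotientGroup.lift (Cfsg.pCore p Y) φ hQ))) ^
          Nat.card ↥(Kb.map (QuotientGroup.lift (Cfsg.pCore p Y) φ hQ)) = 1 := pow_card_eq_one'
      have h7 := congrArg Subtype.val h6
      simpa only [Subgroup.coe_pow, Subgroup.coe_one] using h7
    have h2 : (φ g) ^ p = 1 := pow_eq_one_of_norm_trivial (φ g) p hTr
    have h3 : (φ g) ^ Nat.gcd (Nat.card ↥(Kb.map (QuotientGroup.lift (Cfsg.pCore p Y) φ hQ))) p = 1 :=
      pow_gcd_eq_one.mpr ⟨h1, h2⟩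
    rwa [Nat.Coprime.gcd_eq_one hRp, pow_one] at h3
  · -- `Kb` acts trivially
    have hKker : Kb ≤ (QuotientGroup.lift (Cfsg.pCore p Y) φ hQ).ker := by
      rw [← h]; exact inf_le_left
    refine hirr (fun d => ?_) g
    have hd : QuotientGroup.mk' (Cfsg.pCore p Y) d ∈
        (((T : Subgroup Y).map (QuotientGroup.mk' (Cfsg.pCore p Y)) ⊔ Kb : Subgroup _) : Set _) := by
      rw [hsup]; trivial
    rw [Subgroup.mul_normal] at hd
    obtain ⟨t, ht, x, hx, hprod⟩ := Set.mem_mul.mp hd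
    obtain ⟨n, hn⟩ := hTbp ⟨t, ht⟩
    have hn' : t ^ p ^ n = 1 := by
      have := congrArg Subtype.val hn
      simpa only [Subgroup.coe_pow, Subgroup.coe_one] using this
    refine ⟨n, ?_⟩
    have h1 : φ d = QuotientGroup.lift (Cfsg.pCore p Y) φ hQ t := by
      rw [← hρ' d, ← hprod, map_mul, (MonoidHom.mem_ker).mp (hKker hx), mul_one]
    rw [h1, ← map_pow, hn', map_one]

end gen

section final

variable {p : ℕ} [hp : Fact p.Prime]

/-- **Baby Hall–Higman on chief factors**: in a finite group `Y` with `Y/O_p(Y)` `p`-nilpotent and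
a maximal Sylow `p`-subgroup, an element acting on a chief factor `U/V` inside `O_p(Y)` with
`[U, g; p - 1] ≤ V` centralizes `U/V`. -/
theorem commutator_le_of_engel_of_maxSylow {Y : Type u} [Group Y] [Finite Y]
    (hquot : PNil p (Y ⧸ Cfsg.pCore p Y)) (T : Sylow p Y) (hT : IsCoatom (T : Subgroup Y))
    {U V : Subgroup Y} (hUV : Cfsg.IsChiefFactor U V) (hUQ : U ≤ Cfsg.pCore p Y) (g : Y)
    (hE : Cfsg.iterCommutator U (zpowers g) (p - 1) ≤ V) : ⁅U, zpowers g⁆ ≤ V := by
  obtain ⟨hVU, hUn, hVn, hchief⟩ := hUV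
  have hπ : Function.Surjective (QuotientGroup.mk' V) := QuotientGroup.mk'_surjective _
  have hUtn : (U.map (QuotientGroup.mk' V)).Normal := hUn.map _ hπ
  have hUtne : U.map (QuotientGroup.mk' V) ≠ ⊥ := by
    intro h0
    rw [Subgroup.map_eq_bot_iff, QuotientGroup.ker_mk'] at h0
    exact absurd h0 (not_le_of_gt hVU)
  have hcomapU : (U.map (QuotientGroup.mk' V)).comap (QuotientGroup.mk' V) = U := by
    rw [Subgroup.comap_map_eq, QuotientGroup.ker_mk', sup_eq_left.mpr hVU.le]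
  have hmin : ∀ M : Subgroup (Y ⧸ V), M.Normal → M ≤ U.map (QuotientGroup.mk' V) →
      M = ⊥ ∨ M = U.map (QuotientGroup.mk' V) := by
    intro M hMn hMU
    have h1 : V ≤ M.comap (QuotientGroup.mk' V) := by
      intro v hv
      rw [Subgroup.mem_comap, QuotientGroup.mk'_apply, (QuotientGroup.eq_one_iff v).mpr hv]
      exact M.one_mem
    have h2 : M.comap (QuotientGroup.mk' V) ≤ U := by
      rw [← hcomapU]; exact Subgroup.comap_mono hMU
    rcases hchief _ (hMn.comap _) h1 h2 with h | h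
    · left
      rw [← Subgroup.map_comap_eq_self_of_surjective hπ M, h, Subgroup.map_eq_bot_iff,
        QuotientGroup.ker_mk']
    · right
      rw [← Subgroup.map_comap_eq_self_of_surjective hπ M, h]
  have hUp : IsPGroup p ↥(U.map (QuotientGroup.mk' V)) :=
    ((Lib.isPGroup_pCore p).to_le hUQ).map _
  -- `O_p(Y)` centralizes `U/V`
  have hQn : ((Cfsg.pCore p Y).map (QuotientGroup.mk' V)).Normal :=
    (Cfsg.pCore_normal p Y).map _ hπ
  have hQtp : IsPGroup p ↥((Cfsg.pCore p Y).map (QuotientGroup.mk' V)) :=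
    (Lib.isPGroup_pCore p).map _
  have hUQc : U.map (QuotientGroup.mk' V) ≤
      centralizer (((Cfsg.pCore p Y).map (QuotientGroup.mk' V) : Subgroup (Y ⧸ V)) : Set (Y ⧸ V)) := by
    apply le_centralizer_of_minimal_normal hUp hUtne hmin
    intro d hd
    obtain ⟨n, hn⟩ := hQtp ⟨d, hd⟩
    have hn' : d ^ p ^ n = 1 := by
      have := congrArg Subtype.val hn
      simpa only [Subgroup.coe_pow, Subgroup.coe_one] using this
    exact ⟨n, fun x _ => by rw [hn', one_mul, mul_one]⟩
  have hUcomm : ∀ x ∈ U.map (QuotientGroup.mk' V), ∀ y ∈ U.map (QuotientGroup.mk' V),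
      x * y = y * x := by
    intro x hx y hy
    have hyQ : y ∈ (Cfsg.pCore p Y).map (QuotientGroup.mk' V) := Subgroup.map_mono hUQ hy
    exact ((mem_centralizer_iff.mp (hUQc hx)) y hyQ).symm
  -- exponent `p`
  have hUexp : ∀ x ∈ U.map (QuotientGroup.mk' V), x ^ p = 1 := by
    let Ω : Subgroup (Y ⧸ V) :=
      { carrier := {x | x ∈ U.map (QuotientGroup.mk' V) ∧ x ^ p = 1}
        one_mem' := ⟨Subgroup.one_mem _, one_pow _⟩
        mul_mem' := by
          rintro x y ⟨hx, hxp⟩ ⟨hy, hyp⟩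
          refine ⟨Subgroup.mul_mem _ hx hy, ?_⟩
          have hc : Commute x y := hUcomm x hx y hy
          rw [hc.mul_pow, hxp, hyp, one_mul]
        inv_mem' := by
          rintro x ⟨hx, hxp⟩
          exact ⟨Subgroup.inv_mem _ hx, by rw [inv_pow, hxp, inv_one]⟩ }
    have hΩn : Ω.Normal := by
      constructor
      rintro x ⟨hx, hxp⟩ z
      refine ⟨hUtn.conj_mem x hx z, ?_⟩
      rw [conj_pow, hxp, mul_one, mul_inv_cancel]
    have hΩle : Ω ≤ U.map (QuotientGroup.mk' V) := fun x hx => hx.1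
    have hΩne : Ω ≠ ⊥ := by
      have hdvd : p ∣ Nat.card ↥(U.map (QuotientGroup.mk' V)) := by
        obtain ⟨n, hn⟩ := hUp.exists_card_eq
        rcases Nat.eq_zero_or_pos n with h0 | h0
        · exfalso
          apply hUtne
          rw [h0, pow_zero] at hn
          exact Subgroup.card_eq_one.mp hn
        · rw [hn]
          exact dvd_pow_self p h0.ne'
      obtain ⟨x, hx⟩ := exists_prime_orderOf_dvd_card' p hdvd
      intro h0
      have hxΩ : (x : Y ⧸ V) ∈ Ω := by
        refine ⟨x.2, ?_⟩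
        have h1 : x ^ p = 1 := by rw [← hx]; exact pow_orderOf_eq_one x
        have h2 := congrArg Subtype.val h1
        simpa only [Subgroup.coe_pow, Subgroup.coe_one] using h2
      rw [h0, Subgroup.mem_bot] at hxΩ
      have hx1 : x = 1 := Subtype.ext hxΩ
      rw [hx1, orderOf_one] at hx
      exact hp.1.one_lt.ne hx
    rcases hmin Ω hΩn hΩle with h | h
    · exact absurd h hΩne
    · intro x hx
      rw [← h] at hx
      exact hx.2
  -- the commutative group structure on `U/V` and the action of `Y`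
  let _ : CommGroup ↥(U.map (QuotientGroup.mk' V)) :=
    { (inferInstance : Group ↥(U.map (QuotientGroup.mk' V))) with
      mul_comm := fun x y => Subtype.ext (hUcomm x x.2 y y.2) }
  have hexp : ∀ m : ↥(U.map (QuotientGroup.mk' V)), m ^ p = 1 := by
    intro m
    apply Subtype.ext
    rw [Subgroup.coe_pow, Subgroup.coe_one]
    exact hUexp m m.2
  let φ : Y →* MulAut ↥(U.map (QuotientGroup.mk' V)) :=
    (MulAut.conjNormal (H := U.map (QuotientGroup.mk' V))).comp (QuotientGroup.mk' V)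
  have hφ : ∀ (y : Y) (m : ↥(U.map (QuotientGroup.mk' V))),
      ((φ y m : ↥(U.map (QuotientGroup.mk' V))) : Y ⧸ V) =
        QuotientGroup.mk' V y * m * (QuotientGroup.mk' V y)⁻¹ := by
    intro y m
    exact MulAut.conjNormal_apply _ _
  have hφone : ∀ y : Y, (∀ m ∈ U.map (QuotientGroup.mk' V),
      QuotientGroup.mk' V y * m = m * QuotientGroup.mk' V y) → φ y = 1 := by
    intro y hy
    ext m
    rw [hφ, MulAut.one_apply, hy m m.2]
    group
  have hQker : Cfsg.pCore p Y ≤ φ.ker := by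
    intro q hq
    rw [MonoidHom.mem_ker]
    apply hφone
    intro m hm
    exact (mem_centralizer_iff.mp (hUQc hm)) _ (Subgroup.mem_map_of_mem _ hq)
  have hirr : (∀ d : Y, ∃ k : ℕ, φ d ^ p ^ k = 1) → ∀ d : Y, φ d = 1 := by
    intro hall
    have h1 : U.map (QuotientGroup.mk' V) ≤ centralizer (((⊤ : Subgroup (Y ⧸ V)) : Set (Y ⧸ V))) := by
      apply le_centralizer_of_minimal_normal hUp hUtne hmin
      intro d _
      obtain ⟨y, rfl⟩ := hπ d
      obtain ⟨k, hk⟩ := hall y
      refine ⟨k, fun x hx => ?_⟩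
      have h2 : φ (y ^ p ^ k) = 1 := by rw [map_pow, hk]
      have h3 := congrArg (fun f : MulAut ↥(U.map (QuotientGroup.mk' V)) =>
        ((f ⟨x, hx⟩ : ↥(U.map (QuotientGroup.mk' V))) : Y ⧸ V)) h2
      simp only [MulAut.one_apply] at h3
      rw [hφ, map_pow] at h3
      exact mul_inv_eq_iff_eq_mul.mp h3
    intro d
    apply hφone
    intro m hm
    exact (mem_centralizer_iff.mp (h1 hm)) _ (Subgroup.mem_top _)
  -- the Engel condition
  have hiter : ∀ (k : ℕ) (m : ↥(U.map (QuotientGroup.mk' V))),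
      (((fun x : ↥(U.map (QuotientGroup.mk' V)) => φ g x * x⁻¹)^[k] m :
        ↥(U.map (QuotientGroup.mk' V))) : Y ⧸ V) ∈
        (Cfsg.iterCommutator U (zpowers g) k).map (QuotientGroup.mk' V) := by
    intro k
    induction k with
    | zero => intro m; exact m.2
    | succ k ih =>
      intro m
      rw [Function.iterate_succ_apply']
      obtain ⟨y, hy, hym⟩ := ih m
      refine ⟨⁅g, y⁆, ?_, ?_⟩
      · show ⁅g, y⁆ ∈ ⁅Cfsg.iterCommutator U (zpowers g) k, zpowers g⁆
        rw [Subgroup.commutator_comm]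
        exact Subgroup.commutator_mem_commutator (Subgroup.mem_zpowers g) hy
      · rw [Subgroup.coe_mul, Subgroup.coe_inv, hφ, ← hym, commutatorElement_def, map_mul,
          map_mul, map_mul, map_inv, map_inv]
  have hE' : ∀ m : ↥(U.map (QuotientGroup.mk' V)),
      (fun x : ↥(U.map (QuotientGroup.mk' V)) => φ g x * x⁻¹)^[p - 1] m = 1 := by
    intro m
    have h1 := hiter (p - 1) m
    have h2 : (Cfsg.iterCommutator U (zpowers g) (p - 1)).map (QuotientGroup.mk' V) = ⊥ := by
      rw [Subgroup.map_eq_bot_iff, QuotientGroup.ker_mk']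
      exact hE
    rw [h2, Subgroup.mem_bot] at h1
    exact Subtype.ext h1
  have hTr := norm_trivial_of_engel hexp (φ g) hE'
  have hone := eq_one_of_norm_trivial_of_maxSylow hexp φ hQker hquot T hT hirr g hTr
  -- conclusion
  rw [Subgroup.commutator_le]
  intro u hu z hz
  obtain ⟨n, rfl⟩ := Subgroup.mem_zpowers_iff.mp hz
  have h1 : φ (g ^ n) = 1 := by rw [map_zpow, hone, one_zpow]
  have h2 := congrArg (fun f : MulAut ↥(U.map (QuotientGroup.mk' V)) =>
    ((f ⟨QuotientGroup.mk' V u, Subgroup.mem_map_of_mem _ hu⟩ :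
      ↥(U.map (QuotientGroup.mk' V))) : Y ⧸ V)) h1
  simp only [MulAut.one_apply] at h2
  rw [hφ] at h2
  rw [← QuotientGroup.eq_one_iff, commutatorElement_def]
  have h3 : QuotientGroup.mk' V (g ^ n) * QuotientGroup.mk' V u =
      QuotientGroup.mk' V u * QuotientGroup.mk' V (g ^ n) := mul_inv_eq_iff_eq_mul.mp h2
  show QuotientGroup.mk' V (u * g ^ n * u⁻¹ * (g ^ n)⁻¹) = 1
  rw [map_mul, map_mul, map_mul, map_inv, map_inv, ← h3]
  group

end final

end Cfsg.Agent.Helper34
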