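import Mathlib
import Cfsg.Prelude.Def_Transfer

set_option autoImplicit false

namespace Cfsg.Agent.Helper34

open scoped Pointwise

/-- `O^p(G)` is a normal subgroup. -/
theorem pResidual_normal (p : ℕ) (G : Type*) [Group G] : (Cfsg.pResidual p G).Normal := by
  unfold Cfsg.pResidual
  rw [← Subgroup.normalizer_eq_top_iff, eq_top_iff]
  refine le_trans ?_ (Subgroup.normalizer_le_normalizer_closure _)
  intro g _
  rw [Subgroup.mem_normalizer_iff_conj_image_eq]
  ext x
  simp only [Set.mem_image, Set.mem_ofPred_eq, MulAut.conj_apply]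
  constructor
  · rintro ⟨y, hy, rfl⟩
    have : orderOf (g * y * g⁻¹) = orderOf y := by
      have := orderOf_injective (MulAut.conj g).toMonoidHom (MulAut.conj g).injective y
      simpa using this
    rwa [this]
  · intro hx
    refine ⟨g⁻¹ * x * g, ?_, by group⟩
    have : orderOf (g⁻¹ * x * g) = orderOf x := by
      have := orderOf_injective (MulAut.conj g⁻¹).toMonoidHom (MulAut.conj g⁻¹).injective x
      simpa using this
    rwa [this]

/-- `G / O^p(G)` is a `p`-group (for a torsion group, in particular a finite group). -/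
theorem pResidual_quotient_isPGroup (p : ℕ) [hp : Fact p.Prime] (G : Type*) [Group G] [Finite G]
    [hn : (Cfsg.pResidual p G).Normal] : IsPGroup p (G ⧸ Cfsg.pResidual p G) := by
  intro x
  obtain ⟨g, rfl⟩ := QuotientGroup.mk_surjective x
  refine ⟨(orderOf g).factorization p, ?_⟩
  rw [← QuotientGroup.mk_pow, QuotientGroup.eq_one_iff]
  apply Subgroup.subset_closure
  simp only [Set.mem_ofPred_eq]
  have hpos : 0 < orderOf g := orderOf_pos g
  have hdvd : p ^ (orderOf g).factorization p ∣ orderOf g := Nat.ordProj_dvd _ _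
  rw [orderOf_pow_of_dvd (pow_ne_zero _ hp.1.ne_zero) hdvd]
  exact (Nat.coprime_ordCompl hp.1 hpos.ne').symm

/-- `O^p(G)` together with a Sylow `p`-subgroup generates `G`. -/
theorem pResidual_sup_sylow (p : ℕ) [hp : Fact p.Prime] (G : Type*) [Group G] [Finite G]
    (R : Sylow p G) : Cfsg.pResidual p G ⊔ (R : Subgroup G) = ⊤ := by
  have := pResidual_normal p G
  have h1 : IsPGroup p (G ⧸ Cfsg.pResidual p G) := pResidual_quotient_isPGroup p G
  obtain ⟨n, hn⟩ := IsPGroup.iff_card.mp h1
  have hidx : (Cfsg.pResidual p G).index = p ^ n := by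
    rw [Subgroup.index_eq_card]; exact hn
  have hd1 : (Cfsg.pResidual p G ⊔ (R : Subgroup G)).index ∣ p ^ n := by
    rw [← hidx]; exact Subgroup.index_dvd_of_le le_sup_left
  have hd2 : (Cfsg.pResidual p G ⊔ (R : Subgroup G)).index ∣ (R : Subgroup G).index :=
    Subgroup.index_dvd_of_le le_sup_right
  have hcop : Nat.Coprime (p ^ n) (R : Subgroup G).index :=
    Nat.Coprime.pow_left n ((Nat.Prime.coprime_iff_not_dvd hp.1).mpr R.not_dvd_index)
  have : (Cfsg.pResidual p G ⊔ (R : Subgroup G)).index = 1 :=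
    Nat.eq_one_of_dvd_coprimes hcop hd1 hd2
  exact Subgroup.index_eq_one.mp this

/-- Sylow's theorem in elementwise form: a `p`-subgroup is conjugate into a given Sylow subgroup. -/
theorem exists_conj_mem_sylow {N : Type*} [Group N] [Finite N] {p : ℕ} [Fact p.Prime] (R : Sylow p N)
    (X : Subgroup N) (hX : IsPGroup p X) : ∃ n : N, ∀ x ∈ X, n * x * n⁻¹ ∈ R := by
  obtain ⟨Q, hQ⟩ := hX.exists_le_sylow
  obtain ⟨n, hn⟩ := MulAction.exists_smul_eq N Q R
  refine ⟨n, fun x hx => ?_⟩
  have h1 : MulAut.conj n • x ∈ MulAut.conj n • (Q : Subgroup N) :=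
    Subgroup.smul_mem_pointwise_smul _ _ _ (hQ hx)
  rw [← Sylow.coe_subgroup_smul, hn] at h1
  have h2 : n * x * n⁻¹ ∈ (R : Subgroup N) := by simpa [MulAut.smul_def] using h1
  exact h2

/-- Sylow's theorem with the conjugating element taken in `O^p`. -/
theorem exists_conj_mem_sylow_pResidual {N : Type*} [Group N] [Finite N] {p : ℕ} [Fact p.Prime]
    (R : Sylow p N) (X : Subgroup N) (hX : IsPGroup p X) :
    ∃ k ∈ Cfsg.pResidual p N, ∀ x ∈ X, k * x * k⁻¹ ∈ R := by
  obtain ⟨n, hn⟩ := exists_conj_mem_sylow R X hX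
  have := pResidual_normal p N
  have htop := pResidual_sup_sylow p N R
  have hmem : n ∈ ((R : Subgroup N) ⊔ Cfsg.pResidual p N : Subgroup N) := by
    rw [sup_comm, htop]; trivial
  rw [← SetLike.mem_coe, Subgroup.mul_normal, Set.mem_mul] at hmem
  obtain ⟨r, hr, k, hk, rfl⟩ := hmem
  refine ⟨k, hk, fun x hx => ?_⟩
  have h1 := hn x hx
  have h2 : k * x * k⁻¹ = r⁻¹ * (r * k * x * (r * k)⁻¹) * r := by group
  rw [h2]
  exact (R : Subgroup N).mul_mem ((R : Subgroup N).mul_mem ((R : Subgroup N).inv_mem hr) h1) hr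

end Cfsg.Agent.Helper34
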