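import Mathlib
import Cfsg.Agent.Helper96.SLPresDefs
import Cfsg.Agent.Helper96.StPresF

/-!
The word `PW` evaluated in `SL₂(F)` on the diagonal element `diag(z, z⁻¹)` and the
elementary unipotent element: it is the unipotent element with entry `f(z²)`.
-/

set_option autoImplicit false

namespace Cfsg.Agent.Helper96.SLPres

open Polynomial Cfsg.Agent.Helper96.StemSLTwo

theorem uz_dMat_uMat {F : Type*} [Field F] (z : F) (hz : z ≠ 0) (a : F) (i : ℕ) :
    uz (dMat z hz) (uMat F a) (i : ℤ) = uMat F ((z ^ 2) ^ i * a) := by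
  induction i with
  | zero => simp [uz_zero]
  | succ n ih =>
    have h1 : ((n + 1 : ℕ) : ℤ) = (n : ℤ) + 1 := by push_cast; ring
    rw [h1, ← uz_succ, ih, dMat_conj]
    congr 1
    ring

theorem list_prod_map_uMat {F : Type*} [Field F] (l : List F) :
    (l.map (uMat F)).prod = uMat F l.sum := by
  induction l with
  | nil => simp [uMat_zero]
  | cons a l ih => rw [List.map_cons, List.prod_cons, List.sum_cons, uMat_add, ih]

theorem uMat_pow_nat {F : Type*} [Field F] (a : F) (n : ℕ) :
    uMat F a ^ n = uMat F (n • a) := by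
  induction n with
  | zero => simp [uMat_zero]
  | succ n ih => rw [pow_succ, ih, succ_nsmul, uMat_add]

theorem sum_range_eq_list_sum {M : Type*} [AddCommMonoid M] (g : ℕ → M) (n : ℕ) :
    (Finset.range n).sum g = ((List.range n).map g).sum := by
  induction n with
  | zero => simp
  | succ n ih =>
    rw [Finset.sum_range_succ, List.range_succ, List.map_append, List.sum_append, ih]
    simp

theorem PW_SL {p : ℕ} [Fact p.Prime] {F : Type*} [Field F] [Algebra (ZMod p) F] (z : F)
    (hz : z ≠ 0) (f : (ZMod p)[X]) :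
    PW p (dMat z hz) (uMat F 1) f = uMat F (aeval (z ^ 2) f) := by
  unfold PW
  have h1 : (fun i : ℕ => uz (dMat z hz) (uMat F 1) (i : ℤ) ^ (f.coeff i).val) =
      (uMat F) ∘ (fun i : ℕ => (f.coeff i).val • ((z ^ 2) ^ i)) := by
    funext i
    simp only [Function.comp]
    rw [uz_dMat_uMat, mul_one, uMat_pow_nat]
  rw [h1, ← List.map_map, list_prod_map_uMat]
  congr 1
  rw [aeval_eq_sum_range, sum_range_eq_list_sum]
  congr 1
  apply List.map_congr_left
  intro i _
  have hc : (f.coeff i) = (((f.coeff i).val : ℕ) : ZMod p) := (ZMod.natCast_zmod_val _).symm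
  have key : algebraMap (ZMod p) F (f.coeff i) = (((f.coeff i).val : ℕ) : F) := by
    conv_lhs => rw [hc]
    rw [map_natCast]
  rw [nsmul_eq_mul, Algebra.smul_def (f.coeff i), key]

end Cfsg.Agent.Helper96.SLPres
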