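import Mathlib
import Cfsg.Prelude.Def_Transfer
import Cfsg.Agent.Helper34.Basic

set_option autoImplicit false

namespace Cfsg.Agent.Helper34

open scoped Pointwise

/-- If a Sylow `p`-subgroup `P` of a finite group is central, every element of order prime to `p`
lies in the kernel of the Burnside transfer. -/
theorem mem_ker_transferSylow_of_coprime {G : Type*} [Group G] [Finite G] {p : ℕ} [hp : Fact p.Prime]
    (P : Sylow p G) (hP : Subgroup.normalizer ((P : Subgroup G) : Set G) ≤ Subgroup.centralizer (P : Set G))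
    (g : G) (hg : (orderOf g).Coprime p) : g ∈ (MonoidHom.transferSylow P hP).ker := by
  rw [MonoidHom.mem_ker]
  set y := MonoidHom.transferSylow P hP g with hy
  have h1 : orderOf y ∣ orderOf g := orderOf_map_dvd _ g
  obtain ⟨k, hk⟩ := (P.2 y)
  have h2 : orderOf y ∣ p ^ k := orderOf_dvd_of_pow_eq_one hk
  have h3 : Nat.Coprime (orderOf g) (p ^ k) := Nat.Coprime.pow_right k hg
  have h4 : orderOf y = 1 := Nat.eq_one_of_dvd_coprimes h3 h1 h2
  exact orderOf_eq_one_iff.mp h4

/-- A finite group generated by its `p'`-elements whose Sylow `p`-subgroup is central has order prime to `p`. -/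
theorem not_dvd_card_of_central_sylow_of_pResidual_eq_top {G : Type*} [Group G] [Finite G] {p : ℕ}
    [hp : Fact p.Prime] (P : Sylow p G) (hP : (P : Subgroup G) ≤ Subgroup.center G)
    (htop : Cfsg.pResidual p G = ⊤) : ¬ p ∣ Nat.card G := by
  have hP' : Subgroup.normalizer ((P : Subgroup G) : Set G) ≤ Subgroup.centralizer (P : Set G) := by
    intro g _
    rw [Subgroup.mem_centralizer_iff]
    intro x hx
    exact (Subgroup.mem_center_iff.mp (hP hx) g).symm
  have hker : (MonoidHom.transferSylow P hP').ker = ⊤ := by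
    rw [eq_top_iff, ← htop]
    unfold Cfsg.pResidual
    rw [Subgroup.closure_le]
    intro g hg
    exact mem_ker_transferSylow_of_coprime P hP' g hg
  have h := MonoidHom.not_dvd_card_ker_transferSylow P hP'
  rw [hker] at h
  rwa [Subgroup.card_top] at h

/-- Criterion for a normal `p`-complement: a normal `p`-subgroup `T` of `N` inside a Sylow `p`-subgroup `S`
with `C_S(T) ≤ T`, centralized by all `p'`-elements. -/
theorem hasNormalPComplement_of_selfCentralizing {N : Type*} [Group N] [Finite N] {p : ℕ}
    [hp : Fact p.Prime] (S : Sylow p N) (T : Subgroup N) [hTn : T.Normal]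
    (hC : (S : Subgroup N) ⊓ Subgroup.centralizer (T : Set N) ≤ T)
    (hN : ∀ g : N, (orderOf g).Coprime p → g ∈ Subgroup.centralizer (T : Set N)) :
    Cfsg.HasNormalPComplement p N := by
  have hOn : (Cfsg.pResidual p N).Normal := pResidual_normal p N
  set O : Subgroup N := Cfsg.pResidual p N with hO
  have hOC : O ≤ Subgroup.centralizer (T : Set N) := by
    rw [hO]
    unfold Cfsg.pResidual
    rw [Subgroup.closure_le]
    intro g hg
    exact hN g hg
  -- O is a p'-group
  have hOp : ¬ p ∣ Nat.card O := by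
    let P0 : Sylow p O := default
    -- P0 ≤ T
    have hP0T : ∀ x : O, x ∈ P0 → (x : N) ∈ T := by
      intro x hx
      have hX : IsPGroup p ((P0 : Subgroup O).map O.subtype) := P0.2.map _
      obtain ⟨n, hn⟩ := exists_conj_mem_sylow S _ hX
      have h1 : n * (x : N) * n⁻¹ ∈ (S : Subgroup N) := hn x (Subgroup.mem_map.mpr ⟨x, hx, rfl⟩)
      have h2 : n * (x : N) * n⁻¹ ∈ O := hOn.conj_mem _ x.2 n
      have h3 : n * (x : N) * n⁻¹ ∈ T := hC ⟨h1, hOC h2⟩
      have h4 := hTn.conj_mem _ h3 n⁻¹
      have h5 : n⁻¹ * (n * (x : N) * n⁻¹) * n⁻¹⁻¹ = x := by group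
      rwa [h5] at h4
    have hP0c : (P0 : Subgroup O) ≤ Subgroup.center O := by
      intro x hx
      rw [Subgroup.mem_center_iff]
      intro y
      have h1 := hOC y.2
      rw [Subgroup.mem_centralizer_iff] at h1
      have h2 := h1 x (hP0T x hx)
      exact Subtype.ext h2.symm
    have htop : Cfsg.pResidual p O = ⊤ := by
      rw [eq_top_iff]
      have h1 : O ≤ (Cfsg.pResidual p O).map O.subtype := by
        conv_lhs => rw [hO]
        unfold Cfsg.pResidual
        rw [Subgroup.closure_le]
        intro g hg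
        have hgO : g ∈ O := Subgroup.subset_closure hg
        rw [SetLike.mem_coe, Subgroup.mem_map]
        refine ⟨⟨g, hgO⟩, Subgroup.subset_closure ?_, rfl⟩
        simp only [Set.mem_ofPred_eq] at hg ⊢
        have : orderOf (⟨g, hgO⟩ : O) = orderOf g := Subgroup.orderOf_mk g hgO
        rwa [this]
      intro x _
      obtain ⟨y, hy, hyx⟩ := Subgroup.mem_map.mp (h1 x.2)
      have : y = x := Subtype.ext hyx
      rwa [← this]
    exact not_dvd_card_of_central_sylow_of_pResidual_eq_top P0 hP0c htop
  refine ⟨S, O, hOn, ?_⟩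
  apply Subgroup.isComplement'_of_disjoint_and_mul_eq_univ
  · apply Subgroup.disjoint_of_coprime_natCard
    obtain ⟨k, hk⟩ := IsPGroup.iff_card.mp S.2
    rw [hk]
    exact Nat.Coprime.pow_right k ((Nat.Prime.coprime_iff_not_dvd hp.1).mpr hOp).symm
  · rw [← Subgroup.normal_mul, pResidual_sup_sylow p N S, Subgroup.coe_top]

end Cfsg.Agent.Helper34
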