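import Mathlib
import Cfsg.Prelude.Def_Transfer
import Cfsg.Prelude.Def_Solvable
import Cfsg.Agent.Lib.Cores
import Cfsg.Agent.Helper34.Burnside

set_option autoImplicit false

namespace Cfsg.Agent.Helper34

open scoped Pointwise

/-- A central Sylow `p`-subgroup together with `O_{p'}` generates the group (Burnside). -/
theorem central_sylow_sup_pPrimeCore {C : Type*} [Group C] [Finite C] {p : ℕ} [hp : Fact p.Prime]
    (S : Sylow p C) (hS : (S : Subgroup C) ≤ Subgroup.center C) :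
    (S : Subgroup C) ⊔ Cfsg.pPrimeCore p C = ⊤ := by
  have hS' : Subgroup.normalizer ((S : Subgroup C) : Set C) ≤ Subgroup.centralizer (S : Set C) := by
    intro g _
    rw [Subgroup.mem_centralizer_iff]
    intro x hx
    exact (Subgroup.mem_center_iff.mp (hS hx) g).symm
  have hcompl := MonoidHom.ker_transferSylow_isComplement' S hS'
  have hcop : (Nat.card (MonoidHom.transferSylow S hS').ker).Coprime p :=
    ((Nat.Prime.coprime_iff_not_dvd hp.1).mpr (MonoidHom.not_dvd_card_ker_transferSylow S hS')).symm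
  have hle : (MonoidHom.transferSylow S hS').ker ≤ Cfsg.pPrimeCore p C :=
    Cfsg.Agent.Lib.le_pPrimeCore (MonoidHom.normal_ker _) hcop
  have htop : (MonoidHom.transferSylow S hS').ker ⊔ (S : Subgroup C) = ⊤ := hcompl.sup_eq_top
  rw [eq_top_iff, ← htop, sup_comm]
  exact sup_le_sup_left hle _

/-- If `Z ⊔ O = ⊤` with `Z` a central subgroup and `O` of order prime to `p` meeting `Z` trivially,
every `p`-element lies in `Z`. -/
theorem mem_of_pow_eq_one_of_central_sup {C : Type*} [Group C] [Finite C] {p : ℕ} [hp : Fact p.Prime]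
    (Z O : Subgroup C) [hOn : O.Normal] (hZ : Z ≤ Subgroup.center C) (hO : (Nat.card O).Coprime p)
    (hZO : Z ⊓ O = ⊥) (htop : Z ⊔ O = ⊤) (d : C) (n : ℕ) (hd : d ^ (p ^ n) = 1) : d ∈ Z := by
  have hmem : d ∈ Z ⊔ O := by rw [htop]; trivial
  rw [← SetLike.mem_coe, Subgroup.mul_normal, Set.mem_mul] at hmem
  obtain ⟨z, hz, k, hk, rfl⟩ := hmem
  have hcomm : Commute z k := (Subgroup.mem_center_iff.mp (hZ hz) k).symm
  rw [hcomm.mul_pow] at hd
  have hk1 : k ^ (p ^ n) ∈ Z ⊓ O := by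
    refine ⟨?_, O.pow_mem hk _⟩
    have : k ^ (p ^ n) = (z ^ (p ^ n))⁻¹ := eq_inv_of_mul_eq_one_right hd
    rw [this]
    exact Z.inv_mem (Z.pow_mem hz _)
  rw [hZO, Subgroup.mem_bot] at hk1
  have hk2 : k ^ Nat.card O = 1 := by
    have h1 : (⟨k, hk⟩ : O) ^ Nat.card O = 1 := pow_card_eq_one'
    have h2 : ((⟨k, hk⟩ : O) ^ Nat.card O : O).1 = (1 : O).1 := by rw [h1]
    simpa only [Subgroup.coe_pow, Subgroup.coe_one] using h2
  have hgcd : Nat.gcd (p ^ n) (Nat.card O) = 1 := (Nat.Coprime.pow_left n hO.symm)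
  have hk3 : k ^ Nat.gcd (p ^ n) (Nat.card O) = 1 := pow_gcd_eq_one.mpr ⟨hk1, hk2⟩
  rw [hgcd, pow_one] at hk3
  rw [hk3, mul_one]
  exact hz

end Cfsg.Agent.Helper34
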