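import Mathlib
import Cfsg.Prelude.Def_Transfer
import Cfsg.Prelude.Def_Solvable
import Cfsg.Prelude.Def_CaseTheorems
import Cfsg.Prelude.Def_ConjugacyFunctors
import Cfsg.Agent.Lib.Cores
import Cfsg.Agent.Helper34.PNil
import Cfsg.Agent.Helper54.PConstrained

/-!
# Isomorphism-invariant `p`-group functors: transport lemmas (helper34)

For `W` with `Cfsg.IsCharPFunctor p W`:
* `inducedFunctor_map` : `W (f T) = f (W T)` for `f` injective on the finite `p`-group `T`;
* `normalizer_le_normalizer_inducedFunctor` : `N(T) ≤ N(W T)`;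
* transport of `PNil (N(H))` along embeddings, isomorphisms, quotients by `p'`-kernels;
* `Loc p W X` (the local hypothesis of the functor form of Thompson's normal `p`-complement
  theorem) and its invariance under isomorphisms.
-/

set_option autoImplicit false

namespace Cfsg.Agent.Helper34

universe u

section functor

variable {p : ℕ} {W : ∀ (Q : Type u) [Group Q], Subgroup Q}

theorem inducedFunctor_le {X : Type u} [Group X] (T : Subgroup X) :
    Cfsg.inducedFunctor (G := X) W T ≤ T := by
  unfold Cfsg.inducedFunctor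
  exact Subgroup.map_subtype_le _

theorem inducedFunctor_ne_bot (hW : Cfsg.IsCharPFunctor.{u} p W) {X : Type u} [Group X]
    (T : Subgroup X) [Finite T] (hT : IsPGroup p T) (hne : T ≠ ⊥) :
    Cfsg.inducedFunctor (G := X) W T ≠ ⊥ := by
  unfold Cfsg.inducedFunctor
  have : Nontrivial ↥T := (Subgroup.nontrivial_iff_ne_bot T).mpr hne
  have h1 := hW.1 ↥T hT this
  intro h
  exact h1 ((Subgroup.map_eq_bot_iff_of_injective _ T.subtype_injective).mp h)

/-- Core transport lemma: an isomorphism `A ≃* B` compatible with `f` carries `W A` to `W B`. -/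
theorem inducedFunctor_eq_map_of_equiv (hW : Cfsg.IsCharPFunctor.{u} p W)
    {X Y : Type u} [Group X] [Group Y] (f : X →* Y) (A : Subgroup X) (B : Subgroup Y) [Finite A]
    (hA : IsPGroup p A) (e : ↥A ≃* ↥B) (he : ∀ a : A, ((e a : ↥B) : Y) = f a) :
    Cfsg.inducedFunctor (G := Y) W B = (Cfsg.inducedFunctor (G := X) W A).map f := by
  unfold Cfsg.inducedFunctor
  rw [← hW.2 ↥A ↥B hA e, Subgroup.map_map, Subgroup.map_map]
  congr 1
  ext a
  exact he a

/-- `W (f T) = f (W T)` when `f` is injective on the finite `p`-group `T`. -/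
theorem inducedFunctor_map (hW : Cfsg.IsCharPFunctor.{u} p W)
    {X Y : Type u} [Group X] [Group Y] (f : X →* Y) (T : Subgroup X) [Finite T]
    (hT : IsPGroup p T) (hinj : ∀ t ∈ T, f t = 1 → t = 1) :
    Cfsg.inducedFunctor (G := Y) W (T.map f) = (Cfsg.inducedFunctor (G := X) W T).map f := by
  have hbij : Function.Bijective (f.subgroupMap T) := by
    refine ⟨?_, f.subgroupMap_surjective T⟩
    rw [injective_iff_map_eq_one]
    intro a ha
    have h1 : f (a : X) = 1 := by
      have := congrArg Subtype.val ha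
      simpa using this
    exact Subtype.ext (hinj a a.2 h1)
  exact inducedFunctor_eq_map_of_equiv hW f T (T.map f) hT
    (MulEquiv.ofBijective (f.subgroupMap T) hbij) (fun _ => rfl)

/-- `N(T) ≤ N(W T)`. -/
theorem normalizer_le_normalizer_inducedFunctor (hW : Cfsg.IsCharPFunctor.{u} p W)
    {X : Type u} [Group X] (T : Subgroup X) [Finite T] (hT : IsPGroup p T) :
    Subgroup.normalizer (T : Set X) ≤
      Subgroup.normalizer ((Cfsg.inducedFunctor (G := X) W T : Subgroup X) : Set X) := by
  intro g hg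
  rw [Subgroup.mem_normalizer_iff_map_conj_eq] at hg ⊢
  have h := inducedFunctor_map hW ((MulAut.conj g : X ≃* X) : X →* X) T hT
    (fun t _ ht => (MulAut.conj g).injective (by simpa using ht))
  rw [← h, hg]

end functor

section transport

variable {p : ℕ} [hp : Fact p.Prime]

omit hp in
theorem pnil_of_eq {X : Type u} [Group X] {H K : Subgroup X} (h : H = K) (hH : PNil p ↥H) :
    PNil p ↥K := by
  subst h; exact hH

/-- `N_Y(H)` embeds into `N_X(f H)`. -/
theorem pnil_normalizer_of_injective {X Y : Type u} [Group X] [Group Y] (f : Y →* X)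
    (hf : Function.Injective f) (H : Subgroup Y)
    (h : PNil p ↥(Subgroup.normalizer ((H.map f : Subgroup X) : Set X))) :
    PNil p ↥(Subgroup.normalizer (H : Set Y)) := by
  have hmem : ∀ y : ↥(Subgroup.normalizer (H : Set Y)),
      f (y : Y) ∈ Subgroup.normalizer ((H.map f : Subgroup X) : Set X) := fun y =>
    Subgroup.le_normalizer_map f ⟨y, y.2, rfl⟩
  let φ : ↥(Subgroup.normalizer (H : Set Y)) →*
      ↥(Subgroup.normalizer ((H.map f : Subgroup X) : Set X)) :=
    (f.comp (Subgroup.normalizer (H : Set Y)).subtype).codRestrict _ hmem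
  refine h.of_injective φ ?_
  intro a b hab
  have h1 : f (a : Y) = f (b : Y) := congrArg Subtype.val hab
  exact Subtype.ext (hf h1)

/-- Transport along an isomorphism. -/
theorem pnil_normalizer_map_equiv {X Y : Type u} [Group X] [Group Y] (e : X ≃* Y) (H : Subgroup X)
    (h : PNil p ↥(Subgroup.normalizer (H : Set X))) :
    PNil p ↥(Subgroup.normalizer ((H.map e.toMonoidHom : Subgroup Y) : Set Y)) := by
  have h1 := Subgroup.map_equiv_normalizer_eq H e
  have e' : ↥(Subgroup.normalizer (H : Set X)) ≃*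
      ↥((Subgroup.normalizer (H : Set X)).map e.toMonoidHom) :=
    e.subgroupMap (Subgroup.normalizer (H : Set X))
  exact pnil_of_eq h1 (h.of_mulEquiv e')

/-- `N(π H)` is the image of `N(H)` when `ker π` is a `p'`-group and `H` a `p`-group. -/
theorem pnil_normalizer_map_of_coprime_ker {X Y : Type u} [Group X] [Group Y] [Finite X]
    (π : X →* Y) (hπ : Function.Surjective π) (hK : (Nat.card π.ker).Coprime p)
    (H : Subgroup X) (hH : IsPGroup p H)
    (h : PNil p ↥(Subgroup.normalizer (H : Set X))) :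
    PNil p ↥(Subgroup.normalizer ((H.map π : Subgroup Y) : Set Y)) := by
  have hmem : ∀ y : ↥(Subgroup.normalizer (H : Set X)),
      π (y : X) ∈ Subgroup.normalizer ((H.map π : Subgroup Y) : Set Y) := fun y =>
    Subgroup.le_normalizer_map π ⟨y, y.2, rfl⟩
  let φ : ↥(Subgroup.normalizer (H : Set X)) →*
      ↥(Subgroup.normalizer ((H.map π : Subgroup Y) : Set Y)) :=
    (π.comp (Subgroup.normalizer (H : Set X)).subtype).codRestrict _ hmem
  refine h.of_surjective φ ?_
  rintro ⟨y, hy⟩
  obtain ⟨x, rfl⟩ := hπ y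
  obtain ⟨g, hg, hgx⟩ := Helper54.exists_mem_normalizer_map_eq π hK H hH x hy
  exact ⟨⟨g, hg⟩, Subtype.ext hgx⟩

/-- `N(π⁻¹ H̄)` maps onto `N(H̄)`. -/
theorem pnil_normalizer_of_comap {X Y : Type u} [Group X] [Group Y]
    (π : X →* Y) (hπ : Function.Surjective π) (H : Subgroup Y)
    (h : PNil p ↥(Subgroup.normalizer ((H.comap π : Subgroup X) : Set X))) :
    PNil p ↥(Subgroup.normalizer (H : Set Y)) := by
  have h1 : (Subgroup.normalizer (H : Set Y)).comap π =
      Subgroup.normalizer ((H.comap π : Subgroup X) : Set X) :=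
    Subgroup.comap_normalizer_eq_of_surjective H hπ
  have h2 : PNil p ↥((Subgroup.normalizer (H : Set Y)).comap π) := pnil_of_eq h1.symm h
  exact h2.of_surjective (π.subgroupComap _) (π.subgroupComap_surjective_of_surjective _ hπ)

end transport

/-! ### The local hypothesis -/

/-- The local hypothesis of the functor form of Thompson's theorem, for the group `X`. -/
def Loc (p : ℕ) (W : ∀ (Q : Type u) [Group Q], Subgroup Q) (X : Type u) [Group X] : Prop :=
  Subgroup.centralizer ((Cfsg.pCore p X : Subgroup X) : Set X) ≤ Cfsg.pCore p X →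
  Cfsg.HasNormalPComplement p (X ⧸ Cfsg.pCore p X) →
  ∀ T : Sylow p X, IsCoatom (T : Subgroup X) →
    (Cfsg.inducedFunctor (G := X) W (T : Subgroup X)).Normal

theorem pCore_map_mulEquiv_le' {X Y : Type*} [Group X] [Group Y] (p : ℕ) (e : X ≃* Y) :
    (Cfsg.pCore p X).map e.toMonoidHom ≤ Cfsg.pCore p Y := by
  apply Cfsg.Agent.Lib.le_pCore
  · exact (Cfsg.pCore_normal p X).map _ e.surjective
  · exact (Cfsg.Agent.Lib.isPGroup_pCore p).map _

theorem pCore_map_mulEquiv' {X Y : Type*} [Group X] [Group Y] (p : ℕ) (e : X ≃* Y) :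
    (Cfsg.pCore p X).map e.toMonoidHom = Cfsg.pCore p Y := by
  apply le_antisymm (pCore_map_mulEquiv_le' p e)
  have h := Subgroup.map_mono (f := e.toMonoidHom) (pCore_map_mulEquiv_le' p e.symm)
  rw [Subgroup.map_map] at h
  have : e.toMonoidHom.comp e.symm.toMonoidHom = MonoidHom.id Y := by
    ext y; simp
  rwa [this, Subgroup.map_id] at h

theorem Loc.of_mulEquiv {p : ℕ} [hp : Fact p.Prime] {W : ∀ (Q : Type u) [Group Q], Subgroup Q}
    (hW : Cfsg.IsCharPFunctor.{u} p W) {X Y : Type u} [Group X] [Group Y] [Finite X]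
    (e : X ≃* Y) (h : Loc p W X) : Loc p W Y := by
  intro hC hN T hT
  have : Finite Y := Finite.of_equiv X e.toEquiv
  have hcore : (Cfsg.pCore p X).map e.toMonoidHom = Cfsg.pCore p Y := pCore_map_mulEquiv' p e
  have hC' : Subgroup.centralizer ((Cfsg.pCore p X : Subgroup X) : Set X) ≤ Cfsg.pCore p X := by
    intro x hx
    have h1 : e x ∈ Subgroup.centralizer ((Cfsg.pCore p Y : Subgroup Y) : Set Y) := by
      rw [Subgroup.mem_centralizer_iff]
      intro y hy
      rw [SetLike.mem_coe, ← hcore] at hy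
      obtain ⟨q, hq, rfl⟩ := hy
      have h2 := Subgroup.mem_centralizer_iff.mp hx q hq
      show e q * e x = e x * e q
      rw [← map_mul, ← map_mul, h2]
    have h2 := hC h1
    rw [← hcore] at h2
    obtain ⟨q, hq, hqx⟩ := h2
    have h3 : q = x := e.injective hqx
    exact h3 ▸ hq
  have hN' : Cfsg.HasNormalPComplement p (X ⧸ Cfsg.pCore p X) := by
    have e' : X ⧸ Cfsg.pCore p X ≃* Y ⧸ Cfsg.pCore p Y := QuotientGroup.congr _ _ e hcore
    rw [← pnil_iff] at hN ⊢
    exact hN.of_mulEquiv e'.symm
  let T' : Sylow p X := T.comapOfInjective e.toMonoidHom e.injective (by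
    rw [MonoidHom.range_eq_top.mpr e.surjective]; exact le_top)
  have hT'coe : (T' : Subgroup X) = (T : Subgroup Y).comap e.toMonoidHom := rfl
  have hT'map : (T' : Subgroup X).map e.toMonoidHom = T := by
    rw [hT'coe, Subgroup.map_comap_eq_self_of_surjective e.surjective]
  have hT'co : IsCoatom (T' : Subgroup X) := by
    have h1 := (e.mapSubgroup).isCoatom_iff (T' : Subgroup X)
    have h2 : e.mapSubgroup (T' : Subgroup X) = (T : Subgroup Y) := hT'map
    rw [h2] at h1
    exact h1.mp hT
  have hn := h hC' hN' T' hT'co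
  have h4 : Cfsg.inducedFunctor (G := Y) W (T : Subgroup Y) =
      (Cfsg.inducedFunctor (G := X) W (T' : Subgroup X)).map e.toMonoidHom := by
    rw [← hT'map]
    exact inducedFunctor_map hW e.toMonoidHom _ T'.2
      (fun t _ ht => e.injective (by simpa using ht))
  rw [h4]
  exact hn.map _ e.surjective

end Cfsg.Agent.Helper34
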