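import Mathlib

/-!
Definitions for the proof of S4188 (helper34, architect).

`i2 Q` is the index of the subgroup generated by all squares of `Q`; for a finite `2`-group it
bounds the index of the Frattini subgroup from above.  `Irred ρ` says that a representation has no
invariant subspace other than `⊥` and `⊤`.
-/

set_option autoImplicit false

namespace Cfsg.Agent.Helper34.FratLin

/-- The subgroup generated by all squares. -/
def sqSubgroup (Q : Type*) [Group Q] : Subgroup Q :=
  Subgroup.closure (Set.range fun g : Q => g ^ 2)

/-- The index of the subgroup generated by all squares. -/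
noncomputable def i2 (Q : Type*) [Group Q] : ℕ := (sqSubgroup Q).index

/-- A representation without invariant subspaces other than `⊥` and `⊤`. -/
def Irred {F Q V : Type*} [Field F] [Group Q] [AddCommGroup V] [Module F V]
    (ρ : Representation F Q V) : Prop :=
  ∀ W : Submodule F V, (∀ g : Q, W ≤ W.comap (ρ g)) → W = ⊥ ∨ W = ⊤

/-- The bound function for odd primes `r ≥ 5`. -/
def f5 (n : ℕ) : ℕ := 2 * n - 1

/-- The bound function for `r = 3`: `0, 1, 2, 3, 5, 6, 8, 9, 11, …`. -/
def f3 (n : ℕ) : ℕ := if n ≤ 1 then n else 3 * n / 2 - 1

end Cfsg.Agent.Helper34.FratLin
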