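/-
Helper34: piece (M2b) of S5634 (helper13), board #6096: from a transvection 1 + u φᵀ in M whose centre
meets two blocks, produce a cross transvection.  Main result: Cfsg.Agent.Helper34.MonoM2b.m2b
-/
import Mathlib
import Cfsg.Agent.Helper13.MonoA

set_option autoImplicit false
set_option linter.unusedSectionVars false
set_option linter.unusedVariables false
set_option linter.unusedSimpArgs false

namespace Cfsg.Agent.Helper34.MonoM2b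

open Matrix Cfsg.Agent.Helper13.Mono

section gen

variable {ι : Type*} [Fintype ι] [DecidableEq ι] {F : Type*} [Field F]

theorem matIn_of_mul_eq {Y : Subgroup (GL ι F)} {A B C : Matrix ι ι F} (hA : MatIn Y A)
    (hB : MatIn Y B) (h : A * C = B) : MatIn Y C := by
  obtain ⟨g, hg, rfl⟩ := hA
  obtain ⟨g', hg', rfl⟩ := hB
  refine ⟨g⁻¹ * g', Y.mul_mem (Y.inv_mem hg) hg', ?_⟩
  rw [Units.val_mul, ← h, ← Matrix.mul_assoc, ← Units.val_mul, inv_mul_cancel, Units.val_one,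
    Matrix.one_mul]

theorem matIn_of_mul_eq' {Y : Subgroup (GL ι F)} {A B C : Matrix ι ι F} (hA : MatIn Y A)
    (hB : MatIn Y B) (h : C * A = B) : MatIn Y C := by
  obtain ⟨g, hg, rfl⟩ := hA
  obtain ⟨g', hg', rfl⟩ := hB
  refine ⟨g' * g⁻¹, Y.mul_mem hg' (Y.inv_mem hg), ?_⟩
  rw [Units.val_mul, ← h, Matrix.mul_assoc, ← Units.val_mul, mul_inv_cancel, Units.val_one,
    Matrix.mul_one]

/-- product of two transvections with the same centre -/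
theorem T_mul_same (u φ ψ : ι → F) (h : φ ⬝ᵥ u = 0) :
    (1 + vecMulVec u φ) * (1 + vecMulVec u ψ) = 1 + vecMulVec u (φ + ψ) := by
  simp only [Matrix.add_mul, Matrix.mul_add, Matrix.one_mul, Matrix.mul_one,
    vecMulVec_mul_vecMulVec, h, zero_smul, vecMulVec_add]
  ext i j
  simp [vecMulVec_apply]
  ring

/-- the commutator rule -/
theorem comm_rule {Y : Subgroup (GL ι F)} (v ψ v' ψ' : ι → F) (h1 : ψ ⬝ᵥ v = 0)
    (h3 : ψ ⬝ᵥ v' = 0) (hA : MatIn Y (1 + vecMulVec v ψ)) (hB : MatIn Y (1 + vecMulVec v' ψ')) :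
    MatIn Y (1 + vecMulVec ((-(ψ' ⬝ᵥ v)) • v') ψ) := by
  refine matIn_of_mul_eq' (hB.mul hA) (hA.mul hB) ?_
  simp only [Matrix.add_mul, Matrix.mul_add, Matrix.one_mul, Matrix.mul_one,
    vecMulVec_mul_vecMulVec, h1, h3, zero_smul, smul_vecMulVec, vecMulVec_smul,
    Matrix.smul_mul, Matrix.mul_smul, smul_zero]
  ext i j
  simp [vecMulVec_apply]
  ring

/-- conjugating a transvection by a pseudo-reflection fixing its centre -/
theorem pr_conj (u φ z ζ : ι → F) (μ : F) (hμ : μ ≠ 0) (h1 : ζ ⬝ᵥ z = 1) (h2 : ζ ⬝ᵥ u = 0) :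
    (1 + vecMulVec ((μ - 1) • z) ζ) * (1 + vecMulVec u φ) =
      (1 + vecMulVec u (φ + ((μ⁻¹ - 1) * (φ ⬝ᵥ z)) • ζ)) * (1 + vecMulVec ((μ - 1) • z) ζ) := by
  simp only [Matrix.add_mul, Matrix.mul_add, Matrix.one_mul, Matrix.mul_one,
    vecMulVec_mul_vecMulVec, h1, h2, zero_smul, smul_vecMulVec, vecMulVec_smul,
    Matrix.smul_mul, Matrix.mul_smul, smul_zero, vecMulVec_add, add_dotProduct, smul_dotProduct,
    dotProduct_smul, smul_eq_mul]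
  ext i j
  simp [vecMulVec_apply]
  field_simp
  ring

/-- the step used in the stuck case: conjugation by a product of two pseudo-reflections -/
theorem stuck_step {Y : Subgroup (GL ι F)} (u φ zc ζc zd ζd : ι → F) (ν : F) (hν : ν ≠ 0)
    (hc1 : ζc ⬝ᵥ zc = 1) (hc2 : ζc ⬝ᵥ u = 0) (hd1 : ζd ⬝ᵥ zd = 1) (hd2 : ζd ⬝ᵥ u = 0)
    (hcd : ζd ⬝ᵥ zc = 0) (hφu : φ ⬝ᵥ u = 0)
    (hH : MatIn Y ((1 + vecMulVec ((ν - 1) • zc) ζc) * (1 + vecMulVec ((ν⁻¹ - 1) • zd) ζd)))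
    (hσ : MatIn Y (1 + vecMulVec u φ)) :
    MatIn Y (1 + vecMulVec u
      (((ν - 1) * (φ ⬝ᵥ zd)) • ζd + ((ν⁻¹ - 1) * (φ ⬝ᵥ zc)) • ζc)) := by
  have e1 : (1 + vecMulVec ((ν⁻¹ - 1) • zd) ζd) * (1 + vecMulVec u φ) =
      (1 + vecMulVec u (φ + ((ν - 1) * (φ ⬝ᵥ zd)) • ζd)) *
        (1 + vecMulVec ((ν⁻¹ - 1) • zd) ζd) := by
    have := pr_conj u φ zd ζd ν⁻¹ (inv_ne_zero hν) hd1 hd2
    rwa [inv_inv] at this
  have hφ2z : (φ + ((ν - 1) * (φ ⬝ᵥ zd)) • ζd) ⬝ᵥ zc = φ ⬝ᵥ zc := by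
    rw [add_dotProduct, smul_dotProduct, hcd, smul_zero, add_zero]
  have e2 := pr_conj u (φ + ((ν - 1) * (φ ⬝ᵥ zd)) • ζd) zc ζc ν hν hc1 hc2
  rw [hφ2z] at e2
  have e3 : ((1 + vecMulVec ((ν - 1) • zc) ζc) * (1 + vecMulVec ((ν⁻¹ - 1) • zd) ζd)) *
      (1 + vecMulVec u φ) =
      (1 + vecMulVec u (φ + ((ν - 1) * (φ ⬝ᵥ zd)) • ζd + ((ν⁻¹ - 1) * (φ ⬝ᵥ zc)) • ζc)) *
      ((1 + vecMulVec ((ν - 1) • zc) ζc) * (1 + vecMulVec ((ν⁻¹ - 1) • zd) ζd)) := by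
    rw [Matrix.mul_assoc, e1, ← Matrix.mul_assoc, e2, Matrix.mul_assoc]
  have h3 := matIn_of_mul_eq' hH (hH.mul hσ) e3.symm
  refine matIn_of_mul_eq hσ h3 ?_
  rw [T_mul_same _ _ _ hφu, add_assoc]

end gen


section linalg

variable {κ : Type*} [Fintype κ] [DecidableEq κ] {F : Type*} [Field F]

theorem exists_perp (n : ℕ) (A : Fin n → κ → F) (h : n < Fintype.card κ) :
    ∃ χ : κ → F, χ ≠ 0 ∧ ∀ i, χ ⬝ᵥ A i = 0 := by
  have hker : LinearMap.ker (Matrix.mulVecLin (Matrix.of A)) ≠ ⊥ := by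
    apply LinearMap.ker_ne_bot_of_finrank_lt
    rw [Module.finrank_fintype_fun_eq_card, Module.finrank_fintype_fun_eq_card, Fintype.card_fin]
    exact h
  obtain ⟨χ, hχ, hne⟩ := Submodule.exists_mem_ne_zero_of_ne_bot hker
  refine ⟨χ, hne, fun i => ?_⟩
  rw [LinearMap.mem_ker, Matrix.mulVecLin_apply] at hχ
  have := congrFun hχ i
  rw [dotProduct_comm]
  simpa [Matrix.mulVec] using this

theorem exists_perp1 (hκ : 2 ≤ Fintype.card κ) (a : κ → F) : ∃ χ : κ → F, χ ≠ 0 ∧ χ ⬝ᵥ a = 0 := by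
  obtain ⟨χ, h1, h2⟩ := exists_perp 1 (fun _ => a) (by omega)
  exact ⟨χ, h1, h2 0⟩

theorem exists_perp2 (hκ : 3 ≤ Fintype.card κ) (a b : κ → F) :
    ∃ χ : κ → F, χ ≠ 0 ∧ χ ⬝ᵥ a = 0 ∧ χ ⬝ᵥ b = 0 := by
  obtain ⟨χ, h1, h2⟩ := exists_perp 2 (![a, b]) (by omega)
  exact ⟨χ, h1, h2 0, h2 1⟩

theorem exists_dot_ne {f : κ → F} (hf : f ≠ 0) : ∃ w : κ → F, f ⬝ᵥ w = 1 := by
  obtain ⟨k, hk⟩ := Function.ne_iff.mp hf
  refine ⟨Pi.single k (f k)⁻¹, ?_⟩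
  rw [dotProduct_single]
  exact mul_inv_cancel₀ hk

theorem L1 (hκ : 2 ≤ Fintype.card κ) (a f : κ → F) (hf : f ≠ 0)
    (h : a = 0 ∨ f ⬝ᵥ a ≠ 0 ∨ 3 ≤ Fintype.card κ) :
    ∃ w χ : κ → F, χ ≠ 0 ∧ χ ⬝ᵥ w = 0 ∧ χ ⬝ᵥ a = 0 ∧ f ⬝ᵥ w ≠ 0 := by
  obtain ⟨w0, hw0⟩ := exists_dot_ne hf
  rcases h with h | h | h
  · obtain ⟨χ, h1, h2⟩ := exists_perp1 hκ w0
    exact ⟨w0, χ, h1, h2, by rw [h, dotProduct_zero], by rw [hw0]; exact one_ne_zero⟩
  · obtain ⟨χ, h1, h2⟩ := exists_perp1 hκ a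
    exact ⟨a, χ, h1, h2, h2, h⟩
  · obtain ⟨χ, h1, h2, h3⟩ := exists_perp2 h w0 a
    exact ⟨w0, χ, h1, h2, h3, by rw [hw0]; exact one_ne_zero⟩

theorem L2 (hκ : 2 ≤ Fintype.card κ) (a f : κ → F) (ha : a ≠ 0)
    (h : f = 0 ∨ f ⬝ᵥ a ≠ 0 ∨ 3 ≤ Fintype.card κ) :
    ∃ w χ : κ → F, w ≠ 0 ∧ f ⬝ᵥ w = 0 ∧ χ ⬝ᵥ w = 0 ∧ χ ⬝ᵥ a ≠ 0 := by
  obtain ⟨w', χ', h1, h2, h3, h4⟩ := L1 hκ f a ha (by rwa [dotProduct_comm a f])
  exact ⟨χ', w', h1, by rwa [dotProduct_comm], by rwa [dotProduct_comm],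
    by rwa [dotProduct_comm]⟩

end linalg

section blocks

variable {τ κ : Type*} [Fintype τ] [DecidableEq τ] [Fintype κ] [DecidableEq κ] {F : Type*} [Field F]

/-- block part of a vector -/
def part (v : τ × κ → F) (c : τ) : κ → F := fun k => v (c, k)

/-- vector supported in one block -/
def blk (c : τ) (a : κ → F) : τ × κ → F := fun i => if i.1 = c then a i.2 else 0

theorem blk_dot (c : τ) (a : κ → F) (v : τ × κ → F) : blk c a ⬝ᵥ v = a ⬝ᵥ part v c := by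
  simp only [dotProduct]
  rw [Fintype.sum_prod_type, Finset.sum_eq_single c]
  · simp [blk, part]
  · intro b _ hb
    simp [blk, hb]
  · simp

theorem dot_blk (c : τ) (a : κ → F) (v : τ × κ → F) : v ⬝ᵥ blk c a = part v c ⬝ᵥ a := by
  rw [dotProduct_comm, blk_dot, dotProduct_comm]

theorem part_blk_same (c : τ) (a : κ → F) : part (blk c a) c = a := by
  funext k; simp [part, blk]

theorem part_blk_ne {c d : τ} (h : c ≠ d) (a : κ → F) : part (blk c a) d = 0 := by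
  funext k; simp [part, blk, h.symm]

theorem blk_supp {c : τ} {a : κ → F} {i : τ × κ} (h : blk c a i ≠ 0) : i.1 = c := by
  by_contra hne
  exact h (by simp [blk, hne])

theorem blk_ne_zero (c : τ) {a : κ → F} (h : a ≠ 0) : blk c a ≠ (0 : τ × κ → F) := by
  intro h0
  apply h
  rw [← part_blk_same c a, h0]
  rfl

theorem part_smul (s : F) (v : τ × κ → F) (c : τ) : part (s • v) c = s • part v c := rfl

theorem part_add (v w : τ × κ → F) (c : τ) : part (v + w) c = part v c + part w c := rfl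

theorem blk_smul (s : F) (c : τ) (a : κ → F) : blk c (s • a) = s • blk c a := by
  funext i; simp [blk]

theorem blk_dot_blk_ne {c d : τ} (h : c ≠ d) (a a' : κ → F) : blk c a ⬝ᵥ blk d a' = 0 := by
  rw [blk_dot, part_blk_ne h.symm, dotProduct_zero]

theorem blk_dot_blk_same (c : τ) (a a' : κ → F) : blk c a ⬝ᵥ blk c a' = a ⬝ᵥ a' := by
  rw [blk_dot, part_blk_same]

/-- block-diagonal matrices -/
def IsBD (A : Matrix (τ × κ) (τ × κ) F) : Prop := ∀ i j, A i j ≠ 0 → i.1 = j.1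

theorem IsBD.mul {A B : Matrix (τ × κ) (τ × κ) F} (hA : IsBD A) (hB : IsBD B) : IsBD (A * B) := by
  intro i j hij
  rw [Matrix.mul_apply] at hij
  obtain ⟨k, _, hk⟩ := Finset.exists_ne_zero_of_sum_ne_zero hij
  exact (hA i k (left_ne_zero_of_mul hk)).trans (hB k j (right_ne_zero_of_mul hk))

theorem IsBD.blockMono {A : Matrix (τ × κ) (τ × κ) F} (hA : IsBD A) :
    IsBlockMono (Prod.fst : τ × κ → τ) A :=
  ⟨1, fun i j hij => by simpa using hA i j hij⟩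

theorem isBD_T (b : τ) (a c : κ → F) : IsBD (1 + vecMulVec (blk b a) (blk b c)) := by
  intro i j hij
  rw [Matrix.add_apply, vecMulVec_apply] at hij
  by_cases hij' : i = j
  · rw [hij']
  · rw [Matrix.one_apply_ne hij', zero_add] at hij
    rw [blk_supp (left_ne_zero_of_mul hij), blk_supp (right_ne_zero_of_mul hij)]

variable (M : Subgroup (GL (τ × κ) F))

/-- block transvections belong to `M` -/
theorem block_mem
    (hN : ∀ g : GL (τ × κ) F, IsBlockMono (Prod.fst : τ × κ → τ) (g : Matrix (τ × κ) (τ × κ) F) →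
      (g : Matrix (τ × κ) (τ × κ) F).det = 1 → g ∈ M)
    (b : τ) (a c : κ → F) (h : c ⬝ᵥ a = 0) : MatIn M (1 + vecMulVec (blk b a) (blk b c)) := by
  have h' : blk b c ⬝ᵥ blk b a = 0 := by rw [blk_dot_blk_same]; exact h
  have hne : 1 + blk b c ⬝ᵥ blk b a ≠ 0 := by rw [h', add_zero]; exact one_ne_zero
  refine ⟨rk1 _ _ hne, hN _ ?_ ?_, rk1_val _ _ _⟩
  · rw [rk1_val]; exact (isBD_T b a c).blockMono
  · rw [det_rk1, h', add_zero]

/-- (I): the centre moves -/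
theorem centre_move
    (hN : ∀ g : GL (τ × κ) F, IsBlockMono (Prod.fst : τ × κ → τ) (g : Matrix (τ × κ) (τ × κ) F) →
      (g : Matrix (τ × κ) (τ × κ) F).det = 1 → g ∈ M)
    (u φ : τ × κ → F) (hφu : φ ⬝ᵥ u = 0) (hM : MatIn M (1 + vecMulVec u φ))
    (b : τ) (a c : κ → F) (h : c ⬝ᵥ a = 0) (hφa : part φ b ⬝ᵥ a = 0) :
    MatIn M (1 + vecMulVec ((-(c ⬝ᵥ part u b)) • blk b a) φ) := by
  have := comm_rule u φ (blk b a) (blk b c) hφu (by rw [dot_blk]; exact hφa) hM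
    (block_mem M hN b a c h)
  rwa [blk_dot] at this

/-- (II): the axis moves -/
theorem axis_move
    (hN : ∀ g : GL (τ × κ) F, IsBlockMono (Prod.fst : τ × κ → τ) (g : Matrix (τ × κ) (τ × κ) F) →
      (g : Matrix (τ × κ) (τ × κ) F).det = 1 → g ∈ M)
    (u φ : τ × κ → F) (hM : MatIn M (1 + vecMulVec u φ))
    (b : τ) (a c : κ → F) (h : c ⬝ᵥ a = 0) (hcu : c ⬝ᵥ part u b = 0) :
    MatIn M (1 + vecMulVec ((-(part φ b ⬝ᵥ a)) • u) (blk b c)) := by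
  have := comm_rule (blk b a) (blk b c) u φ (by rw [blk_dot_blk_same]; exact h)
    (by rw [blk_dot]; exact hcu) (block_mem M hN b a c h) hM
  rwa [dot_blk] at this

end blocks


section main

variable {τ κ : Type*} [Fintype τ] [DecidableEq τ] [Fintype κ] [DecidableEq κ] {F : Type*} [Field F]
variable (M : Subgroup (GL (τ × κ) F))

theorem smul_blk_supp (r : F) (b : τ) (a : κ → F) :
    ∀ i, (r • blk b a : τ × κ → F) i ≠ 0 → i.1 = b := by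
  intro i hi
  rw [Pi.smul_apply, smul_eq_mul] at hi
  exact blk_supp (right_ne_zero_of_mul hi)

theorem caseA (hκ : 2 ≤ Fintype.card κ)
    (hN : ∀ g : GL (τ × κ) F, IsBlockMono (Prod.fst : τ × κ → τ) (g : Matrix (τ × κ) (τ × κ) F) →
      (g : Matrix (τ × κ) (τ × κ) F).det = 1 → g ∈ M)
    (u φ : τ × κ → F) (hM : MatIn M (1 + vecMulVec u φ))
    (b1 b2 : τ) (hb : b1 ≠ b2) (hu1 : part u b1 ≠ 0) (hu2 : part u b2 ≠ 0)
    (c : τ) (hc : part φ c ≠ 0)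
    (hgood : part u c = 0 ∨ part φ c ⬝ᵥ part u c ≠ 0 ∨ 3 ≤ Fintype.card κ) :
    ∃ (w χ : τ × κ → F) (b c : τ), b ≠ c ∧ (∀ i, w i ≠ 0 → i.1 = b) ∧ (∀ i, χ i ≠ 0 → i.1 = c) ∧
      w ≠ 0 ∧ χ ≠ 0 ∧ MatIn M (1 + vecMulVec w χ) := by
  obtain ⟨w0, χ0, hχ0, h1, h2, h3⟩ := L1 hκ (part u c) (part φ c) hc hgood
  have hM1 := axis_move M hN u φ hM c w0 χ0 h1 h2
  have hs0 : -(part φ c ⬝ᵥ w0) ≠ 0 := neg_ne_zero.mpr h3
  obtain ⟨b, hbc, hub⟩ : ∃ b, b ≠ c ∧ part u b ≠ 0 := by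
    by_cases h : b1 = c
    · exact ⟨b2, fun h' => hb (h.trans h'.symm), hu2⟩
    · exact ⟨b1, h, hu1⟩
  obtain ⟨w1, χ1, hw1, _, h5, h6⟩ := L2 hκ (part u b) 0 hub (Or.inl rfl)
  have hM2 := centre_move M hN (-(part φ c ⬝ᵥ w0) • u) (blk c χ0)
    (by rw [dotProduct_smul, blk_dot, h2, smul_zero]) hM1 b w1 χ1 h5
    (by rw [part_blk_ne hbc.symm, zero_dotProduct])
  refine ⟨_, _, b, c, hbc, smul_blk_supp _ _ _, fun i hi => blk_supp hi, ?_, blk_ne_zero c hχ0, hM2⟩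
  refine smul_ne_zero ?_ (blk_ne_zero b hw1)
  rw [part_smul, dotProduct_smul, smul_eq_mul]
  exact neg_ne_zero.mpr (mul_ne_zero hs0 h6)

theorem caseB (hκ : 2 ≤ Fintype.card κ)
    (hN : ∀ g : GL (τ × κ) F, IsBlockMono (Prod.fst : τ × κ → τ) (g : Matrix (τ × κ) (τ × κ) F) →
      (g : Matrix (τ × κ) (τ × κ) F).det = 1 → g ∈ M)
    (u φ : τ × κ → F) (hφu : φ ⬝ᵥ u = 0) (hM : MatIn M (1 + vecMulVec u φ))
    (b : τ) (hb : part u b ≠ 0)
    (hgood : part φ b = 0 ∨ part φ b ⬝ᵥ part u b ≠ 0 ∨ 3 ≤ Fintype.card κ)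
    (c : τ) (hcb : c ≠ b) (hc : part φ c ≠ 0) :
    ∃ (w χ : τ × κ → F) (b c : τ), b ≠ c ∧ (∀ i, w i ≠ 0 → i.1 = b) ∧ (∀ i, χ i ≠ 0 → i.1 = c) ∧
      w ≠ 0 ∧ χ ≠ 0 ∧ MatIn M (1 + vecMulVec w χ) := by
  obtain ⟨w0, χ0, hw0, h1, h2, h3⟩ := L2 hκ (part u b) (part φ b) hb hgood
  have hM1 := centre_move M hN u φ hφu hM b w0 χ0 h2 h1
  obtain ⟨w1, χ1, hχ1, h4, _, h6⟩ := L1 hκ 0 (part φ c) hc (Or.inl rfl)
  have hM2 := axis_move M hN (-(χ0 ⬝ᵥ part u b) • blk b w0) φ hM1 c w1 χ1 h4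
    (by rw [part_smul, part_blk_ne hcb.symm, smul_zero, dotProduct_zero])
  refine ⟨_, _, b, c, hcb.symm, ?_, fun i hi => blk_supp hi, ?_, blk_ne_zero c hχ1, hM2⟩
  · rw [smul_smul]
    exact smul_blk_supp _ _ _
  · exact smul_ne_zero (neg_ne_zero.mpr h6)
      (smul_ne_zero (neg_ne_zero.mpr h3) (blk_ne_zero b hw0))

/-- the product of two pseudo-reflections in different blocks with inverse determinants -/
theorem prpair_mem
    (hN : ∀ g : GL (τ × κ) F, IsBlockMono (Prod.fst : τ × κ → τ) (g : Matrix (τ × κ) (τ × κ) F) →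
      (g : Matrix (τ × κ) (τ × κ) F).det = 1 → g ∈ M)
    (c d : τ) (zc ζc zd ζd : κ → F) (ν : F) (hν : ν ≠ 0)
    (hc1 : ζc ⬝ᵥ zc = 1) (hd1 : ζd ⬝ᵥ zd = 1) :
    MatIn M ((1 + vecMulVec ((ν - 1) • blk c zc) (blk c ζc)) *
      (1 + vecMulVec ((ν⁻¹ - 1) • blk d zd) (blk d ζd))) := by
  have e1 : 1 + blk c ζc ⬝ᵥ ((ν - 1) • blk c zc) = ν := by
    rw [dotProduct_smul, blk_dot_blk_same, hc1, smul_eq_mul, mul_one]; ring
  have e2 : 1 + blk d ζd ⬝ᵥ ((ν⁻¹ - 1) • blk d zd) = ν⁻¹ := by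
    rw [dotProduct_smul, blk_dot_blk_same, hd1, smul_eq_mul, mul_one]; ring
  have hne1 : 1 + blk c ζc ⬝ᵥ ((ν - 1) • blk c zc) ≠ 0 := by rw [e1]; exact hν
  have hne2 : 1 + blk d ζd ⬝ᵥ ((ν⁻¹ - 1) • blk d zd) ≠ 0 := by rw [e2]; exact inv_ne_zero hν
  refine ⟨rk1 _ _ hne1 * rk1 _ _ hne2, hN _ ?_ ?_, by rw [Units.val_mul, rk1_val, rk1_val]⟩
  · rw [Units.val_mul, rk1_val, rk1_val, ← blk_smul, ← blk_smul]
    exact ((isBD_T c _ _).mul (isBD_T d _ _)).blockMono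
  · rw [Units.val_mul, Matrix.det_mul, det_rk1, det_rk1, e1, e2, mul_inv_cancel₀ hν]


theorem exists_ne_zero_ne_one [Fintype F] (h : 3 ≤ Fintype.card F) : ∃ ν : F, ν ≠ 0 ∧ ν ≠ 1 := by
  classical
  by_contra hcon
  push Not at hcon
  have hsub : (Finset.univ : Finset F) ⊆ {0, 1} := fun x _ => by
    by_cases hx : x = 0
    · simp [hx]
    · simp [hcon x hx]
  have h1 := Finset.card_le_card hsub
  have h2 := Finset.card_le_two (a := (0 : F)) (b := 1)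
  rw [Finset.card_univ] at h1
  omega

theorem exists_third (h : 3 ≤ Fintype.card τ) (b1 b2 : τ) : ∃ d : τ, d ≠ b1 ∧ d ≠ b2 := by
  classical
  by_contra hcon
  push Not at hcon
  have hsub : (Finset.univ : Finset τ) ⊆ {b1, b2} := fun x _ => by
    by_cases hx : x = b1
    · simp [hx]
    · simp [hcon x hx]
  have h1 := Finset.card_le_card hsub
  have h2 := Finset.card_le_two (a := b1) (b := b2)
  rw [Finset.card_univ] at h1
  omega

theorem part_ne_zero_of {v : τ × κ → F} {i : τ × κ} (h : v i ≠ 0) : part v i.1 ≠ 0 := by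
  intro h0
  exact h (by simpa [part] using congrFun h0 i.2)

theorem exists_part_ne_zero {v : τ × κ → F} (h : v ≠ 0) : ∃ c, part v c ≠ 0 := by
  obtain ⟨i, hi⟩ := Function.ne_iff.mp h
  exact ⟨i.1, part_ne_zero_of hi⟩

theorem m2b [Fintype F] (hκ : 2 ≤ Fintype.card κ)
    (h2 : ¬ (Fintype.card κ = 2 ∧ Fintype.card F = 2))
    (h3 : Fintype.card κ = 2 → 3 ≤ Fintype.card τ) (M : Subgroup (GL (τ × κ) F))
    (hN : ∀ g : GL (τ × κ) F, IsBlockMono (Prod.fst : τ × κ → τ) (g : Matrix (τ × κ) (τ × κ) F) →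
      (g : Matrix (τ × κ) (τ × κ) F).det = 1 → g ∈ M)
    (u φ : τ × κ → F) (hφu : φ ⬝ᵥ u = 0) (hφ : φ ≠ 0) (hM : MatIn M (1 + vecMulVec u φ))
    (hu : ∃ i i' : τ × κ, i.1 ≠ i'.1 ∧ u i ≠ 0 ∧ u i' ≠ 0) :
    ∃ (w χ : τ × κ → F) (b c : τ), b ≠ c ∧ (∀ i, w i ≠ 0 → i.1 = b) ∧ (∀ i, χ i ≠ 0 → i.1 = c) ∧
      w ≠ 0 ∧ χ ≠ 0 ∧ MatIn M (1 + vecMulVec w χ) := by
  obtain ⟨i, i', hii, hui, hui'⟩ := hu
  have hu1 : part u i.1 ≠ 0 := part_ne_zero_of hui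
  have hu2 : part u i'.1 ≠ 0 := part_ne_zero_of hui'
  obtain ⟨c0, hc0⟩ := exists_part_ne_zero hφ
  by_cases hm3 : 3 ≤ Fintype.card κ
  · exact caseA M hκ hN u φ hM i.1 i'.1 hii hu1 hu2 c0 hc0 (Or.inr (Or.inr hm3))
  have hκ2 : Fintype.card κ = 2 := by omega
  have hq : 3 ≤ Fintype.card F := by
    have := Fintype.one_lt_card (α := F)
    have : Fintype.card F ≠ 2 := fun h => h2 ⟨hκ2, h⟩
    omega
  have ht := h3 hκ2
  by_cases hA : ∃ c, part φ c ≠ 0 ∧ (part u c = 0 ∨ part φ c ⬝ᵥ part u c ≠ 0)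
  · obtain ⟨c, hc, hg⟩ := hA
    exact caseA M hκ hN u φ hM i.1 i'.1 hii hu1 hu2 c hc
      (hg.elim Or.inl (fun h => Or.inr (Or.inl h)))
  push Not at hA
  by_cases hB : ∃ b, part u b ≠ 0 ∧ part φ b = 0
  · obtain ⟨b, hb, hb0⟩ := hB
    exact caseB M hκ hN u φ hφu hM b hb (Or.inl hb0) c0 (fun h => hc0 (h ▸ hb0)) hc0
  push Not at hB
  -- the stuck case
  obtain ⟨d, hd1, hd2⟩ := exists_third ht i.1 i'.1
  obtain ⟨ν, hν0, hν1⟩ := exists_ne_zero_ne_one hq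
  have hf : part φ i.1 ≠ 0 := hB _ hu1
  have hfu : part φ i.1 ⬝ᵥ part u i.1 = 0 := (hA _ hf).2
  obtain ⟨z0, hz0⟩ := exists_dot_ne hf
  obtain ⟨ζ0, hζ0, hζu⟩ := exists_perp1 hκ (part u d)
  obtain ⟨z1, hz1⟩ := exists_dot_ne hζ0
  have hH := prpair_mem M hN i.1 d z0 (part φ i.1) z1 ζ0 ν hν0 hz0 hz1
  have hψ := stuck_step u φ (blk i.1 z0) (blk i.1 (part φ i.1)) (blk d z1) (blk d ζ0) ν hν0
    (by rw [blk_dot_blk_same]; exact hz0) (by rw [blk_dot]; exact hfu)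
    (by rw [blk_dot_blk_same]; exact hz1) (by rw [blk_dot]; exact hζu)
    (blk_dot_blk_ne hd1 _ _) hφu hH hM
  rw [dot_blk i.1 z0 φ, hz0, mul_one] at hψ
  refine caseB M hκ hN u _ ?_ hψ i'.1 hu2 (Or.inl ?_) i.1 hii ?_
  · rw [add_dotProduct, smul_dotProduct, smul_dotProduct, blk_dot, blk_dot, hζu, hfu, smul_zero,
      smul_zero, add_zero]
  · rw [part_add, part_smul, part_smul, part_blk_ne hd2, part_blk_ne hii, smul_zero, smul_zero,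
      add_zero]
  · rw [part_add, part_smul, part_smul, part_blk_ne hd1, part_blk_same, smul_zero, zero_add]
    refine smul_ne_zero ?_ hf
    intro h
    apply hν1
    have : ν⁻¹ = 1 := by linear_combination h
    rw [← inv_inv ν, this, inv_one]

end main

end Cfsg.Agent.Helper34.MonoM2b
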