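import Mathlib
import Cfsg.Agent.Helper5.OmBN.Defs

/-!
# Shared lemmas on the element `sVMat α i` and on permutation matrices (helper34, for helper5's S2549)
-/

set_option autoImplicit false

namespace Cfsg.Agent.Helper34.OmBN

open Matrix Cfsg.Agent.Helper5.OmBN

variable {F : Type*} [Field F] {m : ℕ} {α β : F}

theorem swap_c1 (i : Fin m) : Equiv.swap (lo i) (hi i) c1 = c1 :=
  Equiv.swap_apply_of_ne_of_ne (lo_ne_c1 i).symm (hi_ne_c1 i).symm

theorem swap_c2 (i : Fin m) : Equiv.swap (lo i) (hi i) c2 = c2 :=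
  Equiv.swap_apply_of_ne_of_ne (lo_ne_c2 i).symm (hi_ne_c2 i).symm

theorem swap_ne_c1 (i : Fin m) (r : Fin (2 * m + 2)) (h : r ≠ c1) :
    Equiv.swap (lo i) (hi i) r ≠ c1 := fun h' =>
  h ((Equiv.swap (lo i) (hi i)).injective (h'.trans (swap_c1 i).symm))

theorem swap_ne_c2 (i : Fin m) (r : Fin (2 * m + 2)) (h : r ≠ c2) :
    Equiv.swap (lo i) (hi i) r ≠ c2 := fun h' =>
  h ((Equiv.swap (lo i) (hi i)).injective (h'.trans (swap_c2 i).symm))

theorem eq_swap_iff (i : Fin m) (r k : Fin (2 * m + 2)) :
    r = Equiv.swap (lo i) (hi i) k ↔ k = Equiv.swap (lo i) (hi i) r := by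
  constructor <;> intro h <;> rw [h, Equiv.swap_apply_self]

/-- left multiplication by `sVMat α i` -/
theorem sV_mul_apply (α : F) (i : Fin m) (X : Matrix (Fin (2 * m + 2)) (Fin (2 * m + 2)) F)
    (r s : Fin (2 * m + 2)) :
    (sVMat α i * X) r s = if r = c1 then X c1 s + α * X c2 s else if r = c2 then -X c2 s
      else X (Equiv.swap (lo i) (hi i) r) s := by
  rw [Matrix.mul_apply]
  by_cases h1 : r = c1
  · rw [if_pos h1, h1]
    have := Finset.sum_eq_add (s := Finset.univ)
      (f := fun j => sVMat α i c1 j * X j s) c1 c2 c1_ne_c2 ?_ ?_ ?_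
    · rw [this, sVMat_apply, sVMat_apply, if_neg c1_ne_c2, if_pos rfl, if_pos rfl, swap_c1,
        if_pos rfl, one_mul]
    · intro k _ hk
      show sVMat α i c1 k * X k s = 0
      rw [sVMat_apply, if_neg hk.2, if_neg, zero_mul]
      intro h
      exact swap_ne_c1 i k hk.1 h.symm
    · intro h; exact absurd (Finset.mem_univ _) h
    · intro h; exact absurd (Finset.mem_univ _) h
  · rw [if_neg h1]
    by_cases h2 : r = c2
    · rw [if_pos h2, h2]
      rw [Finset.sum_eq_single c2]
      · rw [sVMat_apply, if_pos rfl, if_neg c1_ne_c2.symm, if_pos rfl, neg_one_mul]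
      · intro k _ hk
        rw [sVMat_apply, if_neg hk, if_neg, zero_mul]
        intro h
        exact swap_ne_c2 i k hk h.symm
      · intro h; exact absurd (Finset.mem_univ _) h
    · rw [if_neg h2]
      rw [Finset.sum_eq_single (Equiv.swap (lo i) (hi i) r)]
      · rw [sVMat_apply, if_neg (swap_ne_c2 i r h2), Equiv.swap_apply_self, if_pos rfl, one_mul]
      · intro k _ hk
        rw [sVMat_apply]
        by_cases hk2 : k = c2
        · rw [if_pos hk2, if_neg h1, if_neg h2, zero_mul]
        · rw [if_neg hk2, if_neg, zero_mul]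
          intro h
          exact hk ((eq_swap_iff i r k).1 h)
      · intro h; exact absurd (Finset.mem_univ _) h

/-- right multiplication by `sVMat α i` -/
theorem mul_sV_apply (α : F) (i : Fin m) (X : Matrix (Fin (2 * m + 2)) (Fin (2 * m + 2)) F)
    (r s : Fin (2 * m + 2)) :
    (X * sVMat α i) r s = if s = c2 then α * X r c1 - X r c2
      else X r (Equiv.swap (lo i) (hi i) s) := by
  rw [Matrix.mul_apply]
  by_cases h2 : s = c2
  · rw [if_pos h2, h2]
    have := Finset.sum_eq_add (s := Finset.univ)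
      (f := fun j => X r j * sVMat α i j c2) c1 c2 c1_ne_c2 ?_ ?_ ?_
    · rw [this, sVMat_apply, sVMat_apply, if_pos rfl, if_pos rfl, if_pos rfl,
        if_neg c1_ne_c2.symm, if_pos rfl]
      ring
    · intro k _ hk
      show X r k * sVMat α i k c2 = 0
      rw [sVMat_apply, if_pos rfl, if_neg hk.1, if_neg hk.2, mul_zero]
    · intro h; exact absurd (Finset.mem_univ _) h
    · intro h; exact absurd (Finset.mem_univ _) h
  · rw [if_neg h2]
    rw [Finset.sum_eq_single (Equiv.swap (lo i) (hi i) s)]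
    · rw [sVMat_apply, if_neg h2, if_pos rfl, mul_one]
    · intro k _ hk
      rw [sVMat_apply, if_neg h2, if_neg hk, mul_zero]
    · intro h; exact absurd (Finset.mem_univ _) h

/-- `sVMat α i` is an involution -/
theorem sV_mul_sV (α : F) (i : Fin m) : sVMat α i * sVMat α i = 1 := by
  ext r s
  rw [sV_mul_apply, Matrix.one_apply]
  by_cases h1 : r = c1
  · rw [if_pos h1, h1, sVMat_apply, sVMat_apply]
    by_cases hs2 : s = c2
    · rw [if_pos hs2, if_pos hs2, if_pos rfl, if_neg c1_ne_c2.symm, if_pos rfl, hs2,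
        if_neg c1_ne_c2]
      ring
    · rw [if_neg hs2, if_neg hs2]
      by_cases hs1 : s = c1
      · rw [hs1, swap_c1, if_pos rfl, if_neg c1_ne_c2.symm]
        ring
      · rw [if_neg (fun h => swap_ne_c1 i s hs1 h.symm), if_neg (fun h => swap_ne_c2 i s hs2 h.symm),
          if_neg (fun h => hs1 h.symm)]
        ring
  · rw [if_neg h1]
    by_cases h2 : r = c2
    · rw [if_pos h2, h2, sVMat_apply]
      by_cases hs2 : s = c2
      · rw [if_pos hs2, if_neg c1_ne_c2.symm, if_pos rfl, hs2, if_pos rfl]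
        ring
      · rw [if_neg hs2, if_neg (fun h => swap_ne_c2 i s hs2 h.symm), if_neg (fun h => hs2 h.symm)]
        ring
    · rw [if_neg h2, sVMat_apply]
      by_cases hs2 : s = c2
      · rw [if_pos hs2, if_neg (swap_ne_c1 i r h1), if_neg (swap_ne_c2 i r h2), hs2, if_neg h2]
      · rw [if_neg hs2]
        by_cases hrs : r = s
        · rw [if_pos hrs, hrs, if_pos rfl]
        · rw [if_neg hrs, if_neg]
          intro h
          exact hrs ((Equiv.swap (lo i) (hi i)).injective h)

/-- conjugation by `sVMat α i`: the entries -/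
theorem sV_conj_apply (α : F) (i : Fin m) (X : Matrix (Fin (2 * m + 2)) (Fin (2 * m + 2)) F)
    (r s : Fin (2 * m + 2)) :
    (sVMat α i * X * sVMat α i) r s =
      if r = c1 then (X * sVMat α i) c1 s + α * (X * sVMat α i) c2 s
      else if r = c2 then -(X * sVMat α i) c2 s
      else (X * sVMat α i) (Equiv.swap (lo i) (hi i) r) s := by
  rw [Matrix.mul_assoc, sV_mul_apply]

/-- conjugation by `sVMat α i` preserves the rotation shape of the middle block -/
theorem rotM_sV_conj (i : Fin m) (y z : OG m α β) (hz : mat z = sVMat α i * mat y * sVMat α i)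
    (hy : RotM y) : RotM z := by
  obtain ⟨hy1, hy2⟩ := hy
  unfold RotM
  rw [hz]
  simp only [mul_sV_apply, sV_mul_apply, swap_c1, c1_ne_c2, c1_ne_c2.symm, if_true, if_false]
  rw [hy1, hy2]
  constructor <;> ring

theorem perm_apply_inv (π : Equiv.Perm (Fin (2 * m + 2))) (r : Fin (2 * m + 2)) :
    π (π⁻¹ r) = r := (Equiv.eq_symm_apply π).mp rfl

theorem perm_inv_apply (π : Equiv.Perm (Fin (2 * m + 2))) (r : Fin (2 * m + 2)) :
    π⁻¹ (π r) = r := Equiv.Perm.inv_eq_iff_eq.mpr rfl

/-- left multiplication by a permutation matrix -/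
theorem pMat_mul_apply (π : Equiv.Perm (Fin (2 * m + 2)))
    (X : Matrix (Fin (2 * m + 2)) (Fin (2 * m + 2)) F) (r s : Fin (2 * m + 2)) :
    ((pMat π : Matrix _ _ F) * X) r s = X (π⁻¹ r) s := by
  rw [Matrix.mul_apply, Finset.sum_eq_single (π⁻¹ r)]
  · rw [pMat_apply, perm_apply_inv, if_pos rfl, one_mul]
  · intro k _ hk
    rw [pMat_apply, if_neg, zero_mul]
    intro h
    apply hk
    rw [h, perm_inv_apply]
  · intro h; exact absurd (Finset.mem_univ _) h

/-- right multiplication by a permutation matrix -/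
theorem mul_pMat_apply (π : Equiv.Perm (Fin (2 * m + 2)))
    (X : Matrix (Fin (2 * m + 2)) (Fin (2 * m + 2)) F) (r s : Fin (2 * m + 2)) :
    (X * (pMat π : Matrix _ _ F)) r s = X r (π s) := by
  rw [Matrix.mul_apply, Finset.sum_eq_single (π s)]
  · rw [pMat_apply, if_pos rfl, mul_one]
  · intro k _ hk
    rw [pMat_apply, if_neg hk, mul_zero]
  · intro h; exact absurd (Finset.mem_univ _) h

/-- an element whose matrix is an involution is its own inverse -/
theorem inv_eq_self_of_mat_sq (s : OG m α β) (h : mat s * mat s = 1) : s⁻¹ = s := by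
  apply inv_eq_of_mul_eq_one_left
  apply mat_injective
  rw [mat_mul, h, mat_one]

/-- the block of the image of an outer position under the swap of the last hyperbolic pair -/
theorem pos_swap (k : Fin m) (hk : k.val + 1 = m) (r : Fin (2 * m + 2)) (h1 : r ≠ c1)
    (h2 : r ≠ c2) :
    pos (Equiv.swap (lo k) (hi k) r) =
      if pos r = m - 1 then m + 1 else if pos r = m + 1 then m - 1 else pos r := by
  have hr := r.2
  rw [Ne, eq_iff_val_eq, val_c1] at h1
  rw [Ne, eq_iff_val_eq, val_c2] at h2
  rw [Equiv.swap_apply_def]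
  by_cases ha : r = lo k
  · rw [if_pos ha, ha, pos_hi, pos_lo]
    split_ifs <;> omega
  · rw [if_neg ha]
    by_cases hb : r = hi k
    · rw [if_pos hb, hb, pos_hi, pos_lo]
      split_ifs <;> omega
    · rw [if_neg hb]
      rw [eq_iff_val_eq, val_lo] at ha
      rw [eq_iff_val_eq, val_hi] at hb
      unfold pos
      split_ifs <;> omega

end Cfsg.Agent.Helper34.OmBN
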