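import Mathlib
import Cfsg.Agent.Helper5.OmBN.Defs
import Cfsg.Agent.Helper34.OmBNSV

/-!
# (N3) the reflections normalise the torus (helper34, for helper5's S2549)
-/

set_option autoImplicit false

namespace Cfsg.Agent.Helper34.OmBN

open Matrix Cfsg.Agent.Helper5.OmBN

variable {F : Type*} [Field F] {m : ℕ} {α β : F}

theorem sPerm_c1 (k : Fin m) (hk : k.val + 1 < m) : sPerm k c1 = c1 := by
  apply Fin.ext
  rw [val_sPerm k hk, val_c1]
  split_ifs <;> omega

theorem sPerm_c2 (k : Fin m) (hk : k.val + 1 < m) : sPerm k c2 = c2 := by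
  apply Fin.ext
  rw [val_sPerm k hk, val_c2]
  split_ifs <;> omega

theorem sPerm_inv (k : Fin m) (hk : k.val + 1 < m) : (sPerm k)⁻¹ = sPerm k := by
  apply inv_eq_of_mul_eq_one_left
  ext j
  rw [Equiv.Perm.mul_apply, sPerm_sPerm k hk]
  rfl

/-- (N3) the reflections normalise the torus -/
theorem conj_mem_Tsub_of_Sset (hsq : ∀ k : Fin m, sMat α k * sMat α k = 1) (s : OG m α β)
    (hs : s ∈ Sset m α β) (t : OG m α β) (ht : t ∈ Tsub m α β) : s * t * s⁻¹ ∈ Tsub m α β := by
  obtain ⟨k, hk⟩ := hs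
  have hinv : s⁻¹ = s := inv_eq_self_of_mat_sq s (by rw [hk]; exact hsq k)
  rw [hinv]
  obtain ⟨hT, hR⟩ := (mem_Tsub_iff t).1 ht
  rw [mem_Tsub_iff]
  have hmat : mat (s * t * s) = sMat α k * mat t * sMat α k := by
    rw [mat_mul, mat_mul, hk]
  by_cases hlt : k.val + 1 < m
  · -- kind I
    rw [sMat_of_lt α k hlt] at hmat
    have hi := sPerm_inv k hlt
    have e : ∀ r s' : Fin (2 * m + 2),
        mat (s * t * s) r s' = mat t (sPerm k r) (sPerm k s') := by
      intro r s'
      rw [hmat, mul_pMat_apply, pMat_mul_apply, hi]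
    refine ⟨fun r s' hrs => ?_, ?_, ?_⟩
    · rw [e]
      apply hT
      intro h
      apply hrs
      have := pos_perm_congr (sPerm k) (sPerm_c1 k hlt) (sPerm_c2 k hlt) _ _ h
      rwa [sPerm_sPerm k hlt, sPerm_sPerm k hlt] at this
    · rw [e, e, sPerm_c1 k hlt, sPerm_c2 k hlt]
      exact hR.1
    · rw [e, e, e, sPerm_c1 k hlt, sPerm_c2 k hlt]
      exact hR.2
  · -- kind V
    have hkm : k.val + 1 = m := by have := k.2; omega
    rw [sMat_of_eq α k hkm] at hmat
    refine ⟨fun r s' hrs => ?_, rotM_sV_conj k t _ hmat hR⟩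
    rw [hmat, sV_conj_apply]
    -- the entries of `mat t * sVMat`
    have e0 : ∀ a s'' : Fin (2 * m + 2), pos a ≠ pos (Equiv.swap (lo k) (hi k) s'') →
        (mat t * sVMat α k) a s'' = 0 := by
      intro a s'' has
      rw [mul_sV_apply]
      by_cases h2 : s'' = c2
      · rw [if_pos h2]
        rw [h2, swap_c2, pos_c2] at has
        rw [hT a c1 (by rw [pos_c1]; exact has), hT a c2 (by rw [pos_c2]; exact has)]
        ring
      · rw [if_neg h2]
        exact hT _ _ has
    by_cases h1 : r = c1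
    · rw [if_pos h1]
      rw [h1, pos_c1] at hrs
      have hs1 : s' ≠ c1 := fun h' => hrs (by rw [h', pos_c1])
      have hs2 : s' ≠ c2 := fun h' => hrs (by rw [h', pos_c2])
      have hne : m ≠ pos (Equiv.swap (lo k) (hi k) s') := by
        intro h
        rcases (pos_eq_m_iff _).1 h.symm with h' | h'
        · exact swap_ne_c1 k s' hs1 h'
        · exact swap_ne_c2 k s' hs2 h'
      rw [e0 c1 s' (by rw [pos_c1]; exact hne), e0 c2 s' (by rw [pos_c2]; exact hne)]
      ring
    · rw [if_neg h1]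
      by_cases h2 : r = c2
      · rw [if_pos h2]
        rw [h2, pos_c2] at hrs
        have hs1 : s' ≠ c1 := fun h' => hrs (by rw [h', pos_c1])
        have hs2 : s' ≠ c2 := fun h' => hrs (by rw [h', pos_c2])
        have hne : m ≠ pos (Equiv.swap (lo k) (hi k) s') := by
          intro h
          rcases (pos_eq_m_iff _).1 h.symm with h' | h'
          · exact swap_ne_c1 k s' hs1 h'
          · exact swap_ne_c2 k s' hs2 h'
        rw [e0 c2 s' (by rw [pos_c2]; exact hne)]
        ring
      · rw [if_neg h2]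
        apply e0
        intro h
        have := eq_of_pos_eq _ _ h.symm (swap_ne_c1 k r h1) (swap_ne_c2 k r h2)
        have h' : s' = r := (Equiv.swap (lo k) (hi k)).injective this
        exact hrs (by rw [h'])

end Cfsg.Agent.Helper34.OmBN
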