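import Mathlib
import Cfsg.Agent.Helper5.OmBN.Defs
import Cfsg.Agent.Helper34.OmBNSV

/-!
# (R1-V) `B = (B ∩ s⁻¹ B s) X_k` for the root of kind V (helper34, for helper5's S2549)
-/

set_option autoImplicit false

namespace Cfsg.Agent.Helper34.OmBN

open Matrix Cfsg.Agent.Helper5.OmBN

variable {F : Type*} [Field F] {m : ℕ} {α β : F}

/-- right multiplication by a Siegel element -/
theorem mul_sg_apply (e : Fin (2 * m + 2)) (w1 w2 : F)
    (X : Matrix (Fin (2 * m + 2)) (Fin (2 * m + 2)) F) (r s : Fin (2 * m + 2)) :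
    (X * sgMat α β e w1 w2) r s = X r s + (if c1 = s then X r e * (2 * w1 + α * w2) else 0)
      + (if c2 = s then X r e * (α * w1 + 2 * β * w2) else 0)
      - (if Fin.rev e = s then X r c1 * w1 else 0)
      - (if Fin.rev e = s then X r c2 * w2 else 0)
      - (if Fin.rev e = s then X r e * Nf α β w1 w2 else 0) := by
  rw [Matrix.mul_apply]
  simp only [sgMat_apply, ite_and, mul_add, mul_sub, mul_ite, mul_one, mul_zero,
    Finset.sum_add_distrib, Finset.sum_sub_distrib, Finset.sum_ite_eq, Finset.sum_ite_eq',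
    Finset.mem_univ, if_true]

theorem solve_w (hdisc : 4 * β - α ^ 2 ≠ 0) (u1 u2 : F) :
    ∃ w1 w2 : F, 2 * w1 + α * w2 = u1 ∧ α * w1 + 2 * β * w2 = u2 := by
  refine ⟨(2 * β * u1 - α * u2) / (4 * β - α ^ 2), (2 * u2 - α * u1) / (4 * β - α ^ 2), ?_, ?_⟩
  · rw [← mul_div_assoc, ← mul_div_assoc, ← add_div, div_eq_iff hdisc]
    ring
  · rw [← mul_div_assoc, ← mul_div_assoc, ← add_div, div_eq_iff hdisc]
    ring

/-- (R1-V) `B = (B ∩ s⁻¹ B s) X_k` for the root of kind V -/
theorem exists_factor_V (hSG : HasSG m α β) (hdisc : 4 * β - α ^ 2 ≠ 0) (k : Fin m)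
    (hk : k.val + 1 = m) (s : OG m α β) (hs : mat s = sMat α k) (b : OG m α β)
    (hb : b ∈ Bsub m α β) :
    ∃ y x : OG m α β, b = y * x ∧ s * y * s⁻¹ ∈ Bsub m α β ∧ x ∈ Xset α β k := by
  rw [sMat_of_eq α k hk] at hs
  have hinv : s⁻¹ = s := inv_eq_self_of_mat_sq s (by rw [hs]; exact sV_mul_sV α k)
  obtain ⟨hbB, hbR⟩ := (mem_Bsub_iff b).1 hb
  have hbf : b ∈ Bfull m α β := hb.1
  have he1 := lo_ne_c1 k
  have he2 := lo_ne_c2 k
  have hf1 := hi_ne_c1 k
  have hf2 := hi_ne_c2 k
  have hef := lo_ne_hi k k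
  have hpe : pos (lo k) = m - 1 := by rw [pos_lo]; omega
  have hpf : pos (hi k) = m + 1 := by rw [pos_hi]; omega
  have hm : 0 < m := by omega
  -- the diagonal entry
  have hd : mat b (lo k) (lo k) ≠ 0 := by
    intro h0
    have := mul_apply_diag b⁻¹ b ((Bfull m α β).inv_mem hbf) hbf (lo k) he1 he2
    rw [inv_mul_cancel, mat_one, Matrix.one_apply_eq, h0, mul_zero] at this
    exact one_ne_zero this
  obtain ⟨w1, w2, hW1, hW2⟩ := solve_w (α := α) (β := β) hdisc
    (mat b (lo k) c1 / mat b (lo k) (lo k)) (mat b (lo k) c2 / mat b (lo k) (lo k))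
  obtain ⟨gx, hgx⟩ := hSG (lo k) he1 he2 w1 w2
  have hG : gx ∈ Bfull m α β := by
    rw [mem_Bfull_iff]
    intro r s' hrs
    rw [hgx, sgMat_apply, rev_lo, if_neg, if_neg, if_neg, if_neg, if_neg, if_neg]
    · ring
    · rintro ⟨h1, h2⟩
      rw [← h1, ← h2, hpe, hpf] at hrs
      omega
    · rintro ⟨h1, h2⟩
      rw [← h1, ← h2, pos_c2, hpf] at hrs
      omega
    · rintro ⟨h1, h2⟩
      rw [← h1, ← h2, pos_c1, hpf] at hrs
      omega
    · rintro ⟨h1, h2⟩
      rw [← h1, ← h2, pos_c2, hpe] at hrs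
      omega
    · rintro ⟨h1, h2⟩
      rw [← h1, ← h2, pos_c1, hpe] at hrs
      omega
    · intro h
      rw [h] at hrs
      exact lt_irrefl _ hrs
  refine ⟨b * gx⁻¹, gx, by rw [inv_mul_cancel_right], ?_, Or.inr ⟨hk, w1, w2, hgx⟩⟩
  have hyf : b * gx⁻¹ ∈ Bfull m α β := (Bfull m α β).mul_mem hbf ((Bfull m α β).inv_mem hG)
  have hyB := (mem_Bfull_iff _).1 hyf
  have hyif : (b * gx⁻¹)⁻¹ ∈ Bfull m α β := (Bfull m α β).inv_mem hyf
  have hyg : mat (b * gx⁻¹) * mat gx = mat b := by
    rw [← mat_mul, inv_mul_cancel_right]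
  generalize b * gx⁻¹ = y at hyf hyB hyif hyg ⊢
  -- the entries of `y`
  have hE : ∀ r s' : Fin (2 * m + 2), mat b r s' = mat y r s'
      + (if c1 = s' then mat y r (lo k) * (2 * w1 + α * w2) else 0)
      + (if c2 = s' then mat y r (lo k) * (α * w1 + 2 * β * w2) else 0)
      - (if hi k = s' then mat y r c1 * w1 else 0)
      - (if hi k = s' then mat y r c2 * w2 else 0)
      - (if hi k = s' then mat y r (lo k) * Nf α β w1 w2 else 0) := by
    intro r s'
    rw [← hyg, hgx, mul_sg_apply, rev_lo]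
  have hYe : ∀ r : Fin (2 * m + 2), mat y r (lo k) = mat b r (lo k) := by
    intro r
    have := hE r (lo k)
    simp only [if_neg he1.symm, if_neg he2.symm, if_neg hef.symm] at this
    rw [this]
    ring
  have hY1 : ∀ r : Fin (2 * m + 2), mat y r c1 =
      mat b r c1 - mat b r (lo k) * (mat b (lo k) c1 / mat b (lo k) (lo k)) := by
    intro r
    have := hE r c1
    simp only [if_true, if_neg c1_ne_c2.symm, if_neg hf1, hW1, hYe] at this
    rw [this]
    ring
  have hY2 : ∀ r : Fin (2 * m + 2), mat y r c2 =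
      mat b r c2 - mat b r (lo k) * (mat b (lo k) c2 / mat b (lo k) (lo k)) := by
    intro r
    have := hE r c2
    simp only [if_neg c1_ne_c2, if_true, if_neg hf2, hW2, hYe] at this
    rw [this]
    ring
  have hYe1 : mat y (lo k) c1 = 0 := by
    rw [hY1, mul_div_cancel₀ _ hd, sub_self]
  have hYe2 : mat y (lo k) c2 = 0 := by
    rw [hY2, mul_div_cancel₀ _ hd, sub_self]
  -- the middle block of `y` is that of `b`
  have hbce : ∀ r : Fin (2 * m + 2), pos r = m → mat b r (lo k) = 0 := by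
    intro r hr
    apply hbB
    rw [hr, hpe]
    omega
  have hmid1 : ∀ r : Fin (2 * m + 2), pos r = m → mat y r c1 = mat b r c1 := by
    intro r hr
    rw [hY1, hbce r hr, zero_mul, sub_zero]
  have hmid2 : ∀ r : Fin (2 * m + 2), pos r = m → mat y r c2 = mat b r c2 := by
    intro r hr
    rw [hY2, hbce r hr, zero_mul, sub_zero]
  have hyR : RotM y := by
    unfold RotM
    rw [hmid2 c1 pos_c1, hmid1 c2 pos_c2, hmid2 c2 pos_c2, hmid1 c1 pos_c1]
    exact hbR
  -- vanishing of the entries below the blocks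
  have hhi_c : ∀ (i : Fin m) (c : Fin (2 * m + 2)), pos c = m → mat y (hi i) c = 0 := by
    intro i c hc
    apply hyB
    rw [hc, pos_hi]
    have := i.2
    omega
  have hhi_f : ∀ i : Fin m, i ≠ k → mat y (hi i) (hi k) = 0 := by
    intro i hik
    apply hyB
    rw [hpf, pos_hi]
    have := i.2
    have : i.val ≠ k.val := fun h => hik (Fin.ext h)
    omega
  -- the polar products of the middle columns with the column `hi k`
  have hJ : ∀ c : Fin (2 * m + 2), pos c = m → Jm α β c (hi k) = 0 := by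
    intro c hc
    unfold Jm
    rcases (pos_eq_m_iff c).1 hc with h | h
    · rw [if_pos h, if_neg hf1, if_neg hf2]
    · rw [h, if_neg c1_ne_c2.symm, if_pos rfl, if_neg hf1, if_neg hf2]
  have hrel : ∀ c : Fin (2 * m + 2), pos c = m → mat y (lo k) c = 0 →
      Nb α β (mat y c1 c) (mat y c2 c) (mat y c1 (hi k)) (mat y c2 (hi k)) = 0 := by
    intro c hc hec
    have h := rel_col y c (hi k)
    rw [hJ c hc] at h
    have hsum : ∑ i : Fin m, (mat y (lo i) c * mat y (hi i) (hi k) +
        mat y (hi i) c * mat y (lo i) (hi k)) = 0 := by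
      apply Finset.sum_eq_zero
      intro i _
      rw [hhi_c i c hc, zero_mul, add_zero]
      by_cases hik : i = k
      · rw [hik, hec, zero_mul]
      · rw [hhi_f i hik, mul_zero]
    rw [hsum, zero_add] at h
    exact h
  have hr1 := hrel c1 pos_c1 hYe1
  have hr2 := hrel c2 pos_c2 hYe2
  unfold Nb at hr1 hr2
  -- the middle block of `y` is invertible
  have hmm : ∀ r s' : Fin (2 * m + 2), pos r = m → pos s' = m →
      mat y r c1 * mat y⁻¹ c1 s' + mat y r c2 * mat y⁻¹ c2 s' = (1 : Matrix _ _ F) r s' := by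
    intro r s' hr hs'
    rw [← mul_apply_mid y y⁻¹ hyf hyif r s' hr hs', mul_inv_cancel, mat_one]
  have m11 := hmm c1 c1 pos_c1 pos_c1
  have m12 := hmm c1 c2 pos_c1 pos_c2
  have m21 := hmm c2 c1 pos_c2 pos_c1
  have m22 := hmm c2 c2 pos_c2 pos_c2
  rw [Matrix.one_apply_eq] at m11 m22
  rw [Matrix.one_apply_ne c1_ne_c2] at m12
  rw [Matrix.one_apply_ne c1_ne_c2.symm] at m21
  have hP : 2 * mat y c1 (hi k) + α * mat y c2 (hi k) = 0 := by
    linear_combination (2 * mat y c1 (hi k) + α * mat y c2 (hi k)) * (-m11)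
      + (α * mat y c1 (hi k) + 2 * β * mat y c2 (hi k)) * (-m21)
      + mat y⁻¹ c1 c1 * hr1 + mat y⁻¹ c2 c1 * hr2
  have hQ : α * mat y c1 (hi k) + 2 * β * mat y c2 (hi k) = 0 := by
    linear_combination (2 * mat y c1 (hi k) + α * mat y c2 (hi k)) * (-m12)
      + (α * mat y c1 (hi k) + 2 * β * mat y c2 (hi k)) * (-m22)
      + mat y⁻¹ c1 c2 * hr1 + mat y⁻¹ c2 c2 * hr2
  have hp : mat y c1 (hi k) = 0 := by
    apply mul_left_cancel₀ hdisc
    linear_combination 2 * β * hP - α * hQ
  have hq : mat y c2 (hi k) = 0 := by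
    apply mul_left_cancel₀ hdisc
    linear_combination 2 * hQ - α * hP
  -- the entry `(lo k, hi k)`
  have hff : mat y (hi k) (hi k) ≠ 0 := by
    intro h0
    have := mul_apply_diag y⁻¹ y hyif hyf (hi k) hf1 hf2
    rw [inv_mul_cancel, mat_one, Matrix.one_apply_eq, h0, mul_zero] at this
    exact one_ne_zero this
  have hYef : mat y (lo k) (hi k) = 0 := by
    have h := q_col y (hi k)
    unfold qd Nf at h
    rw [if_neg hf1, if_neg hf2, hp, hq, Finset.sum_eq_single k] at h
    · have h' : mat y (lo k) (hi k) * mat y (hi k) (hi k) = 0 := by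
        linear_combination h
      rcases mul_eq_zero.1 h' with h'' | h''
      · exact h''
      · exact absurd h'' hff
    · intro i _ hik
      rw [hhi_f i hik, mul_zero]
    · intro h'; exact absurd (Finset.mem_univ _) h'
  -- the conjugate
  rw [hinv, mem_Bsub_iff]
  have hmat : mat (s * y * s) = sVMat α k * mat y * sVMat α k := by
    rw [mat_mul, mat_mul, hs]
  refine ⟨fun r s' hrs => ?_, rotM_sV_conj k y _ hmat hyR⟩
  rw [hmat, sV_conj_apply]
  -- the middle rows
  have hmidrow : ∀ c : Fin (2 * m + 2), pos c = m → pos s' < m →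
      (mat y * sVMat α k) c s' = 0 := by
    intro c hc hs'
    have hs2 : s' ≠ c2 := fun h => by rw [h, pos_c2] at hs'; omega
    rw [mul_sV_apply, if_neg hs2]
    by_cases hse : s' = lo k
    · rw [hse, Equiv.swap_apply_left]
      rcases (pos_eq_m_iff c).1 hc with h | h
      · rw [h]; exact hp
      · rw [h]; exact hq
    · have hsf : s' ≠ hi k := fun h => by rw [h, hpf] at hs'; omega
      rw [Equiv.swap_apply_of_ne_of_ne hse hsf]
      apply hyB
      rw [hc]
      exact hs'
  by_cases h1 : r = c1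
  · rw [if_pos h1]
    rw [h1, pos_c1] at hrs
    rw [hmidrow c1 pos_c1 hrs, hmidrow c2 pos_c2 hrs]
    ring
  rw [if_neg h1]
  by_cases h2 : r = c2
  · rw [if_pos h2]
    rw [h2, pos_c2] at hrs
    rw [hmidrow c2 pos_c2 hrs]
    ring
  rw [if_neg h2]
  have hrm : pos r ≠ m := fun h => by
    rcases (pos_eq_m_iff r).1 h with h' | h'
    · exact h1 h'
    · exact h2 h'
  -- the entries `(swap r, c)` of `y` for a middle column `c`, when `m < pos r`
  have houter_c : ∀ c : Fin (2 * m + 2), pos c = m → m < pos r →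
      mat y (Equiv.swap (lo k) (hi k) r) c = 0 := by
    intro c hc hr
    by_cases hrf : r = hi k
    · rw [hrf, Equiv.swap_apply_right]
      rcases (pos_eq_m_iff c).1 hc with h | h
      · rw [h]; exact hYe1
      · rw [h]; exact hYe2
    · have hre : r ≠ lo k := fun h => by rw [h, hpe] at hr; omega
      rw [Equiv.swap_apply_of_ne_of_ne hre hrf]
      apply hyB
      rw [hc]
      exact hr
  rw [mul_sV_apply]
  by_cases hs2 : s' = c2
  · rw [if_pos hs2]
    rw [hs2, pos_c2] at hrs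
    rw [houter_c c1 pos_c1 hrs, houter_c c2 pos_c2 hrs]
    ring
  rw [if_neg hs2]
  by_cases hs1 : s' = c1
  · rw [hs1, swap_c1]
    rw [hs1, pos_c1] at hrs
    exact houter_c c1 pos_c1 hrs
  have hsm : pos s' ≠ m := fun h => by
    rcases (pos_eq_m_iff s').1 h with h' | h'
    · exact hs1 h'
    · exact hs2 h'
  by_cases hex : pos r = m + 1 ∧ pos s' = m - 1
  · have hr' : r = hi k := eq_of_pos_eq r (hi k) (by rw [hex.1, hpf]) hf1 hf2
    have hs'' : s' = lo k := eq_of_pos_eq s' (lo k) (by rw [hex.2, hpe]) he1 he2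
    rw [hr', hs'', Equiv.swap_apply_right, Equiv.swap_apply_left]
    exact hYef
  · apply hyB
    rw [pos_swap k hk r h1 h2, pos_swap k hk s' hs1 hs2]
    split_ifs <;> omega

end Cfsg.Agent.Helper34.OmBN
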