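import Mathlib
import Cfsg.Agent.Helper13.SqOMDefs

/-!
# (FIN) an element of `Usub` all of whose rows `lo i` are unit rows is `1`
(helper34, for helper13's piece (OM) of S4625)
-/

set_option autoImplicit false

namespace Cfsg.Agent.Helper34.SqOM

open Matrix Cfsg Cfsg.Agent.Helper5.OmBN Cfsg.Agent.Helper13.SqOM

variable {F : Type*} [Field F] {m : ℕ} {α β : F}

/-- (FIN) an element of `Usub` all of whose rows `lo i` are unit rows is `1` -/
theorem eq_one_of_rowId
    (hadj : ∀ (g' : OG m α β) (a : Fin (2 * m + 2)), a ≠ c1 → a ≠ c2 → RowId g' a →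
      ColId g' (Fin.rev a))
    (g : OG m α β) (hg : g ∈ Usub m α β) (h : ∀ i : Fin m, RowId g (lo i)) : g = 1 := by
  obtain ⟨hU1, hU2⟩ := (mem_Usub_iff g).1 hg
  apply mat_injective
  ext r s
  rw [mat_one, Matrix.one_apply]
  -- the columns `hi k` are unit columns
  have hcol : ∀ k : Fin m, ColId g (hi k) := by
    intro k
    have := hadj g (lo k) (lo_ne_c1 k) (lo_ne_c2 k) (h k)
    rwa [rev_lo] at this
  by_cases hs : ∃ k : Fin m, s = hi k
  · obtain ⟨k, rfl⟩ := hs
    exact hcol k r
  · have hps : pos s ≤ m := by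
      rcases pos_cases s with ⟨k, rfl⟩ | ⟨k, rfl⟩ | rfl | rfl
      · rw [pos_lo]; exact k.2.le
      · exact absurd ⟨k, rfl⟩ hs
      · rw [pos_c1]
      · rw [pos_c2]
    rcases pos_cases r with ⟨i, rfl⟩ | ⟨i, rfl⟩ | rfl | rfl
    · rw [h i s]
      by_cases hsi : s = lo i
      · rw [if_pos hsi, if_pos hsi.symm]
      · rw [if_neg hsi, if_neg (fun h' => hsi h'.symm)]
    · have hlt : pos s < pos (hi i) := by
        rw [pos_hi]
        have := i.2
        omega
      rw [hU1 _ _ hlt, if_neg]
      intro h'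
      rw [h'] at hlt
      exact lt_irrefl _ hlt
    · rcases Nat.lt_or_ge (pos s) m with hlt | hge
      · rw [hU1 _ _ (by rw [pos_c1]; exact hlt), if_neg]
        intro h'
        rw [← h', pos_c1] at hlt
        exact lt_irrefl _ hlt
      · exact hU2 c1 s (by rw [pos_c1]; omega)
    · rcases Nat.lt_or_ge (pos s) m with hlt | hge
      · rw [hU1 _ _ (by rw [pos_c2]; exact hlt), if_neg]
        intro h'
        rw [← h', pos_c2] at hlt
        exact lt_irrefl _ hlt
      · exact hU2 c2 s (by rw [pos_c2]; omega)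

end Cfsg.Agent.Helper34.SqOM
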