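import Mathlib
import Cfsg.Agent.Helper13.SqOMDefs
import Cfsg.Agent.Helper34.OmBNR1V

/-!
# (ROWSG) clearing the two middle entries of a row by a Siegel element
(helper34, for helper13's piece (OM) of S4625)
-/

set_option autoImplicit false

namespace Cfsg.Agent.Helper34.SqOM

open Matrix Cfsg Cfsg.Agent.Helper5.OmBN Cfsg.Agent.Helper13.SqOM

variable {F : Type*} [Field F] {m : ℕ} {α β : F}

/-- (ROWSG) clearing the two middle entries of the row `lo j` by a Siegel element -/
theorem clear_row_mid (hdisc : 4 * β - α ^ 2 ≠ 0) (g : OG m α β) (hg : g ∈ Usub m α β) (j : Fin m)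
    (hrows : ∀ i : Fin m, i.val < j.val → RowId g (lo i))
    (hout : ∀ s : Fin (2 * m + 2), s ≠ c1 → s ≠ c2 → s ≠ lo j → s ≠ hi j → mat g (lo j) s = 0) :
    ∃ y ∈ RootSet m α β, (∀ i : Fin m, i.val < j.val → RowId (g * y) (lo i)) ∧
      ∀ s : Fin (2 * m + 2), s ≠ lo j → s ≠ hi j → mat (g * y) (lo j) s = 0 := by
  obtain ⟨w1, w2, hW1, hW2⟩ := Cfsg.Agent.Helper34.OmBN.solve_w (α := α) (β := β) hdisc
    (-mat g (lo j) c1) (-mat g (lo j) c2)
  obtain ⟨y, hy⟩ := hasSG (m := m) (α := α) (β := β) (lo j) (lo_ne_c1 j) (lo_ne_c2 j) w1 w2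
  have hdiag : mat g (lo j) (lo j) = 1 := by
    rw [((mem_Usub_iff g).1 hg).2 (lo j) (lo j) rfl, if_pos rfl]
  have hE : ∀ r s : Fin (2 * m + 2), mat (g * y) r s = mat g r s
      + (if c1 = s then mat g r (lo j) * (2 * w1 + α * w2) else 0)
      + (if c2 = s then mat g r (lo j) * (α * w1 + 2 * β * w2) else 0)
      - (if hi j = s then mat g r c1 * w1 else 0)
      - (if hi j = s then mat g r c2 * w2 else 0)
      - (if hi j = s then mat g r (lo j) * Nf α β w1 w2 else 0) := by
    intro r s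
    rw [mat_mul, hy, Cfsg.Agent.Helper34.OmBN.mul_sg_apply, rev_lo]
  refine ⟨y, Or.inr ⟨j, w1, w2, hy⟩, ?_, ?_⟩
  · intro i hi s
    have hr := hrows i hi
    have hij : lo j ≠ lo i := fun h => by
      have := lo_injective h
      rw [this] at hi
      exact lt_irrefl _ hi
    have e0 : mat g (lo i) (lo j) = 0 := by rw [hr (lo j), if_neg hij]
    have e1 : mat g (lo i) c1 = 0 := by rw [hr c1, if_neg (lo_ne_c1 i).symm]
    have e2 : mat g (lo i) c2 = 0 := by rw [hr c2, if_neg (lo_ne_c2 i).symm]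
    rw [hE, e0, e1, e2, hr s]
    simp only [zero_mul, ite_self, add_zero, sub_zero]
  · intro s hs1 hs2
    rw [hE, hdiag, if_neg hs2.symm, if_neg hs2.symm, if_neg hs2.symm, hW1, hW2]
    by_cases h1 : s = c1
    · rw [h1, if_pos rfl, if_neg c1_ne_c2.symm]
      ring
    · rw [if_neg (fun h => h1 h.symm)]
      by_cases h2 : s = c2
      · rw [h2, if_pos rfl]
        ring
      · rw [if_neg (fun h => h2 h.symm), hout s h1 h2 hs1 hs2]
        ring

end Cfsg.Agent.Helper34.SqOM
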