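import Mathlib

set_option autoImplicit false

namespace Cfsg.Agent.Helper34

namespace Gasch

open scoped IsMulCommutative

variable {G : Type*} [Group G] (K U A : Subgroup G) [K.Normal] [IsMulCommutative K]

/-- the `K`-part of an element of `K A` (junk value outside) -/
noncomputable def kPart (g : G) : ↥K := by
  classical
  exact if h : ∃ k : ↥K, (k : G)⁻¹ * g ∈ A then Classical.choose h else 1

omit [K.Normal] [IsMulCommutative K] in
theorem kPart_spec (g : G) (h : ∃ k : ↥K, (k : G)⁻¹ * g ∈ A) :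
    ((kPart K A g : ↥K) : G)⁻¹ * g ∈ A := by
  unfold kPart
  rw [dif_pos h]
  exact Classical.choose_spec h

omit [K.Normal] [IsMulCommutative K] in
theorem kPart_unique (hAK : A ⊓ K = ⊥) (g : G) (k : ↥K) (hk : (k : G)⁻¹ * g ∈ A) :
    kPart K A g = k := by
  have h1 := kPart_spec K A g ⟨k, hk⟩
  set k' := kPart K A g with hk'
  have h2 : (k' : G)⁻¹ * (k : G) ∈ A := by
    have e : (k' : G)⁻¹ * (k : G) = ((k' : G)⁻¹ * g) * ((k : G)⁻¹ * g)⁻¹ := by group
    rw [e]
    exact mul_mem h1 (inv_mem hk)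
  have h3 : (k' : G)⁻¹ * (k : G) ∈ K := mul_mem (inv_mem k'.2) k.2
  have h4 : (k' : G)⁻¹ * (k : G) ∈ A ⊓ K := ⟨h2, h3⟩
  rw [hAK, Subgroup.mem_bot] at h4
  apply Subtype.ext
  exact (inv_mul_eq_one.mp h4)

omit [IsMulCommutative K] in
theorem exists_of_mem (hKA : K ⊔ A = U) (u : G) (hu : u ∈ U) : ∃ k : ↥K, (k : G)⁻¹ * u ∈ A := by
  have h1 : u ∈ ((K ⊔ A : Subgroup G) : Set G) := by rw [hKA]; exact hu
  rw [Subgroup.normal_mul] at h1
  obtain ⟨k, hk, a, ha, rfl⟩ := h1
  exact ⟨⟨k, hk⟩, by simpa using ha⟩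

omit [K.Normal] [IsMulCommutative K] in
theorem kPart_of_mem (hAK : A ⊓ K = ⊥) (k : ↥K) : kPart K A (k : G) = k :=
  kPart_unique K A hAK _ k (by rw [inv_mul_cancel]; exact one_mem _)

theorem kPart_mul (hAK : A ⊓ K = ⊥) (u u' : G) (h : ∃ k : ↥K, (k : G)⁻¹ * u ∈ A)
    (h' : ∃ k : ↥K, (k : G)⁻¹ * u' ∈ A) :
    kPart K A (u * u') = kPart K A u * MulAut.conjNormal u (kPart K A u') := by
  have h1 := kPart_spec K A u h
  have h2 := kPart_spec K A u' h'
  set k := kPart K A u with hk
  set k' := kPart K A u' with hk'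
  apply kPart_unique K A hAK
  -- a = k⁻¹ u, a' = k'⁻¹ u'
  have e : (((k * MulAut.conjNormal u k' : ↥K) : G))⁻¹ * (u * u') =
      ((k : G)⁻¹ * u) * ((k' : G)⁻¹ * u') := by
    rw [Subgroup.coe_mul, MulAut.conjNormal_apply]
    -- use commutativity in K: k commutes with u k' u⁻¹
    have hc : (k : G) * (u * (k' : G) * u⁻¹) = (u * (k' : G) * u⁻¹) * (k : G) := by
      have hmem : u * (k' : G) * u⁻¹ ∈ K := ‹K.Normal›.conj_mem _ k'.2 u
      have := mul_comm k (⟨u * (k' : G) * u⁻¹, hmem⟩ : ↥K)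
      exact congrArg Subtype.val this
    rw [hc]
    group
  rw [e]
  exact mul_mem h1 h2

/-- one factor of the averaged crossed homomorphism -/
noncomputable def tFun (g : G) (q : G ⧸ U) : ↥K :=
  MulAut.conjNormal (Quotient.out (g • q))
    (kPart K A ((Quotient.out (g • q))⁻¹ * g * Quotient.out q))

/-- the averaged crossed homomorphism -/
noncomputable def cFun [Fintype (G ⧸ U)] (g : G) : ↥K := ∏ q : G ⧸ U, tFun K U A g q

omit [K.Normal] [IsMulCommutative K] in
theorem out_inv_mul_mem (g : G) (q : G ⧸ U) :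
    (Quotient.out (g • q))⁻¹ * g * Quotient.out q ∈ U := by
  rw [mul_assoc, ← QuotientGroup.eq]
  rw [QuotientGroup.out_eq']
  conv_lhs => rw [← QuotientGroup.out_eq' q]
  rfl

theorem tFun_mul (hAK : A ⊓ K = ⊥) (hKA : K ⊔ A = U) (g g' : G) (q : G ⧸ U) :
    tFun K U A (g * g') q = tFun K U A g (g' • q) * MulAut.conjNormal g (tFun K U A g' q) := by
  unfold tFun
  have hu1 := out_inv_mul_mem U g (g' • q)
  have hu2 := out_inv_mul_mem U g' q
  have e : (Quotient.out ((g * g') • q))⁻¹ * (g * g') * Quotient.out q =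
      ((Quotient.out (g • g' • q))⁻¹ * g * Quotient.out (g' • q)) *
        ((Quotient.out (g' • q))⁻¹ * g' * Quotient.out q) := by
    rw [mul_smul]; group
  rw [e, kPart_mul K A hAK _ _ (exists_of_mem K U A hKA _ hu1) (exists_of_mem K U A hKA _ hu2),
    map_mul, mul_smul]
  congr 1
  rw [← MulAut.mul_apply, ← MulAut.mul_apply, ← map_mul, ← map_mul]
  congr 2
  group

theorem cFun_mul [Fintype (G ⧸ U)] (hAK : A ⊓ K = ⊥) (hKA : K ⊔ A = U) (g g' : G) :
    cFun K U A (g * g') = cFun K U A g * MulAut.conjNormal g (cFun K U A g') := by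
  unfold cFun
  calc ∏ q : G ⧸ U, tFun K U A (g * g') q
      = ∏ q : G ⧸ U, (tFun K U A g (g' • q) * MulAut.conjNormal g (tFun K U A g' q)) :=
        Finset.prod_congr rfl (fun q _ => tFun_mul K U A hAK hKA g g' q)
    _ = (∏ q : G ⧸ U, tFun K U A g (g' • q)) * ∏ q : G ⧸ U, MulAut.conjNormal g (tFun K U A g' q) :=
        Finset.prod_mul_distrib
    _ = (∏ q : G ⧸ U, tFun K U A g q) * MulAut.conjNormal g (∏ q : G ⧸ U, tFun K U A g' q) := by
        rw [map_prod]
        congr 1
        exact Equiv.prod_comp (MulAction.toPerm g') (fun q => tFun K U A g q)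

omit [IsMulCommutative K] in
theorem smul_eq_of_mem (hKU : K ≤ U) (k : G) (hk : k ∈ K) (q : G ⧸ U) : k • q = q := by
  obtain ⟨x, rfl⟩ := QuotientGroup.mk_surjective q
  rw [MulAction.Quotient.smul_mk, QuotientGroup.eq]
  apply hKU
  have : (k • x)⁻¹ * x = x⁻¹ * k⁻¹ * x⁻¹⁻¹ := by simp [smul_eq_mul]
  rw [this]
  exact ‹K.Normal›.conj_mem _ (inv_mem hk) _

theorem cFun_of_mem [Fintype (G ⧸ U)] (hKU : K ≤ U) (hAK : A ⊓ K = ⊥) (k : ↥K) :
    cFun K U A (k : G) = k ^ U.index := by
  unfold cFun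
  have h1 : ∀ q : G ⧸ U, tFun K U A (k : G) q = k := by
    intro q
    unfold tFun
    rw [smul_eq_of_mem K U hKU (k : G) k.2 q]
    have hmem : (Quotient.out q)⁻¹ * (k : G) * Quotient.out q ∈ K := by
      have := ‹K.Normal›.conj_mem _ k.2 (Quotient.out q)⁻¹
      simpa using this
    have h2 := kPart_of_mem K A hAK ⟨_, hmem⟩
    simp only at h2
    rw [h2]
    apply Subtype.ext
    rw [MulAut.conjNormal_apply]
    simp only
    group
  rw [Finset.prod_congr rfl (fun q _ => h1 q), Finset.prod_const, Finset.card_univ,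
    Subgroup.index_eq_card, Nat.card_eq_fintype_card]

end Gasch

open scoped IsMulCommutative in
/-- **Gaschütz's theorem** (existence): an abelian normal subgroup `K` that is complemented in a
subgroup `U ≥ K` whose index is coprime to the order of `K` is complemented in the whole group. -/
theorem gaschutz_exists {G : Type*} [Group G] [Finite G] (K U : Subgroup G) [K.Normal]
    [IsMulCommutative K] (hKU : K ≤ U) (hcop : (Nat.card K).Coprime U.index)
    (A : Subgroup G) (_hAU : A ≤ U) (hAK : A ⊓ K = ⊥) (hKA : K ⊔ A = U) :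
    ∃ H : Subgroup G, Subgroup.IsComplement' K H := by
  classical
  let _ : Fintype (G ⧸ U) := Fintype.ofFinite _
  have hmul := Gasch.cFun_mul K U A hAK hKA
  have hone : Gasch.cFun K U A 1 = 1 := by
    have := hmul 1 1
    rw [mul_one, map_one, MulAut.one_apply] at this
    exact left_eq_mul.mp this
  let H : Subgroup G :=
    { carrier := {g | Gasch.cFun K U A g = 1}
      mul_mem' := by
        intro a b ha hb
        simp only [Set.mem_ofPred_eq] at ha hb ⊢
        rw [hmul, ha, hb, map_one, mul_one]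
      one_mem' := hone
      inv_mem' := by
        intro a ha
        simp only [Set.mem_ofPred_eq] at ha ⊢
        have := hmul a a⁻¹
        rw [mul_inv_cancel, hone, ha, one_mul] at this
        have h2 : MulAut.conjNormal a (Gasch.cFun K U A a⁻¹) = MulAut.conjNormal a 1 := by
          rw [map_one]; exact this.symm
        exact (MulAut.conjNormal a).injective h2 }
  have hmemH : ∀ g : G, g ∈ H ↔ Gasch.cFun K U A g = 1 := fun g => Iff.rfl
  refine ⟨H, Subgroup.isComplement'_of_disjoint_and_mul_eq_univ ?_ ?_⟩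
  · rw [Subgroup.disjoint_def]
    intro x hxK hxH
    rw [hmemH] at hxH
    have h1 := Gasch.cFun_of_mem K U A hKU hAK ⟨x, hxK⟩
    simp only at h1
    rw [hxH] at h1
    have h2 : (powCoprime hcop) (⟨x, hxK⟩ : ↥K) = (powCoprime hcop) 1 := by
      rw [powCoprime_apply, powCoprime_apply, one_pow]
      exact h1.symm
    have h3 := (powCoprime hcop).injective h2
    exact congrArg Subtype.val h3
  · rw [Set.eq_univ_iff_forall]
    intro g
    set k : ↥K := (powCoprime hcop).symm (Gasch.cFun K U A g) with hk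
    have hkpow : k ^ U.index = Gasch.cFun K U A g := by
      rw [← powCoprime_apply hcop, hk, Equiv.apply_symm_apply]
    refine ⟨(k : G), k.2, (k : G)⁻¹ * g, ?_, by group⟩
    show (k : G)⁻¹ * g ∈ H
    rw [hmemH, hmul]
    have h1 : Gasch.cFun K U A ((k : G)⁻¹) = (k⁻¹) ^ U.index := by
      have := Gasch.cFun_of_mem K U A hKU hAK k⁻¹
      simpa using this
    have h2 : MulAut.conjNormal ((k : G)⁻¹) (Gasch.cFun K U A g) = Gasch.cFun K U A g := by
      apply Subtype.ext
      rw [MulAut.conjNormal_apply]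
      have hc := mul_comm (k⁻¹) (Gasch.cFun K U A g)
      have hc' := congrArg Subtype.val hc
      simp only [Subgroup.coe_mul, Subgroup.coe_inv] at hc'
      rw [hc']
      group
    rw [h1, h2, ← hkpow, inv_pow, inv_mul_cancel]

end Cfsg.Agent.Helper34
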