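import Mathlib
import Cfsg.Prelude.Def_Transfer
import Cfsg.Agent.Helper34.Basic
import Cfsg.Agent.Helper78.Frobenius

set_option autoImplicit false

namespace Cfsg.Agent.Helper34

universe u

open scoped commutatorElement

/-- Gaschütz's existence theorem, as a proposition (to be supplied). -/
def GaschutzExists : Prop :=
  ∀ (E : Type u) [Group E] [Finite E] (K U : Subgroup E) [K.Normal] [IsMulCommutative K],
    K ≤ U → (Nat.card K).Coprime U.index →
    ∀ A : Subgroup E, A ≤ U → A ⊓ K = ⊥ → K ⊔ A = U → ∃ H : Subgroup E, Subgroup.IsComplement' K H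

instance pResidual_normal_inst (p : ℕ) (G : Type*) [Group G] : (Cfsg.pResidual p G).Normal :=
  pResidual_normal p G

section TateCore

variable {G : Type u} [Group G] {p : ℕ} (P : Sylow p G)

/-- `P ∩ O^p(G)` as a subgroup of `P`. -/
def tateD : Subgroup ↥(P : Subgroup G) := (Cfsg.pResidual p G).subgroupOf (P : Subgroup G)

instance tateD_normal : (tateD P).Normal := by
  unfold tateD
  infer_instance

theorem mem_tateD (x : ↥(P : Subgroup G)) : x ∈ tateD P ↔ (x : G) ∈ Cfsg.pResidual p G :=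
  Subgroup.mem_subgroupOf

/-- the derived subgroup of `P ∩ O^p(G)` -/
def tateD0 : Subgroup ↥(P : Subgroup G) := ⁅tateD P, tateD P⁆

instance tateD0_normal : (tateD0 P).Normal := by
  unfold tateD0
  infer_instance

theorem tateD0_le : tateD0 P ≤ tateD P := Subgroup.commutator_le_right _ _

/-- `P → G/O^p(G)` -/
def tateBeta : ↥(P : Subgroup G) →* G ⧸ Cfsg.pResidual p G :=
  (QuotientGroup.mk' (Cfsg.pResidual p G)).comp (P : Subgroup G).subtype

theorem tateBeta_apply (x : ↥(P : Subgroup G)) :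
    tateBeta P x = ((x : G) : G ⧸ Cfsg.pResidual p G) := rfl

theorem tateBeta_eq_one_iff (x : ↥(P : Subgroup G)) : tateBeta P x = 1 ↔ x ∈ tateD P := by
  rw [tateBeta_apply, QuotientGroup.eq_one_iff, mem_tateD]

theorem tateD0_le_ker : tateD0 P ≤ (tateBeta P).ker := by
  intro x hx
  rw [MonoidHom.mem_ker, tateBeta_eq_one_iff]
  exact tateD0_le P hx

/-- `P/D₀ → G/O^p(G)` -/
def tateBetaBar : ↥(P : Subgroup G) ⧸ tateD0 P →* G ⧸ Cfsg.pResidual p G :=
  QuotientGroup.lift (tateD0 P) (tateBeta P) (tateD0_le_ker P)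

theorem tateBetaBar_mk (x : ↥(P : Subgroup G)) :
    tateBetaBar P (x : ↥(P : Subgroup G) ⧸ tateD0 P) = ((x : G) : G ⧸ Cfsg.pResidual p G) := rfl

/-- the pullback extension `E = G ×_{G/L} P/D₀` -/
def tateE : Subgroup (G × (↥(P : Subgroup G) ⧸ tateD0 P)) where
  carrier := {e | ((e.1 : G) : G ⧸ Cfsg.pResidual p G) = tateBetaBar P e.2}
  mul_mem' := by
    intro a b ha hb
    simp only [Set.mem_ofPred_eq] at ha hb ⊢
    rw [Prod.fst_mul, Prod.snd_mul, QuotientGroup.mk_mul, map_mul, ha, hb]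
  one_mem' := by
    simp
  inv_mem' := by
    intro a ha
    simp only [Set.mem_ofPred_eq] at ha ⊢
    rw [Prod.fst_inv, Prod.snd_inv, QuotientGroup.mk_inv, map_inv, ha]

theorem mem_tateE (e : G × (↥(P : Subgroup G) ⧸ tateD0 P)) :
    e ∈ tateE P ↔ ((e.1 : G) : G ⧸ Cfsg.pResidual p G) = tateBetaBar P e.2 := Iff.rfl

/-- first projection -/
def tatePi1 : ↥(tateE P) →* G := (MonoidHom.fst G _).comp (tateE P).subtype

/-- second projection -/
def tatePi2 : ↥(tateE P) →* ↥(P : Subgroup G) ⧸ tateD0 P := (MonoidHom.snd G _).comp (tateE P).subtype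

theorem tatePi1_apply (e : ↥(tateE P)) : tatePi1 P e = e.1.1 := rfl
theorem tatePi2_apply (e : ↥(tateE P)) : tatePi2 P e = e.1.2 := rfl

theorem tateE_ext (e e' : ↥(tateE P)) (h1 : tatePi1 P e = tatePi1 P e') (h2 : tatePi2 P e = tatePi2 P e') :
    e = e' := by
  apply Subtype.ext
  exact Prod.ext h1 h2

/-- the section over `P` -/
def tateSigma : ↥(P : Subgroup G) →* ↥(tateE P) :=
  (MonoidHom.prod (P : Subgroup G).subtype (QuotientGroup.mk' (tateD0 P))).codRestrict (tateE P) (by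
    intro x
    rw [mem_tateE]
    rfl)

theorem tatePi1_sigma (x : ↥(P : Subgroup G)) : tatePi1 P (tateSigma P x) = (x : G) := rfl
theorem tatePi2_sigma (x : ↥(P : Subgroup G)) :
    tatePi2 P (tateSigma P x) = (x : ↥(P : Subgroup G) ⧸ tateD0 P) := rfl

theorem tateE_rel (e : ↥(tateE P)) :
    ((tatePi1 P e : G) : G ⧸ Cfsg.pResidual p G) = tateBetaBar P (tatePi2 P e) := e.2

/-- the kernel `Z` of the extension -/
def tateK : Subgroup ↥(tateE P) := (tatePi1 P).ker

instance tateK_normal : (tateK P).Normal := by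
  unfold tateK
  infer_instance

/-- the preimage of `P` -/
def tateU : Subgroup ↥(tateE P) := (P : Subgroup G).comap (tatePi1 P)

/-- the complement of `Z` in the preimage of `P` -/
def tateA : Subgroup ↥(tateE P) := (tateSigma P).range

theorem tateK_le_tateU : tateK P ≤ tateU P := by
  intro e he
  have h1 : tatePi1 P e = 1 := he
  show tatePi1 P e ∈ (P : Subgroup G)
  rw [h1]
  exact one_mem _

theorem tateA_le_tateU : tateA P ≤ tateU P := by
  rintro _ ⟨x, rfl⟩
  show tatePi1 P (tateSigma P x) ∈ (P : Subgroup G)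
  rw [tatePi1_sigma]
  exact x.2

theorem tateA_inf_tateK : tateA P ⊓ tateK P = ⊥ := by
  rw [eq_bot_iff]
  rintro _ ⟨⟨x, rfl⟩, hk⟩
  have h1 : tatePi1 P (tateSigma P x) = 1 := hk
  rw [tatePi1_sigma] at h1
  have hx : x = 1 := Subtype.ext h1
  rw [hx, map_one]
  exact Subgroup.mem_bot.mpr rfl

theorem tateK_sup_tateA : tateK P ⊔ tateA P = tateU P := by
  apply le_antisymm (sup_le (tateK_le_tateU P) (tateA_le_tateU P))
  intro e he
  have hx : tatePi1 P e ∈ (P : Subgroup G) := he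
  set x : ↥(P : Subgroup G) := ⟨tatePi1 P e, hx⟩ with hxdef
  have h1 : e * (tateSigma P x)⁻¹ ∈ tateK P := by
    show tatePi1 P (e * (tateSigma P x)⁻¹) = 1
    rw [map_mul, map_inv, tatePi1_sigma]
    exact mul_inv_cancel _
  have h2 : tateSigma P x ∈ tateA P := ⟨x, rfl⟩
  have : e = (e * (tateSigma P x)⁻¹) * tateSigma P x := by group
  rw [this]
  exact Subgroup.mul_mem_sup h1 h2

/-- elements of the kernel have second component in `D/D₀` -/
theorem exists_of_mem_tateK (e : ↥(tateE P)) (he : e ∈ tateK P) :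
    ∃ x : ↥(P : Subgroup G), x ∈ tateD P ∧ tatePi2 P e = (x : ↥(P : Subgroup G) ⧸ tateD0 P) := by
  have h1 : tatePi1 P e = 1 := he
  obtain ⟨x, hx⟩ := QuotientGroup.mk_surjective (tatePi2 P e)
  refine ⟨x, ?_, hx.symm⟩
  have h2 := tateE_rel P e
  rw [h1, ← hx, tateBetaBar_mk] at h2
  rw [mem_tateD]
  have h3 : ((x : G) : G ⧸ Cfsg.pResidual p G) = 1 := by
    rw [← h2]; rfl
  exact (QuotientGroup.eq_one_iff _).mp h3

instance tateK_comm : IsMulCommutative ↥(tateK P) := by
  refine ⟨⟨?_⟩⟩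
  intro a b
  obtain ⟨x, hx, hxa⟩ := exists_of_mem_tateK P a.1 a.2
  obtain ⟨y, hy, hyb⟩ := exists_of_mem_tateK P b.1 b.2
  apply Subtype.ext
  apply tateE_ext
  · have ha : tatePi1 P a.1 = 1 := a.2
    have hb : tatePi1 P b.1 = 1 := b.2
    show tatePi1 P (a.1 * b.1) = tatePi1 P (b.1 * a.1)
    rw [map_mul, map_mul, ha, hb]
  · show tatePi2 P (a.1 * b.1) = tatePi2 P (b.1 * a.1)
    rw [map_mul, map_mul, hxa, hyb, ← QuotientGroup.mk_mul, ← QuotientGroup.mk_mul,
      QuotientGroup.eq]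
    have : (x * y)⁻¹ * (y * x) = ⁅y⁻¹, x⁻¹⁆ := by
      rw [commutatorElement_def]; group
    rw [this]
    exact Subgroup.commutator_mem_commutator (inv_mem hy) (inv_mem hx)

variable [Finite G] [hp : Fact p.Prime]

theorem tatePi1_surjective : Function.Surjective (tatePi1 P) := by
  intro g
  have htop := pResidual_sup_sylow p G P
  have hg : g ∈ ((Cfsg.pResidual p G ⊔ (P : Subgroup G) : Subgroup G) : Set G) := by
    rw [htop]; trivial
  rw [Subgroup.normal_mul] at hg
  obtain ⟨l, hl, x, hx, rfl⟩ := hg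
  refine ⟨⟨(l * x, ((⟨x, hx⟩ : ↥(P : Subgroup G)) : ↥(P : Subgroup G) ⧸ tateD0 P)), ?_⟩, rfl⟩
  rw [mem_tateE, tateBetaBar_mk]
  show ((l * x : G) : G ⧸ Cfsg.pResidual p G) = ((x : G) : G ⧸ Cfsg.pResidual p G)
  rw [QuotientGroup.mk_mul, (QuotientGroup.eq_one_iff l).mpr hl, one_mul]

omit [Finite G] hp in
theorem isPGroup_quot : IsPGroup p (↥(P : Subgroup G) ⧸ tateD0 P) := P.2.to_quotient _

omit [Finite G] hp in
theorem isPGroup_tateK : IsPGroup p ↥(tateK P) := by
  apply IsPGroup.of_injective (isPGroup_quot P) ((tatePi2 P).comp (tateK P).subtype)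
  intro a b hab
  apply Subtype.ext
  apply tateE_ext
  · have ha : tatePi1 P a.1 = 1 := a.2
    have hb : tatePi1 P b.1 = 1 := b.2
    rw [ha, hb]
  · exact hab

theorem tate_coprime : (Nat.card ↥(tateK P)).Coprime (tateU P).index := by
  obtain ⟨k, hk⟩ := IsPGroup.iff_card.mp (isPGroup_tateK P)
  rw [hk]
  have h1 : (tateU P).index = (P : Subgroup G).index := by
    unfold tateU
    exact Subgroup.index_comap_of_surjective _ (tatePi1_surjective P)
  rw [h1]
  exact Nat.Coprime.pow_left k ((Nat.Prime.coprime_iff_not_dvd hp.1).mpr P.not_dvd_index)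

/-- **Tate's theorem, core case**: if `P ∩ O^p(G) ≤ Φ(P)` then `P ∩ O^p(G) = 1`. -/
theorem tate_core (hG : GaschutzExists.{u})
    (hfr : ∀ x : ↥(P : Subgroup G), x ∈ tateD P → x ∈ frattini ↥(P : Subgroup G)) :
    tateD P = ⊥ := by
  by_contra hne
  have hnil : Group.IsNilpotent ↥(P : Subgroup G) := P.2.isNilpotent
  have hlt : tateD0 P < tateD P := Group.IsSolvable.commutator_lt_of_ne_bot hne
  obtain ⟨d, hdD, hdD0⟩ := SetLike.exists_of_lt hlt
  obtain ⟨H, hH⟩ := hG ↥(tateE P) (tateK P) (tateU P) (tateK_le_tateU P) (tate_coprime P) (tateA P)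
    (tateA_le_tateU P) (tateA_inf_tateK P) (tateK_sup_tateA P)
  have hdisj : ∀ e, e ∈ tateK P → e ∈ H → e = 1 := by
    intro e h1 h2
    have := hH.disjoint.le_bot (show e ∈ tateK P ⊓ H from ⟨h1, h2⟩)
    exact Subgroup.mem_bot.mp this
  have hprod : ∀ e : ↥(tateE P), ∃ k ∈ tateK P, ∃ h ∈ H, e = k * h := by
    intro e
    have h1 : e ∈ (((tateK P) ⊔ H : Subgroup ↥(tateE P)) : Set ↥(tateE P)) := by
      rw [hH.sup_eq_top]; trivial
    rw [Subgroup.normal_mul] at h1
    obtain ⟨k, hk, h, hh, rfl⟩ := h1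
    exact ⟨k, hk, h, hh, rfl⟩
  -- (1) elements of order prime to p lift with trivial second component
  have h1 : ∀ g : G, Nat.Coprime (orderOf g) p → ∃ h ∈ H, tatePi1 P h = g ∧ tatePi2 P h = 1 := by
    intro g hg
    obtain ⟨e, he⟩ := tatePi1_surjective P g
    obtain ⟨k, hk, h, hh, rfl⟩ := hprod e
    have hk1 : tatePi1 P k = 1 := hk
    have hhg : tatePi1 P h = g := by
      rw [map_mul, hk1, one_mul] at he
      exact he
    refine ⟨h, hh, hhg, ?_⟩
    have hpow : h ^ orderOf g = 1 := by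
      apply hdisj _ _ (pow_mem hh _)
      show tatePi1 P (h ^ orderOf g) = 1
      rw [map_pow, hhg, pow_orderOf_eq_one]
    have hq1 : (tatePi2 P h) ^ orderOf g = 1 := by
      rw [← map_pow, hpow, map_one]
    obtain ⟨j, hj⟩ := (isPGroup_quot P) (tatePi2 P h)
    have hd1 : orderOf (tatePi2 P h) ∣ orderOf g := orderOf_dvd_of_pow_eq_one hq1
    have hd2 : orderOf (tatePi2 P h) ∣ p ^ j := orderOf_dvd_of_pow_eq_one hj
    have : orderOf (tatePi2 P h) = 1 :=
      Nat.eq_one_of_dvd_coprimes (Nat.Coprime.pow_right j hg) hd1 hd2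
    exact orderOf_eq_one_iff.mp this
  -- (2) the same for all elements of O^p(G)
  have h2 : ∀ g ∈ Cfsg.pResidual p G, ∃ h ∈ H, tatePi1 P h = g ∧ tatePi2 P h = 1 := by
    intro g hg
    unfold Cfsg.pResidual at hg
    induction hg using Subgroup.closure_induction with
    | mem x hx => exact h1 x hx
    | one => exact ⟨1, one_mem _, map_one _, map_one _⟩
    | mul x y _ _ hx hy =>
      obtain ⟨a, ha, ha1, ha2⟩ := hx
      obtain ⟨b, hb, hb1, hb2⟩ := hy
      exact ⟨a * b, mul_mem ha hb, by rw [map_mul, ha1, hb1], by rw [map_mul, ha2, hb2, one_mul]⟩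
    | inv x _ hx =>
      obtain ⟨a, ha, ha1, ha2⟩ := hx
      exact ⟨a⁻¹, inv_mem ha, by rw [map_inv, ha1], by rw [map_inv, ha2, inv_one]⟩
  -- (3) the image of H in P/D₀ is everything
  have h3 : H.map (tatePi2 P) = ⊤ := by
    apply frattini_nongenerating
    rw [eq_top_iff]
    intro q _
    obtain ⟨x, rfl⟩ := QuotientGroup.mk_surjective q
    obtain ⟨k, hk, h, hh, hkh⟩ := hprod (tateSigma P x)
    obtain ⟨y, hy, hky⟩ := exists_of_mem_tateK P k hk
    have hyf : (y : ↥(P : Subgroup G) ⧸ tateD0 P) ∈ frattini (↥(P : Subgroup G) ⧸ tateD0 P) := by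
      have := frattini_le_comap_frattini_of_surjective
        (φ := QuotientGroup.mk' (tateD0 P)) (QuotientGroup.mk'_surjective _) (hfr y hy)
      exact this
    have h4 : tatePi2 P (tateSigma P x) = tatePi2 P (k * h) := by rw [hkh]
    rw [tatePi2_sigma, map_mul, hky] at h4
    rw [h4, sup_comm]
    exact Subgroup.mul_mem_sup hyf (Subgroup.mem_map_of_mem _ hh)
  -- (4) contradiction
  obtain ⟨h, hh, hhd⟩ : ∃ h ∈ H, tatePi2 P h = (d : ↥(P : Subgroup G) ⧸ tateD0 P) := by
    have : (d : ↥(P : Subgroup G) ⧸ tateD0 P) ∈ H.map (tatePi2 P) := by rw [h3]; trivial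
    obtain ⟨h, hh, hhd⟩ := this
    exact ⟨h, hh, hhd⟩
  have hgL : tatePi1 P h ∈ Cfsg.pResidual p G := by
    have := tateE_rel P h
    rw [hhd, tateBetaBar_mk] at this
    have hd1 : ((d : G) : G ⧸ Cfsg.pResidual p G) = 1 :=
      (QuotientGroup.eq_one_iff _).mpr ((mem_tateD P d).mp hdD)
    rw [hd1] at this
    exact (QuotientGroup.eq_one_iff _).mp this
  obtain ⟨h', hh', hh'1, hh'2⟩ := h2 _ hgL
  have heq : h * h'⁻¹ = 1 := by
    apply hdisj _ _ (mul_mem hh (inv_mem hh'))
    show tatePi1 P (h * h'⁻¹) = 1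
    rw [map_mul, map_inv, hh'1, mul_inv_cancel]
  have hhh : h = h' := mul_inv_eq_one.mp heq
  rw [hhh, hh'2] at hhd
  exact hdD0 ((QuotientGroup.eq_one_iff d).mp hhd.symm)

end TateCore

section TateMain

variable {G : Type u} [Group G] [Finite G] {p : ℕ} [hp : Fact p.Prime]

omit [Finite G] hp in
/-- elements of order prime to `p` of `N P` lie in `N` -/
theorem mem_of_coprime_of_mem_sup (P : Sylow p G) (N : Subgroup G) [N.Normal] (t : G)
    (ht : t ∈ N ⊔ (P : Subgroup G)) (hcop : Nat.Coprime (orderOf t) p) : t ∈ N := by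
  have ht' : t ∈ ((N ⊔ (P : Subgroup G) : Subgroup G) : Set G) := ht
  rw [Subgroup.normal_mul] at ht'
  obtain ⟨n, hn, x, hx, rfl⟩ := ht'
  obtain ⟨j, hj⟩ := P.2 ⟨x, hx⟩
  have hj' : x ^ (p ^ j) = 1 := by
    have := congrArg Subtype.val hj
    simpa using this
  have hmk : ((n * x : G) : G ⧸ N) = ((x : G) : G ⧸ N) := by
    rw [QuotientGroup.mk_mul, (QuotientGroup.eq_one_iff n).mpr hn, one_mul]
  have h1 : ((n * x : G) : G ⧸ N) ^ (p ^ j) = 1 := by
    rw [hmk, ← QuotientGroup.mk_pow, hj', QuotientGroup.mk_one]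
  have h2 : ((n * x : G) : G ⧸ N) ^ orderOf (n * x) = 1 := by
    rw [← QuotientGroup.mk_pow, pow_orderOf_eq_one, QuotientGroup.mk_one]
  have hd1 := orderOf_dvd_of_pow_eq_one h1
  have hd2 := orderOf_dvd_of_pow_eq_one h2
  have : orderOf ((n * x : G) : G ⧸ N) = 1 :=
    Nat.eq_one_of_dvd_coprimes (Nat.Coprime.pow_right j hcop) hd2 hd1
  exact (QuotientGroup.eq_one_iff _).mp (orderOf_eq_one_iff.mp this)

omit [Finite G] hp in
/-- `O^p` is monotone along inclusions of subgroups. -/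
theorem map_inclusion_pResidual_le {A B : Subgroup G} (hAB : A ≤ B) :
    (Cfsg.pResidual p ↥A).map (Subgroup.inclusion hAB) ≤ Cfsg.pResidual p ↥B := by
  unfold Cfsg.pResidual
  rw [MonoidHom.map_closure, Subgroup.closure_le]
  rintro _ ⟨a, ha, rfl⟩
  apply Subgroup.subset_closure
  simp only [Set.mem_ofPred_eq] at ha ⊢
  rwa [orderOf_injective (Subgroup.inclusion hAB) (Subgroup.inclusion_injective hAB) a]

/-- **Tate's theorem**: a normal subgroup meeting a Sylow `p`-subgroup `P` inside `Φ(P)` has a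
normal `p`-complement. -/
theorem tate_normal_pComplement (hG : GaschutzExists.{u}) (P : Sylow p G) (N : Subgroup G) [N.Normal]
    (h : N ⊓ (P : Subgroup G) ≤ (frattini ↥(P : Subgroup G)).map (P : Subgroup G).subtype) :
    Cfsg.HasNormalPComplement p ↥N := by
  set T : Subgroup G := N ⊔ (P : Subgroup G) with hT
  have hPT : (P : Subgroup G) ≤ T := le_sup_right
  have hNT : N ≤ T := le_sup_left
  set P₁ : Sylow p ↥T := P.subtype hPT with hP₁
  have hmemP₁ : ∀ t : ↥T, t ∈ (P₁ : Subgroup ↥T) ↔ (t : G) ∈ (P : Subgroup G) := by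
    intro t
    rw [hP₁, Sylow.coe_subtype, Subgroup.mem_subgroupOf]
  -- the comparison map P → P₁
  let g : ↥(P : Subgroup G) →* ↥(P₁ : Subgroup ↥T) :=
    (Subgroup.inclusion hPT).codRestrict (P₁ : Subgroup ↥T) (fun y => (hmemP₁ _).mpr y.2)
  have hgsurj : Function.Surjective g := by
    intro x
    refine ⟨⟨((x : ↥T) : G), (hmemP₁ _).mp x.2⟩, ?_⟩
    apply Subtype.ext
    apply Subtype.ext
    rfl
  have hfr : ∀ x : ↥(P₁ : Subgroup ↥T), x ∈ tateD P₁ → x ∈ frattini ↥(P₁ : Subgroup ↥T) := by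
    intro x hx
    rw [mem_tateD] at hx
    have hxN : ((x : ↥T) : G) ∈ N := by
      have h1 : (x : ↥T) ∈ (Cfsg.pResidual p ↥T) := hx
      have h2 : Cfsg.pResidual p ↥T ≤ N.subgroupOf T := by
        unfold Cfsg.pResidual
        rw [Subgroup.closure_le]
        intro t ht
        simp only [Set.mem_ofPred_eq] at ht
        show (t : G) ∈ N
        apply mem_of_coprime_of_mem_sup P N (t : G) t.2
        rwa [← orderOf_injective T.subtype Subtype.coe_injective t] at ht
      exact h2 h1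
    have hxP : ((x : ↥T) : G) ∈ (P : Subgroup G) := (hmemP₁ _).mp x.2
    obtain ⟨y, hy, hyx⟩ := h ⟨hxN, hxP⟩
    have h3 := frattini_le_comap_frattini_of_surjective hgsurj hy
    have h4 : g y = x := by
      apply Subtype.ext
      apply Subtype.ext
      exact hyx
    rw [← h4]
    exact h3
  have hcore := tate_core P₁ hG hfr
  -- O^p(N) has order prime to p
  have hcop : (Nat.card ↥(Cfsg.pResidual p ↥N)).Coprime p := by
    rw [Nat.coprime_comm, Nat.Prime.coprime_iff_not_dvd hp.1]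
    intro hdvd
    obtain ⟨z, hz⟩ := exists_prime_orderOf_dvd_card' p hdvd
    -- z : ↥(pResidual p ↥N) of order p
    set t : ↥T := Subgroup.inclusion hNT (z : ↥N) with ht
    have htR : t ∈ Cfsg.pResidual p ↥T :=
      map_inclusion_pResidual_le hNT ⟨(z : ↥N), z.2, rfl⟩
    have hto : orderOf t = p := by
      rw [ht, orderOf_injective (Subgroup.inclusion hNT) (Subgroup.inclusion_injective hNT)]
      exact (orderOf_injective (Cfsg.pResidual p ↥N).subtype Subtype.coe_injective z).trans hz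
    have hZp : IsPGroup p ↥(Subgroup.zpowers t) := by
      apply IsPGroup.of_card (n := 1)
      rw [Nat.card_zpowers, hto, pow_one]
    obtain ⟨c, hc⟩ := exists_conj_mem_sylow P₁ (Subgroup.zpowers t) hZp
    have h1 : c * t * c⁻¹ ∈ (P₁ : Subgroup ↥T) := hc t (Subgroup.mem_zpowers t)
    have h2 : c * t * c⁻¹ ∈ Cfsg.pResidual p ↥T :=
      (pResidual_normal p ↥T).conj_mem t htR c
    have h3 : (⟨c * t * c⁻¹, h1⟩ : ↥(P₁ : Subgroup ↥T)) ∈ tateD P₁ := (mem_tateD P₁ _).mpr h2
    rw [hcore, Subgroup.mem_bot] at h3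
    have h4 : c * t * c⁻¹ = 1 := congrArg Subtype.val h3
    have h5 : t = 1 := by
      have : t = c⁻¹ * (c * t * c⁻¹) * c := by group
      rw [this, h4]; group
    rw [h5, orderOf_one] at hto
    exact hp.1.one_lt.ne hto
  obtain ⟨k, hk⟩ := IsPGroup.iff_card.mp (pResidual_quotient_isPGroup p ↥N)
  have hidx : (Cfsg.pResidual p ↥N).index = p ^ k := by
    rw [Subgroup.index_eq_card]; exact hk
  have Q : Sylow p ↥N := default
  exact ⟨Q, Cfsg.pResidual p ↥N, pResidual_normal p ↥N,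
    Cfsg.Agent.Helper78.isComplement'_of_coprime_of_index Q _ hcop hidx⟩

end TateMain

end Cfsg.Agent.Helper34
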