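import Mathlib
import Cfsg.Agent.Helper34.Basic

set_option autoImplicit false

namespace Cfsg.Agent.Helper34

open scoped Pointwise

variable {G : Type*} [Group G] {p : ℕ}

/-- strict inclusion of finite subgroups gives strict inequality of orders -/
theorem card_lt_of_lt [Finite G] {H K : Subgroup G} (h : H < K) : Nat.card H < Nat.card K := by
  by_contra hcon
  push Not at hcon
  exact h.ne (Subgroup.eq_of_le_of_card_ge h.le hcon)

/-- Normalizers grow in finite `p`-groups (ambient form). -/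
theorem lt_inf_normalizer_of_lt [Finite G] [Fact p.Prime] {R D : Subgroup G} (hR : IsPGroup p R)
    (hDR : D ≤ R) (hne : D ≠ R) : D < R ⊓ Subgroup.normalizer (D : Set G) := by
  have hnil : Group.IsNilpotent R := hR.isNilpotent
  have hlt : D.subgroupOf R < ⊤ := by
    rw [lt_top_iff_ne_top]
    intro h
    exact hne (le_antisymm hDR (Subgroup.subgroupOf_eq_top.mp h))
  have h1 := Group.normalizerCondition_of_isNilpotent (G := R) (D.subgroupOf R) hlt
  obtain ⟨r, hrN, hrD⟩ := SetLike.exists_of_lt h1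
  rw [← Subgroup.subgroupOf_normalizer_eq hDR, Subgroup.mem_subgroupOf] at hrN
  rw [Subgroup.mem_subgroupOf] at hrD
  refine lt_of_le_of_ne (le_inf hDR Subgroup.le_normalizer) ?_
  intro h
  apply hrD
  rw [h]
  exact ⟨r.2, hrN⟩

/-- A `p`-subgroup of `N` lies in a Sylow `p`-subgroup `S` of `G` with `S ∩ N` Sylow in `N`. -/
theorem exists_sylow_ge_relIndex [Finite G] [Fact p.Prime] (N X : Subgroup G) (hXN : X ≤ N)
    (hX : IsPGroup p X) :
    ∃ S : Sylow p G, X ≤ (S : Subgroup G) ∧ ¬ p ∣ ((S : Subgroup G) ⊓ N).relIndex N := by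
  have hX' : IsPGroup p (X.subgroupOf N) := hX.comap_subtype
  obtain ⟨T, hT⟩ := hX'.exists_le_sylow
  have hTm : IsPGroup p ((T : Subgroup N).map N.subtype) := T.2.map _
  obtain ⟨S, hS⟩ := hTm.exists_le_sylow
  refine ⟨S, ?_, ?_⟩
  · intro x hx
    apply hS
    rw [Subgroup.mem_map]
    exact ⟨⟨x, hXN hx⟩, hT (by rw [Subgroup.mem_subgroupOf]; exact hx), rfl⟩
  · have hle : (T : Subgroup N) ≤ ((S : Subgroup G) ⊓ N).subgroupOf N := by
      intro t ht
      rw [Subgroup.mem_subgroupOf]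
      exact ⟨hS (Subgroup.mem_map.mpr ⟨t, ht, rfl⟩), t.2⟩
    have hp' : IsPGroup p (((S : Subgroup G) ⊓ N).subgroupOf N) :=
      (S.2.to_le inf_le_left).comap_subtype
    have heq := T.is_maximal' hp' hle
    unfold Subgroup.relIndex
    rw [heq]
    exact T.not_dvd_index

/-- Two Sylow `p`-subgroups are conjugate by a product of `p`-elements. -/
theorem exists_pElement_list_conj {N : Type*} [Group N] [Finite N] [hp : Fact p.Prime] (T₁ T₂ : Sylow p N) :
    ∃ l : List N, (∀ u ∈ l, ∃ k : ℕ, orderOf u = p ^ k) ∧ ∀ a ∈ T₁, (l.prod)⁻¹ * a * l.prod ∈ T₂ := by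
  set K : Subgroup N := Subgroup.closure {u : N | ∃ k : ℕ, orderOf u = p ^ k} with hK
  have hle : ∀ T : Sylow p N, (T : Subgroup N) ≤ K := by
    intro T t ht
    apply Subgroup.subset_closure
    obtain ⟨k, hk⟩ := (IsPGroup.iff_orderOf.mp T.2) ⟨t, ht⟩
    exact ⟨k, by rw [← hk, Subgroup.orderOf_mk]⟩
  -- every element of K is a product of p-elements
  have hlist : ∀ z ∈ K, ∃ l : List N, (∀ u ∈ l, ∃ k : ℕ, orderOf u = p ^ k) ∧ l.prod = z := by
    intro z hz
    induction hz using Subgroup.closure_induction with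
    | mem x hx => exact ⟨[x], by simpa using hx, by simp⟩
    | one => exact ⟨[], by simp, by simp⟩
    | mul x y _ _ hx hy =>
      obtain ⟨l₁, h₁, rfl⟩ := hx
      obtain ⟨l₂, h₂, rfl⟩ := hy
      refine ⟨l₁ ++ l₂, ?_, by simp⟩
      intro u hu
      rcases List.mem_append.mp hu with h | h
      · exact h₁ u h
      · exact h₂ u h
    | inv x _ hx =>
      obtain ⟨l, h, rfl⟩ := hx
      refine ⟨(l.map fun x => x⁻¹).reverse, ?_, (List.prod_inv_reverse l).symm⟩
      intro u hu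
      rw [List.mem_reverse, List.mem_map] at hu
      obtain ⟨v, hv, rfl⟩ := hu
      obtain ⟨k, hk⟩ := h v hv
      exact ⟨k, by rw [orderOf_inv, hk]⟩
  -- Sylow conjugacy inside K
  let T₂' : Sylow p K := T₂.subtype (hle T₂)
  have hX : IsPGroup p ((T₁ : Subgroup N).subgroupOf K) := T₁.2.comap_subtype
  obtain ⟨n, hn⟩ := exists_conj_mem_sylow T₂' _ hX
  obtain ⟨l, hl, hprod⟩ := hlist ((n : N)⁻¹) (K.inv_mem n.2)
  refine ⟨l, hl, ?_⟩
  intro a ha
  have h1 := hn ⟨a, hle T₁ ha⟩ (by rw [Subgroup.mem_subgroupOf]; exact ha)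
  have h2 : n * ⟨a, hle T₁ ha⟩ * n⁻¹ ∈ (T₂ : Subgroup N).subgroupOf K := h1
  rw [Subgroup.mem_subgroupOf] at h2
  rw [hprod, inv_inv]
  have h3 : (n : N) * a * (n : N)⁻¹ ∈ (T₂ : Subgroup N) := by simpa using h2
  exact h3

/-- Ambient version: two `p`-subgroups meeting `N` in Sylow subgroups of `N`. -/
theorem exists_pElement_list_conj_of_relIndex [Finite G] [hp : Fact p.Prime] (N R₁ R₂ : Subgroup G)
    (h₁p : IsPGroup p R₁) (h₂p : IsPGroup p R₂) (h₁ : ¬ p ∣ (R₁ ⊓ N).relIndex N)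
    (h₂ : ¬ p ∣ (R₂ ⊓ N).relIndex N) :
    ∃ l : List G, (∀ u ∈ l, u ∈ N ∧ ∃ k : ℕ, orderOf u = p ^ k) ∧
      ∀ a ∈ R₁ ⊓ N, (l.prod)⁻¹ * a * l.prod ∈ R₂ := by
  have hp₁ : IsPGroup p ((R₁ ⊓ N).subgroupOf N) := (h₁p.to_le inf_le_left).comap_subtype
  have hp₂ : IsPGroup p ((R₂ ⊓ N).subgroupOf N) := (h₂p.to_le inf_le_left).comap_subtype
  let T₁ : Sylow p N := hp₁.toSylow h₁
  let T₂ : Sylow p N := hp₂.toSylow h₂
  obtain ⟨l', hl', hconj⟩ := exists_pElement_list_conj T₁ T₂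
  refine ⟨l'.map Subtype.val, ?_, ?_⟩
  · intro u hu
    rw [List.mem_map] at hu
    obtain ⟨v, hv, rfl⟩ := hu
    obtain ⟨k, hk⟩ := hl' v hv
    exact ⟨v.2, k, by rw [Subgroup.orderOf_coe, hk]⟩
  · intro a ha
    have h1 := hconj ⟨a, ha.2⟩ (by
      show (⟨a, ha.2⟩ : N) ∈ (R₁ ⊓ N).subgroupOf N
      rw [Subgroup.mem_subgroupOf]; exact ha)
    have h2 : (l'.prod)⁻¹ * ⟨a, ha.2⟩ * l'.prod ∈ (R₂ ⊓ N).subgroupOf N := h1
    rw [Subgroup.mem_subgroupOf] at h2
    have h3 : (l'.map Subtype.val).prod = ((l'.prod : N) : G) := by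
      have := map_list_prod N.subtype l'
      simp
    rw [h3]
    simpa using h2.1

end Cfsg.Agent.Helper34
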