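import Mathlib
import Cfsg.Agent.Helper34.Basic
import Cfsg.Agent.Helper34.AlperinSylow

set_option autoImplicit false

namespace Cfsg.Agent.Helper34

open scoped Pointwise

variable {G : Type*} [Group G]

/-! ### Right conjugation of sets -/

/-- right conjugate of a set: `x⁻¹ B x`. -/
def rconj (x : G) (B : Set G) : Set G := (fun a => x⁻¹ * a * x) '' B

theorem rconj_one (B : Set G) : rconj (1 : G) B = B := by
  unfold rconj
  simp

theorem rconj_mul (x y : G) (B : Set G) : rconj (x * y) B = rconj y (rconj x B) := by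
  unfold rconj
  rw [Set.image_image]
  congr 1
  funext a
  group

theorem rconj_mono (x : G) {B B' : Set G} (h : B' ⊆ B) : rconj x B' ⊆ rconj x B :=
  Set.image_mono h

theorem mem_rconj_iff (x : G) (B : Set G) (a : G) : a ∈ rconj x B ↔ x * a * x⁻¹ ∈ B := by
  unfold rconj
  constructor
  · rintro ⟨b, hb, rfl⟩
    have : x * (x⁻¹ * b * x) * x⁻¹ = b := by group
    rwa [this]
  · intro h
    exact ⟨x * a * x⁻¹, h, by group⟩

/-- right conjugation of a subgroup normalized by `x` -/
theorem rconj_subgroup_of_mem_normalizer (H : Subgroup G) (x : G)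
    (hx : x ∈ Subgroup.normalizer (H : Set G)) : rconj x (H : Set G) = (H : Set G) := by
  ext a
  rw [mem_rconj_iff]
  exact (Subgroup.mem_normalizer_iff.mp hx a).symm

/-! ### Alperin chains -/

variable {p : ℕ}

/-- The step condition of Alperin's theorem: `x` normalizes the tame intersection `P ∩ Q`, and is a
`p`-element unless `Q = P`. -/
def AStep (P Q : Sylow p G) (x : G) : Prop :=
  x ∈ Subgroup.normalizer ((((P : Subgroup G) ⊓ (Q : Subgroup G)) : Subgroup G) : Set G) ∧
  ¬ p ∣ ((P : Subgroup G) ⊓ Subgroup.normalizer ((((P : Subgroup G) ⊓ (Q : Subgroup G)) : Subgroup G) : Set G)).relIndex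
      (Subgroup.normalizer ((((P : Subgroup G) ⊓ (Q : Subgroup G)) : Subgroup G) : Set G)) ∧
  ¬ p ∣ ((Q : Subgroup G) ⊓ Subgroup.normalizer ((((P : Subgroup G) ⊓ (Q : Subgroup G)) : Subgroup G) : Set G)).relIndex
      (Subgroup.normalizer ((((P : Subgroup G) ⊓ (Q : Subgroup G)) : Subgroup G) : Set G)) ∧
  ((Q : Subgroup G) = (P : Subgroup G) ∨ ∃ k : ℕ, orderOf x = p ^ k)

/-- Product of the elements of a chain. -/
def cprod (L : List (Sylow p G × G)) : G := (L.map Prod.snd).prod

theorem cprod_nil : cprod ([] : List (Sylow p G × G)) = 1 := rfl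

theorem cprod_cons (Q : Sylow p G) (x : G) (L : List (Sylow p G × G)) :
    cprod ((Q, x) :: L) = x * cprod L := by
  unfold cprod
  simp

theorem cprod_append (L₁ L₂ : List (Sylow p G × G)) : cprod (L₁ ++ L₂) = cprod L₁ * cprod L₂ := by
  unfold cprod
  simp

/-- Validity of a chain for a tracked set `B`: every step is admissible and the tracked set lies in the
current intersection. -/
def AValid (P : Sylow p G) : Set G → List (Sylow p G × G) → Prop
  | _, [] => True
  | B, (Q, x) :: L => AStep P Q x ∧ B ⊆ ((((P : Subgroup G) ⊓ (Q : Subgroup G)) : Subgroup G) : Set G) ∧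
      AValid P (rconj x B) L

theorem aValid_nil (P : Sylow p G) (B : Set G) : AValid P B [] := trivial

theorem aValid_cons (P : Sylow p G) (B : Set G) (Q : Sylow p G) (x : G) (L : List (Sylow p G × G)) :
    AValid P B ((Q, x) :: L) ↔ AStep P Q x ∧
      B ⊆ ((((P : Subgroup G) ⊓ (Q : Subgroup G)) : Subgroup G) : Set G) ∧ AValid P (rconj x B) L :=
  Iff.rfl

theorem aValid_mono (P : Sylow p G) (L : List (Sylow p G × G)) :
    ∀ {B B' : Set G}, B' ⊆ B → AValid P B L → AValid P B' L := by
  induction L with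
  | nil => intro _ _ _ _; trivial
  | cons a L ih =>
    obtain ⟨Q, x⟩ := a
    intro B B' hBB' h
    rw [aValid_cons] at h ⊢
    exact ⟨h.1, hBB'.trans h.2.1, ih (rconj_mono x hBB') h.2.2⟩

theorem aValid_append (P : Sylow p G) (L₁ L₂ : List (Sylow p G × G)) :
    ∀ {B : Set G}, AValid P B L₁ → AValid P (rconj (cprod L₁) B) L₂ → AValid P B (L₁ ++ L₂) := by
  induction L₁ with
  | nil =>
    intro B _ h2
    rw [cprod_nil, rconj_one] at h2
    simpa using h2
  | cons a L ih =>
    obtain ⟨Q, x⟩ := a
    intro B h1 h2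
    rw [aValid_cons] at h1
    rw [List.cons_append, aValid_cons]
    refine ⟨h1.1, h1.2.1, ih h1.2.2 ?_⟩
    rwa [cprod_cons, rconj_mul] at h2

/-- The tracked set stays inside `P` along a valid chain. -/
theorem aValid_rconj_subset (P : Sylow p G) (L : List (Sylow p G × G)) :
    ∀ {B : Set G}, AValid P B L → B ⊆ ((P : Subgroup G) : Set G) →
      rconj (cprod L) B ⊆ ((P : Subgroup G) : Set G) := by
  induction L with
  | nil =>
    intro B _ hB
    rwa [cprod_nil, rconj_one]
  | cons a L ih =>
    obtain ⟨Q, x⟩ := a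
    intro B h hB
    rw [aValid_cons] at h
    rw [cprod_cons, rconj_mul]
    apply ih h.2.2
    have h1 : rconj x B ⊆ rconj x ((((P : Subgroup G) ⊓ (Q : Subgroup G)) : Subgroup G) : Set G) :=
      rconj_mono x h.2.1
    rw [rconj_subgroup_of_mem_normalizer _ x h.1.1] at h1
    exact h1.trans (fun a ha => ha.1)

/-- Reading off the conditions at position `i`. -/
theorem aValid_get (P : Sylow p G) (L : List (Sylow p G × G)) :
    ∀ {B : Set G}, AValid P B L → ∀ (i : ℕ) (h : i < L.length),
      AStep P (L[i]).1 (L[i]).2 ∧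
      rconj (((L.map Prod.snd).take i).prod) B ⊆
        ((((P : Subgroup G) ⊓ ((L[i]).1 : Subgroup G)) : Subgroup G) : Set G) := by
  induction L with
  | nil => intro B _ i h; simp at h
  | cons a L ih =>
    obtain ⟨Q, x⟩ := a
    intro B hv i h
    rw [aValid_cons] at hv
    cases i with
    | zero =>
      simp only [List.getElem_cons_zero, List.take_zero, List.prod_nil]
      rw [rconj_one]
      exact ⟨hv.1, hv.2.1⟩
    | succ i =>
      have hi : i < L.length := by simpa using h
      obtain ⟨h1, h2⟩ := ih hv.2.2 i hi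
      simp only [List.getElem_cons_succ, List.map_cons, List.take_succ_cons, List.prod_cons]
      rw [rconj_mul]
      exact ⟨h1, h2⟩

/-! ### Right conjugation of subgroups and Sylow subgroups -/

/-- right conjugate of a subgroup: `x⁻¹ H x`. -/
def cmap (x : G) (H : Subgroup G) : Subgroup G := H.map (MulAut.conj x⁻¹).toMonoidHom

theorem mem_cmap_iff (x : G) (H : Subgroup G) (a : G) : a ∈ cmap x H ↔ x * a * x⁻¹ ∈ H := by
  unfold cmap
  rw [Subgroup.mem_map]
  constructor
  · rintro ⟨b, hb, rfl⟩
    have : x * ((MulAut.conj x⁻¹).toMonoidHom b) * x⁻¹ = b := by simp [mul_assoc]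
    rwa [this]
  · intro h
    exact ⟨x * a * x⁻¹, h, by simp [mul_assoc]⟩

theorem coe_cmap (x : G) (H : Subgroup G) : ((cmap x H : Subgroup G) : Set G) = rconj x (H : Set G) := by
  ext a
  rw [SetLike.mem_coe, mem_cmap_iff, mem_rconj_iff, SetLike.mem_coe]

theorem cmap_one (H : Subgroup G) : cmap (1 : G) H = H := by
  ext a
  rw [mem_cmap_iff]
  simp

theorem cmap_mul (x y : G) (H : Subgroup G) : cmap (x * y) H = cmap y (cmap x H) := by
  ext a
  rw [mem_cmap_iff, mem_cmap_iff, mem_cmap_iff]
  have : x * y * a * (x * y)⁻¹ = x * (y * a * y⁻¹) * x⁻¹ := by group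
  rw [this]

theorem cmap_mono (x : G) {H K : Subgroup G} (h : H ≤ K) : cmap x H ≤ cmap x K :=
  Subgroup.map_mono h

theorem cmap_inf (x : G) (H K : Subgroup G) : cmap x (H ⊓ K) = cmap x H ⊓ cmap x K :=
  Subgroup.map_inf H K _ (MulAut.conj x⁻¹).injective

theorem cmap_normalizer (x : G) (H : Subgroup G) :
    cmap x (Subgroup.normalizer (H : Set G)) = Subgroup.normalizer ((cmap x H : Subgroup G) : Set G) :=
  Subgroup.map_equiv_normalizer_eq H (MulAut.conj x⁻¹)

theorem card_cmap (x : G) (H : Subgroup G) : Nat.card (cmap x H) = Nat.card H :=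
  Subgroup.card_map_of_injective (MulAut.conj x⁻¹).injective

theorem relIndex_cmap (x : G) (H K : Subgroup G) : (cmap x H).relIndex (cmap x K) = H.relIndex K :=
  Subgroup.relIndex_map_map_of_injective H K (MulAut.conj x⁻¹).injective

theorem cmap_eq_self_of_mem_normalizer (x : G) (H : Subgroup G)
    (hx : x ∈ Subgroup.normalizer (H : Set G)) : cmap x H = H := by
  apply SetLike.coe_injective
  rw [coe_cmap, rconj_subgroup_of_mem_normalizer H x hx]

/-- right conjugate of a Sylow subgroup -/
noncomputable def csylow (x : G) (Q : Sylow p G) : Sylow p G := x⁻¹ • Q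

theorem coe_csylow (x : G) (Q : Sylow p G) : ((csylow x Q : Sylow p G) : Subgroup G) = cmap x (Q : Subgroup G) := by
  unfold csylow
  ext a
  rw [mem_cmap_iff, Sylow.coe_subgroup_smul, Subgroup.mem_pointwise_smul_iff_inv_smul_mem]
  simp [MulAut.smul_def]

/-! ### The main induction -/

/-- `Q` is related to `P`: some valid chain for `P ∩ Q` has product conjugating `Q` onto `P`. -/
def ARel (P Q : Sylow p G) : Prop :=
  ∃ L : List (Sylow p G × G),
    AValid P ((((P : Subgroup G) ⊓ (Q : Subgroup G)) : Subgroup G) : Set G) L ∧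
    cmap (cprod L) (Q : Subgroup G) = (P : Subgroup G)

theorem cprod_map_const (R : Sylow p G) (l : List G) : cprod (l.map fun u => (R, u)) = l.prod := by
  unfold cprod
  rw [List.map_map]
  have : (Prod.snd ∘ fun u => (R, u)) = (id : G → G) := rfl
  rw [this, List.map_id]

/-- chain of steps with constant Sylow subgroup `R` and `p`-elements of the normalizer of `P ∩ R` -/
theorem aValid_const (P R : Sylow p G)
    (hP : ¬ p ∣ ((P : Subgroup G) ⊓ Subgroup.normalizer ((((P : Subgroup G) ⊓ (R : Subgroup G)) : Subgroup G) : Set G)).relIndex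
      (Subgroup.normalizer ((((P : Subgroup G) ⊓ (R : Subgroup G)) : Subgroup G) : Set G)))
    (hR : ¬ p ∣ ((R : Subgroup G) ⊓ Subgroup.normalizer ((((P : Subgroup G) ⊓ (R : Subgroup G)) : Subgroup G) : Set G)).relIndex
      (Subgroup.normalizer ((((P : Subgroup G) ⊓ (R : Subgroup G)) : Subgroup G) : Set G))) :
    ∀ l : List G, (∀ u ∈ l, u ∈ Subgroup.normalizer ((((P : Subgroup G) ⊓ (R : Subgroup G)) : Subgroup G) : Set G) ∧
        ∃ k : ℕ, orderOf u = p ^ k) →
      AValid P ((((P : Subgroup G) ⊓ (R : Subgroup G)) : Subgroup G) : Set G) (l.map fun u => (R, u)) := by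
  intro l
  induction l with
  | nil => intro _; exact aValid_nil _ _
  | cons u l ih =>
    intro h
    rw [List.map_cons, aValid_cons]
    have hu := h u (List.mem_cons_self)
    refine ⟨⟨hu.1, hP, hR, Or.inr hu.2⟩, le_refl _, ?_⟩
    rw [rconj_subgroup_of_mem_normalizer _ u hu.1]
    exact ih fun v hv => h v (List.mem_cons_of_mem _ hv)

variable [Finite G] [hp : Fact p.Prime]

theorem exists_chain_tame (P R : Sylow p G)
    (hP : ¬ p ∣ ((P : Subgroup G) ⊓ Subgroup.normalizer ((((P : Subgroup G) ⊓ (R : Subgroup G)) : Subgroup G) : Set G)).relIndex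
      (Subgroup.normalizer ((((P : Subgroup G) ⊓ (R : Subgroup G)) : Subgroup G) : Set G)))
    (hR : ¬ p ∣ ((R : Subgroup G) ⊓ Subgroup.normalizer ((((P : Subgroup G) ⊓ (R : Subgroup G)) : Subgroup G) : Set G)).relIndex
      (Subgroup.normalizer ((((P : Subgroup G) ⊓ (R : Subgroup G)) : Subgroup G) : Set G))) :
    ∃ L : List (Sylow p G × G),
      AValid P ((((P : Subgroup G) ⊓ (R : Subgroup G)) : Subgroup G) : Set G) L ∧
      cprod L ∈ Subgroup.normalizer ((((P : Subgroup G) ⊓ (R : Subgroup G)) : Subgroup G) : Set G) ∧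
      ∀ a ∈ (R : Subgroup G) ⊓ Subgroup.normalizer ((((P : Subgroup G) ⊓ (R : Subgroup G)) : Subgroup G) : Set G),
        (cprod L)⁻¹ * a * cprod L ∈ (P : Subgroup G) := by
  obtain ⟨l, hl, hconj⟩ := exists_pElement_list_conj_of_relIndex
    (Subgroup.normalizer ((((P : Subgroup G) ⊓ (R : Subgroup G)) : Subgroup G) : Set G))
    (R : Subgroup G) (P : Subgroup G) R.2 P.2 hR hP
  refine ⟨l.map fun u => (R, u), aValid_const P R hP hR l hl, ?_, ?_⟩
  · rw [cprod_map_const]
    exact Subgroup.list_prod_mem _ fun u hu => (hl u hu).1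
  · rw [cprod_map_const]
    exact hconj

omit [Finite G] hp in
/-- two Sylow subgroups, one inside the other, are equal -/
theorem sylow_eq_of_le {P Q : Sylow p G} (h : (P : Subgroup G) ≤ (Q : Subgroup G)) :
    (Q : Subgroup G) = (P : Subgroup G) := P.is_maximal' Q.2 h

/-- Step A of the induction: the case where `N_P(P ∩ Q)` is a Sylow subgroup of `N_G(P ∩ Q)`. -/
theorem aRel_of_tameP (P : Sylow p G) (m : ℕ)
    (IH : ∀ Q' : Sylow p G, m < Nat.card (((P : Subgroup G) ⊓ (Q' : Subgroup G) : Subgroup G)) → ARel P Q')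
    (Q : Sylow p G) (hm : Nat.card (((P : Subgroup G) ⊓ (Q : Subgroup G) : Subgroup G)) = m)
    (hP : ¬ p ∣ ((P : Subgroup G) ⊓ Subgroup.normalizer ((((P : Subgroup G) ⊓ (Q : Subgroup G)) : Subgroup G) : Set G)).relIndex
      (Subgroup.normalizer ((((P : Subgroup G) ⊓ (Q : Subgroup G)) : Subgroup G) : Set G))) :
    ARel P Q := by
  classical
  by_cases hDP : (P : Subgroup G) ⊓ (Q : Subgroup G) = (P : Subgroup G)
  · -- then Q = P
    have hPQ : (P : Subgroup G) ≤ (Q : Subgroup G) := inf_eq_left.mp hDP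
    refine ⟨[], aValid_nil _ _, ?_⟩
    rw [cprod_nil, cmap_one]
    exact sylow_eq_of_le hPQ
  · -- D < P, hence D < Q
    set D : Subgroup G := (P : Subgroup G) ⊓ (Q : Subgroup G) with hD
    have hDQ : D ≠ (Q : Subgroup G) := by
      intro h
      have hQP : (Q : Subgroup G) ≤ (P : Subgroup G) := by rw [← h]; exact inf_le_left
      have := sylow_eq_of_le hQP
      apply hDP
      rw [this]
      exact h
    have hlt := lt_inf_normalizer_of_lt Q.2 (inf_le_right : D ≤ (Q : Subgroup G)) hDQ
    obtain ⟨R, hXR, hRt⟩ := exists_sylow_ge_relIndex (Subgroup.normalizer (D : Set G))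
      ((Q : Subgroup G) ⊓ Subgroup.normalizer (D : Set G)) inf_le_right (Q.2.to_le inf_le_left)
    have hDPR : D ≤ (P : Subgroup G) ⊓ (R : Subgroup G) :=
      le_inf inf_le_left (le_trans hlt.le hXR)
    have hXQR : (Q : Subgroup G) ⊓ Subgroup.normalizer (D : Set G) ≤ (Q : Subgroup G) ⊓ (R : Subgroup G) :=
      le_inf inf_le_left hXR
    have hcardX : m < Nat.card ((Q : Subgroup G) ⊓ Subgroup.normalizer (D : Set G) : Subgroup G) := by
      rw [← hm]; exact card_lt_of_lt hlt
    -- R is related to P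
    have hRel : ARel P R := by
      by_cases hc : m < Nat.card (((P : Subgroup G) ⊓ (R : Subgroup G) : Subgroup G))
      · exact IH R hc
      · push Not at hc
        have hPRD : D = (P : Subgroup G) ⊓ (R : Subgroup G) :=
          Subgroup.eq_of_le_of_card_ge hDPR (by rw [hm]; exact hc)
        have hP' : ¬ p ∣ ((P : Subgroup G) ⊓ Subgroup.normalizer ((((P : Subgroup G) ⊓ (R : Subgroup G)) : Subgroup G) : Set G)).relIndex
            (Subgroup.normalizer ((((P : Subgroup G) ⊓ (R : Subgroup G)) : Subgroup G) : Set G)) := by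
          rw [← hPRD]; exact hP
        have hR' : ¬ p ∣ ((R : Subgroup G) ⊓ Subgroup.normalizer ((((P : Subgroup G) ⊓ (R : Subgroup G)) : Subgroup G) : Set G)).relIndex
            (Subgroup.normalizer ((((P : Subgroup G) ⊓ (R : Subgroup G)) : Subgroup G) : Set G)) := by
          rw [← hPRD]; exact hRt
        obtain ⟨L₁, hL₁, huN, hconj⟩ := exists_chain_tame P R hP' hR'
        rw [← hPRD] at hL₁ huN hconj
        -- the conjugate R' of R
        have hcap : cmap (cprod L₁) ((R : Subgroup G) ⊓ Subgroup.normalizer (D : Set G)) ≤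
            (P : Subgroup G) ⊓ (csylow (cprod L₁) R : Sylow p G) := by
          refine le_inf ?_ ?_
          · intro a ha
            rw [mem_cmap_iff] at ha
            have := hconj _ ha
            have e : (cprod L₁)⁻¹ * (cprod L₁ * a * (cprod L₁)⁻¹) * cprod L₁ = a := by group
            rwa [e] at this
          · rw [coe_csylow]
            exact cmap_mono _ inf_le_left
        have hcard' : m < Nat.card (((P : Subgroup G) ⊓ ((csylow (cprod L₁) R : Sylow p G) : Subgroup G) : Subgroup G)) := by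
          have h1 : Nat.card ((Q : Subgroup G) ⊓ Subgroup.normalizer (D : Set G) : Subgroup G) ≤
              Nat.card ((R : Subgroup G) ⊓ Subgroup.normalizer (D : Set G) : Subgroup G) :=
            Subgroup.card_le_of_le (le_inf hXR inf_le_right)
          have h2 := Subgroup.card_le_of_le hcap
          rw [card_cmap] at h2
          omega
        obtain ⟨L₂, hL₂, hfin⟩ := IH _ hcard'
        refine ⟨L₁ ++ L₂, ?_, ?_⟩
        · rw [← hPRD]
          apply aValid_append P L₁ L₂ hL₁
          rw [rconj_subgroup_of_mem_normalizer D _ huN]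
          apply aValid_mono P L₂ _ hL₂
          have h1 : D ≤ (P : Subgroup G) ⊓ ((csylow (cprod L₁) R : Sylow p G) : Subgroup G) := by
            refine le_inf inf_le_left ?_
            rw [coe_csylow, ← cmap_eq_self_of_mem_normalizer (cprod L₁) D huN]
            exact cmap_mono _ (le_trans hDPR inf_le_right)
          exact h1
        · rw [cprod_append, cmap_mul, ← coe_csylow]
          exact hfin
    obtain ⟨LR, hLR, hfinR⟩ := hRel
    -- now conjugate Q
    have hQ' : (P : Subgroup G) ⊓ ((csylow (cprod LR) Q : Sylow p G) : Subgroup G) =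
        cmap (cprod LR) ((R : Subgroup G) ⊓ (Q : Subgroup G)) := by
      rw [coe_csylow, cmap_inf, hfinR]
    have hcardQ' : m < Nat.card (((P : Subgroup G) ⊓ ((csylow (cprod LR) Q : Sylow p G) : Subgroup G) : Subgroup G)) := by
      rw [hQ', card_cmap]
      have h1 := Subgroup.card_le_of_le hXQR
      rw [inf_comm (R : Subgroup G)]
      omega
    obtain ⟨L', hL', hfin'⟩ := IH _ hcardQ'
    have hLRD : AValid P (D : Set G) LR := aValid_mono P LR (show (D : Set G) ⊆ _ from hDPR) hLR
    refine ⟨LR ++ L', ?_, ?_⟩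
    · apply aValid_append P LR L' hLRD
      apply aValid_mono P L' _ hL'
      intro a ha
      refine ⟨aValid_rconj_subset P LR hLRD (show (D : Set G) ⊆ _ from (inf_le_left : D ≤ (P : Subgroup G))) ha, ?_⟩
      rw [coe_csylow]
      have : rconj (cprod LR) (D : Set G) ⊆ rconj (cprod LR) ((Q : Subgroup G) : Set G) :=
        rconj_mono _ (show (D : Set G) ⊆ _ from (inf_le_right : D ≤ (Q : Subgroup G)))
      have h2 := this ha
      rwa [← coe_cmap] at h2
    · rw [cprod_append, cmap_mul, ← coe_csylow]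
      exact hfin'

/-- `P` is a Sylow subgroup of its own normalizer (tameness of `P ∩ P`). -/
theorem not_dvd_relIndex_self (P : Sylow p G) :
    ¬ p ∣ ((P : Subgroup G) ⊓ Subgroup.normalizer ((P : Subgroup G) : Set G)).relIndex
      (Subgroup.normalizer ((P : Subgroup G) : Set G)) := by
  rw [inf_of_le_left Subgroup.le_normalizer]
  intro h
  exact P.not_dvd_index (h.trans (Subgroup.relIndex_dvd_index_of_le Subgroup.le_normalizer))

/-- Step B of the induction: the general case. -/
theorem aRel_of_card (P : Sylow p G) (m : ℕ)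
    (IH : ∀ Q' : Sylow p G, m < Nat.card (((P : Subgroup G) ⊓ (Q' : Subgroup G) : Subgroup G)) → ARel P Q')
    (Q : Sylow p G) (hm : Nat.card (((P : Subgroup G) ⊓ (Q : Subgroup G) : Subgroup G)) = m) :
    ARel P Q := by
  classical
  by_cases hDP : (P : Subgroup G) ⊓ (Q : Subgroup G) = (P : Subgroup G)
  · apply aRel_of_tameP P m IH Q hm
    rw [hDP]
    exact not_dvd_relIndex_self P
  · set D : Subgroup G := (P : Subgroup G) ⊓ (Q : Subgroup G) with hD
    have hlt := lt_inf_normalizer_of_lt P.2 (inf_le_left : D ≤ (P : Subgroup G)) hDP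
    obtain ⟨S, hXS, hSt⟩ := exists_sylow_ge_relIndex (Subgroup.normalizer (D : Set G))
      ((P : Subgroup G) ⊓ Subgroup.normalizer (D : Set G)) inf_le_right (P.2.to_le inf_le_left)
    have hDPS : D ≤ (P : Subgroup G) ⊓ (S : Subgroup G) := le_inf inf_le_left (le_trans hlt.le hXS)
    have hcardS : m < Nat.card (((P : Subgroup G) ⊓ (S : Subgroup G) : Subgroup G)) := by
      have h1 : m < Nat.card ((P : Subgroup G) ⊓ Subgroup.normalizer (D : Set G) : Subgroup G) := by
        rw [← hm]; exact card_lt_of_lt hlt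
      have h2 := Subgroup.card_le_of_le (le_inf inf_le_left hXS :
        (P : Subgroup G) ⊓ Subgroup.normalizer (D : Set G) ≤ (P : Subgroup G) ⊓ (S : Subgroup G))
      exact lt_of_lt_of_le h1 h2
    obtain ⟨LS, hLS, hfinS⟩ := IH S hcardS
    have hLSD : AValid P (D : Set G) LS := aValid_mono P LS (show (D : Set G) ⊆ _ from hDPS) hLS
    -- the conjugates of D and Q
    have hD'P : cmap (cprod LS) D ≤ (P : Subgroup G) := by
      have := aValid_rconj_subset P LS hLSD (show (D : Set G) ⊆ _ from (inf_le_left : D ≤ (P : Subgroup G)))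
      rw [← coe_cmap] at this
      exact this
    have hD'Q' : cmap (cprod LS) D ≤ ((csylow (cprod LS) Q : Sylow p G) : Subgroup G) := by
      rw [coe_csylow]
      exact cmap_mono _ inf_le_right
    have hD'le : cmap (cprod LS) D ≤ (P : Subgroup G) ⊓ ((csylow (cprod LS) Q : Sylow p G) : Subgroup G) :=
      le_inf hD'P hD'Q'
    -- Q' is related to P
    have hRel' : ARel P (csylow (cprod LS) Q) := by
      by_cases hc : m < Nat.card (((P : Subgroup G) ⊓ ((csylow (cprod LS) Q : Sylow p G) : Subgroup G) : Subgroup G))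
      · exact IH _ hc
      · push Not at hc
        have heq : cmap (cprod LS) D = (P : Subgroup G) ⊓ ((csylow (cprod LS) Q : Sylow p G) : Subgroup G) :=
          Subgroup.eq_of_le_of_card_ge hD'le (by rw [card_cmap, hm]; exact hc)
        apply aRel_of_tameP P m IH _ (by rw [← heq, card_cmap, hm])
        rw [← heq, ← cmap_normalizer, ← hfinS, ← cmap_inf, relIndex_cmap]
        exact hSt
    obtain ⟨L', hL', hfin'⟩ := hRel'
    refine ⟨LS ++ L', ?_, ?_⟩
    · apply aValid_append P LS L' hLSD
      apply aValid_mono P L' _ hL'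
      rw [← coe_cmap]
      exact hD'le
    · rw [cprod_append, cmap_mul, ← coe_csylow]
      exact hfin'

/-- Every Sylow `p`-subgroup is related to `P`. -/
theorem aRel_all (P Q : Sylow p G) : ARel P Q := by
  have key : ∀ k : ℕ, ∀ Q : Sylow p G,
      Nat.card (P : Subgroup G) - Nat.card (((P : Subgroup G) ⊓ (Q : Subgroup G) : Subgroup G)) = k → ARel P Q := by
    intro k
    induction k using Nat.strong_induction_on with
    | _ k ih =>
      intro Q hk
      apply aRel_of_card P _ _ Q rfl
      intro Q' hQ'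
      have h1 : Nat.card (((P : Subgroup G) ⊓ (Q' : Subgroup G) : Subgroup G)) ≤ Nat.card (P : Subgroup G) :=
        Subgroup.card_le_of_le inf_le_left
      exact ih _ (by omega) Q' rfl
  exact key _ Q rfl

/-- **Alperin's fusion theorem**, with `p`-element factors, in the form of the statements. -/
theorem alperin_fusion (P : Sylow p G) (A : Set G) (g : G) (hA : A ⊆ (P : Set G))
    (hAg : (fun a => g⁻¹ * a * g) '' A ⊆ (P : Set G)) :
    ∃ (n : ℕ) (Q : Fin n → Sylow p G) (x : Fin n → G), (List.ofFn x).prod = g ∧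
      (∀ i : Fin n, AStep P (Q i) (x i)) ∧
      (∀ h : 0 < n, A ⊆ (((P : Subgroup G) ⊓ (Q ⟨0, h⟩ : Subgroup G) : Subgroup G) : Set G)) ∧
      ∀ i : Fin n, ∀ h : i.val + 1 < n,
        (fun a => (((List.ofFn x).take (i.val + 1)).prod)⁻¹ * a * ((List.ofFn x).take (i.val + 1)).prod) '' A ⊆
          (((P : Subgroup G) ⊓ (Q ⟨i.val + 1, h⟩ : Subgroup G) : Subgroup G) : Set G) := by
  classical
  -- the Sylow subgroup Q₀ = g P g⁻¹
  set Q₀ : Sylow p G := csylow g⁻¹ P with hQ₀
  have hAQ₀ : A ⊆ ((((P : Subgroup G) ⊓ (Q₀ : Subgroup G)) : Subgroup G) : Set G) := by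
    intro a ha
    refine ⟨hA ha, ?_⟩
    show a ∈ ((Q₀ : Sylow p G) : Subgroup G)
    rw [hQ₀, coe_csylow, mem_cmap_iff, inv_inv]
    exact hAg ⟨a, ha, rfl⟩
  obtain ⟨L, hL, hfin⟩ := aRel_all P Q₀
  -- the last factor normalizes P
  have hy : (cprod L)⁻¹ * g ∈ Subgroup.normalizer ((P : Subgroup G) : Set G) := by
    rw [Subgroup.mem_normalizer_iff]
    intro h
    have h1 : ∀ b : G, b ∈ (P : Subgroup G) ↔ g⁻¹ * (cprod L * b * (cprod L)⁻¹) * g ∈ (P : Subgroup G) := by
      intro b
      conv_lhs => rw [← hfin, coe_csylow, mem_cmap_iff, mem_cmap_iff, inv_inv]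
    rw [h1 ((cprod L)⁻¹ * g * h * ((cprod L)⁻¹ * g)⁻¹)]
    have e : g⁻¹ * (cprod L * ((cprod L)⁻¹ * g * h * ((cprod L)⁻¹ * g)⁻¹) * (cprod L)⁻¹) * g = h := by group
    rw [e]
  have hLA : AValid P A L := aValid_mono P L hAQ₀ hL
  have hlast : AValid P (rconj (cprod L) A) [(P, (cprod L)⁻¹ * g)] := by
    rw [aValid_cons]
    refine ⟨⟨?_, ?_, ?_, Or.inl rfl⟩, ?_, aValid_nil _ _⟩
    · rw [inf_idem]; exact hy
    · rw [inf_idem]; exact not_dvd_relIndex_self P
    · rw [inf_idem]; exact not_dvd_relIndex_self P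
    · rw [inf_idem]; exact aValid_rconj_subset P L hLA hA
  have hL' : AValid P A (L ++ [(P, (cprod L)⁻¹ * g)]) := aValid_append P L _ hLA hlast
  have hprod : cprod (L ++ [(P, (cprod L)⁻¹ * g)]) = g := by
    rw [cprod_append, cprod_cons, cprod_nil]
    group
  -- conversion to the indexed form
  set L' := L ++ [(P, (cprod L)⁻¹ * g)] with hL'def
  have hofFn : List.ofFn (fun i : Fin L'.length => (L'[(i : ℕ)]).2) = L'.map Prod.snd :=
    List.ofFn_getElem_eq_map L' Prod.snd
  refine ⟨L'.length, fun i => (L'[(i : ℕ)]).1, fun i => (L'[(i : ℕ)]).2, ?_, ?_, ?_, ?_⟩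
  · rw [hofFn]; exact hprod
  · intro i
    exact (aValid_get P L' hL' i i.2).1
  · intro h
    have := (aValid_get P L' hL' 0 h).2
    simpa [rconj_one] using this
  · intro i h
    have := (aValid_get P L' hL' (i.val + 1) h).2
    rw [hofFn]
    exact this

end Cfsg.Agent.Helper34
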