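import Mathlib
import Cfsg.Agent.Helper34.Alperin

set_option autoImplicit false

namespace Cfsg.Agent.Helper34

open scoped commutatorElement

variable {G : Type*} [Group G] {p : ℕ}

/-- The "local" focal subgroup: generated by `[P, N_G(P)]` and the `[P ∩ Q, ⟨x⟩]` for tame
intersections `P ∩ Q` and `p`-elements `x` of `N_G(P ∩ Q)`. -/
def focalLocal (P : Sylow p G) : Subgroup G :=
  ⁅(P : Subgroup G), Subgroup.normalizer ((P : Subgroup G) : Set G)⁆ ⊔
    ⨆ (Q : Sylow p G) (_ : (¬ p ∣ ((P : Subgroup G) ⊓ Subgroup.normalizer (((P : Subgroup G) ⊓ (Q : Subgroup G) : Subgroup G) : Set G)).relIndex (Subgroup.normalizer (((P : Subgroup G) ⊓ (Q : Subgroup G) : Subgroup G) : Set G)) ∧ ¬ p ∣ ((Q : Subgroup G) ⊓ Subgroup.normalizer (((P : Subgroup G) ⊓ (Q : Subgroup G) : Subgroup G) : Set G)).relIndex (Subgroup.normalizer (((P : Subgroup G) ⊓ (Q : Subgroup G) : Subgroup G) : Set G))))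
      (x : G) (_ : x ∈ Subgroup.normalizer (((P : Subgroup G) ⊓ (Q : Subgroup G) : Subgroup G) : Set G) ∧ ∃ k : ℕ, orderOf x = p ^ k),
      ⁅(P : Subgroup G) ⊓ (Q : Subgroup G), Subgroup.zpowers x⁆

theorem commutator_normalizer_le_focalLocal (P : Sylow p G) :
    ⁅(P : Subgroup G), Subgroup.normalizer ((P : Subgroup G) : Set G)⁆ ≤ focalLocal P :=
  le_sup_left

theorem commutator_zpowers_le_focalLocal (P Q : Sylow p G) (x : G)
    (h1 : ¬ p ∣ ((P : Subgroup G) ⊓ Subgroup.normalizer (((P : Subgroup G) ⊓ (Q : Subgroup G) : Subgroup G) : Set G)).relIndex (Subgroup.normalizer (((P : Subgroup G) ⊓ (Q : Subgroup G) : Subgroup G) : Set G)))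
    (h2 : ¬ p ∣ ((Q : Subgroup G) ⊓ Subgroup.normalizer (((P : Subgroup G) ⊓ (Q : Subgroup G) : Subgroup G) : Set G)).relIndex (Subgroup.normalizer (((P : Subgroup G) ⊓ (Q : Subgroup G) : Subgroup G) : Set G)))
    (hx : x ∈ Subgroup.normalizer (((P : Subgroup G) ⊓ (Q : Subgroup G) : Subgroup G) : Set G))
    (hk : ∃ k : ℕ, orderOf x = p ^ k) :
    ⁅(P : Subgroup G) ⊓ (Q : Subgroup G), Subgroup.zpowers x⁆ ≤ focalLocal P := by
  refine le_trans ?_ le_sup_right
  refine le_iSup_of_le Q ?_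
  refine le_iSup_of_le ⟨h1, h2⟩ ?_
  refine le_iSup_of_le x ?_
  exact le_iSup_of_le ⟨hx, hk⟩ (le_refl _)

/-- one step of a chain changes an element by an element of the local focal subgroup -/
theorem step_mem_focalLocal (P Q : Sylow p G) (x b : G) (h : AStep P Q x)
    (hb : b ∈ (P : Subgroup G) ⊓ (Q : Subgroup G)) :
    b⁻¹ * (x⁻¹ * b * x) ∈ focalLocal P := by
  have e : b⁻¹ * (x⁻¹ * b * x) = ⁅b⁻¹, x⁻¹⁆ := by
    rw [commutatorElement_def]; group
  rw [e]
  obtain ⟨hx, h1, h2, h3⟩ := h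
  rcases h3 with hQP | hk
  · apply commutator_normalizer_le_focalLocal P
    have hPQ : (P : Subgroup G) ⊓ (Q : Subgroup G) = (P : Subgroup G) := by
      rw [hQP, inf_idem]
    rw [hPQ] at hx hb
    exact Subgroup.commutator_mem_commutator (inv_mem hb) (inv_mem hx)
  · apply commutator_zpowers_le_focalLocal P Q x h1 h2 hx hk
    exact Subgroup.commutator_mem_commutator (inv_mem hb)
      (inv_mem (Subgroup.mem_zpowers x))

/-- a valid chain changes an element of `P` by an element of the local focal subgroup -/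
theorem chain_mem_focalLocal (P : Sylow p G) (L : List (Sylow p G × G)) :
    ∀ b : G, AValid P {b} L → b⁻¹ * ((cprod L)⁻¹ * b * cprod L) ∈ focalLocal P := by
  induction L with
  | nil =>
    intro b _
    rw [cprod_nil]
    simp
  | cons a L ih =>
    obtain ⟨Q, x⟩ := a
    intro b h
    rw [aValid_cons] at h
    obtain ⟨hs, hb, hL⟩ := h
    have hb' : b ∈ (P : Subgroup G) ⊓ (Q : Subgroup G) := hb rfl
    have hr : rconj x ({b} : Set G) = {x⁻¹ * b * x} := by
      unfold rconj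
      simp
    rw [hr] at hL
    have h1 := step_mem_focalLocal P Q x b hs hb'
    have h2 := ih (x⁻¹ * b * x) hL
    have e : b⁻¹ * ((cprod ((Q, x) :: L))⁻¹ * b * cprod ((Q, x) :: L)) =
        (b⁻¹ * (x⁻¹ * b * x)) * ((x⁻¹ * b * x)⁻¹ * ((cprod L)⁻¹ * (x⁻¹ * b * x) * cprod L)) := by
      rw [cprod_cons]; group
    rw [e]
    exact mul_mem h1 h2

variable [Finite G] [hp : Fact p.Prime]

/-- **Alperin's fusion theorem**, list form. -/
theorem alperin_fusion_list (P : Sylow p G) (A : Set G) (g : G) (hA : A ⊆ (P : Set G))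
    (hAg : (fun a => g⁻¹ * a * g) '' A ⊆ (P : Set G)) :
    ∃ L : List (Sylow p G × G), AValid P A L ∧ cprod L = g := by
  classical
  set Q₀ : Sylow p G := csylow g⁻¹ P with hQ₀
  have hAQ₀ : A ⊆ ((((P : Subgroup G) ⊓ (Q₀ : Subgroup G)) : Subgroup G) : Set G) := by
    intro a ha
    refine ⟨hA ha, ?_⟩
    show a ∈ ((Q₀ : Sylow p G) : Subgroup G)
    rw [hQ₀, coe_csylow, mem_cmap_iff, inv_inv]
    exact hAg ⟨a, ha, rfl⟩
  obtain ⟨L, hL, hfin⟩ := aRel_all P Q₀
  have hy : (cprod L)⁻¹ * g ∈ Subgroup.normalizer ((P : Subgroup G) : Set G) := by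
    rw [Subgroup.mem_normalizer_iff]
    intro h
    have h1 : ∀ b : G, b ∈ (P : Subgroup G) ↔ g⁻¹ * (cprod L * b * (cprod L)⁻¹) * g ∈ (P : Subgroup G) := by
      intro b
      conv_lhs => rw [← hfin, coe_csylow, mem_cmap_iff, mem_cmap_iff, inv_inv]
    rw [h1 ((cprod L)⁻¹ * g * h * ((cprod L)⁻¹ * g)⁻¹)]
    have e : g⁻¹ * (cprod L * ((cprod L)⁻¹ * g * h * ((cprod L)⁻¹ * g)⁻¹) * (cprod L)⁻¹) * g = h := by group
    rw [e]
  have hLA : AValid P A L := aValid_mono P L hAQ₀ hL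
  have hlast : AValid P (rconj (cprod L) A) [(P, (cprod L)⁻¹ * g)] := by
    rw [aValid_cons]
    refine ⟨⟨?_, ?_, ?_, Or.inl rfl⟩, ?_, aValid_nil _ _⟩
    · rw [inf_idem]; exact hy
    · rw [inf_idem]; exact not_dvd_relIndex_self P
    · rw [inf_idem]; exact not_dvd_relIndex_self P
    · rw [inf_idem]; exact aValid_rconj_subset P L hLA hA
  refine ⟨L ++ [(P, (cprod L)⁻¹ * g)], aValid_append P L _ hLA hlast, ?_⟩
  rw [cprod_append, cprod_cons, cprod_nil]
  group

omit [Finite G] hp in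
theorem focalLocal_le (P : Sylow p G) : focalLocal P ≤ (P : Subgroup G) ⊓ commutator G := by
  have hcomm : ∀ H K : Subgroup G, ⁅H, K⁆ ≤ commutator G := by
    intro H K
    rw [commutator_def]
    exact Subgroup.commutator_mono le_top le_top
  have key : ∀ (H : Subgroup G) (K : Subgroup G), K ≤ Subgroup.normalizer (H : Set G) → ⁅H, K⁆ ≤ H := by
    intro H K hK
    rw [Subgroup.commutator_le]
    intro a ha y hy
    have hy' := hK hy
    rw [commutatorElement_def]
    have : y * a⁻¹ * y⁻¹ ∈ H := (Subgroup.mem_normalizer_iff.mp hy' a⁻¹).mp (inv_mem ha)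
    have e : a * y * a⁻¹ * y⁻¹ = a * (y * a⁻¹ * y⁻¹) := by group
    rw [e]
    exact mul_mem ha this
  unfold focalLocal
  refine sup_le (le_inf (key _ _ (le_refl _)) (hcomm _ _)) ?_
  refine iSup_le fun Q => iSup_le fun _ => iSup_le fun x => iSup_le fun hx => ?_
  refine le_inf (le_trans (key _ _ ?_) inf_le_left) (hcomm _ _)
  rw [Subgroup.zpowers_le]
  exact hx.1

/-- **Focal subgroup theorem, local form** (via Alperin's fusion theorem). -/
theorem inf_commutator_eq_focalLocal (P : Sylow p G) :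
    (P : Subgroup G) ⊓ commutator G = focalLocal P := by
  apply le_antisymm _ (focalLocal_le P)
  rw [inf_comm, Subgroup.commutator_inf_eq_focalSubgroup P, Subgroup.focalSubgroup_def,
    Subgroup.closure_le]
  rintro g ⟨hgP, x, hxP, u, rfl⟩
  -- b = x⁻¹, conjugating element u⁻¹
  have hconj : (u⁻¹)⁻¹ * x⁻¹ * u⁻¹ ∈ (P : Subgroup G) := by
    have e : (u⁻¹)⁻¹ * x⁻¹ * u⁻¹ = x⁻¹ * ⁅x, u⁆ := by
      rw [commutatorElement_def]; group
    rw [e]
    exact mul_mem (inv_mem hxP) hgP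
  obtain ⟨L, hL, hprod⟩ := alperin_fusion_list P {x⁻¹} u⁻¹
    (by intro a ha; rw [Set.mem_singleton_iff] at ha; rw [ha]; exact inv_mem hxP)
    (by
      rintro _ ⟨a, ha, rfl⟩
      rw [Set.mem_singleton_iff] at ha
      rw [ha]
      exact hconj)
  have := chain_mem_focalLocal P L x⁻¹ hL
  rw [hprod] at this
  have e : (x⁻¹)⁻¹ * ((u⁻¹)⁻¹ * x⁻¹ * u⁻¹) = ⁅x, u⁆ := by
    rw [commutatorElement_def]; group
  rw [e] at this
  exact this

end Cfsg.Agent.Helper34
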