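-- helper34: (SOLVE) of #5328 for helper20 (S0420): the scalar system has a unique solution.
import Mathlib

set_option autoImplicit false

namespace Cfsg.Agent.Helper34.M11Solve

private theorem fin_check : ∀ a ∈ Finset.Icc (-5 : ℤ) 5, ∀ c ∈ Finset.Icc (-11 : ℤ) 11,
    4 * 45 * a ^ 2 + 8 * (15 * a - 22 * c + 253) ^ 2 + 4 * 11 * c ^ 2
      + 4 * 55 * (3 * c - 3 * a - 37) ^ 2 ≤ 4 * 1463 → (15 * a - 22 * c + 253) % 2 = 0 →
      a = -1 ∧ c = 11 := by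
  decide

theorem solve_scalars (a c d s : ℤ) (b b' : ℝ) (hs : b + b' = (s : ℝ))
    (E1 : 11 + 45 * a + 16 * s + 11 * c + 55 * d = 0)
    (E2 : 11 - 3 * a + 3 * c - d = 48)
    (E6 : 121 + 45 * (a : ℝ) ^ 2 + 16 * (b ^ 2 + b' ^ 2) + 11 * (c : ℝ) ^ 2
      + 55 * (d : ℝ) ^ 2 = 1584) :
    a = -1 ∧ b = -1 ∧ b' = -1 ∧ c = 11 ∧ d = -1 := by
  have hd : d = 3 * c - 3 * a - 37 := by omega
  have h2s : 2 * s = 15 * a - 22 * c + 253 := by omega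
  have hsq : (s : ℝ) ^ 2 ≤ 2 * (b ^ 2 + b' ^ 2) := by
    rw [← hs]; nlinarith [sq_nonneg (b - b')]
  have hR : (45 * (a : ℝ) ^ 2 + 8 * (s : ℝ) ^ 2 + 11 * (c : ℝ) ^ 2 + 55 * (d : ℝ) ^ 2) ≤ 1463 := by
    nlinarith
  have hI : 45 * a ^ 2 + 8 * s ^ 2 + 11 * c ^ 2 + 55 * d ^ 2 ≤ 1463 := by exact_mod_cast hR
  have ha : a ∈ Finset.Icc (-5 : ℤ) 5 := by
    rw [Finset.mem_Icc]
    constructor <;> nlinarith [sq_nonneg s, sq_nonneg c, sq_nonneg d]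
  have hc : c ∈ Finset.Icc (-11 : ℤ) 11 := by
    rw [Finset.mem_Icc]
    constructor <;> nlinarith [sq_nonneg s, sq_nonneg a, sq_nonneg d]
  have hI4 : 4 * 45 * a ^ 2 + 8 * (15 * a - 22 * c + 253) ^ 2 + 4 * 11 * c ^ 2
      + 4 * 55 * (3 * c - 3 * a - 37) ^ 2 ≤ 4 * 1463 := by
    rw [← h2s, ← hd]; nlinarith
  obtain ⟨ha1, hc11⟩ := fin_check a ha c hc hI4 (by omega)
  subst ha1 hc11
  have hd1 : d = -1 := by omega
  have hs2 : s = -2 := by omega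
  subst hd1 hs2
  have hsum : b + b' = -2 := by rw [hs]; norm_num
  have hsq2 : b ^ 2 + b' ^ 2 = 2 := by
    have : (16 : ℝ) * (b ^ 2 + b' ^ 2) = 32 := by
      have := E6; norm_num at this; linarith
    linarith
  have hdiff : (b - b') ^ 2 = 0 := by nlinarith
  have hbb : b = b' := by
    have := pow_eq_zero_iff (two_ne_zero) |>.mp hdiff
    linarith
  refine ⟨rfl, ?_, ?_, rfl, rfl⟩ <;> linarith

end Cfsg.Agent.Helper34.M11Solve
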