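-- helper34: (GEN) of #5328 for helper20 (S0420): in a simple group of order 7920, an element of
-- order 11, an element of order 5 normalizing it and an element of order 4 generate the group.
import Mathlib
import Cfsg.Agent.Helper20.U11.Basic

set_option autoImplicit false
set_option linter.style.haveILetI false

namespace Cfsg.Agent.Helper34.M11Gen

open Subgroup Cfsg.Agent.Helper17 Cfsg.Agent.Helper20.U11

universe u

/-- A finite group of order `4 * m`, `m` odd, with an element of order 4 has a normal subgroup of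
order `m` (cyclic Sylow 2-subgroup, Burnside transfer). -/
theorem exists_normal_of_orderOf_four {H : Type*} [Group H] [Finite H] {m : ℕ} (hm : ¬ 2 ∣ m)
    (hcard : Nat.card H = 4 * m) (c : H) (hc : orderOf c = 4) :
    ∃ K : Subgroup H, K.Normal ∧ Nat.card K = m := by
  haveI : Fact (Nat.Prime 2) := ⟨Nat.prime_two⟩
  have hmin : (Nat.card H).minFac = 2 := by
    rw [Nat.minFac_eq_two_iff, hcard]; exact Dvd.intro _ (by ring : 2 * (2 * m) = 4 * m)
  have hzc : Nat.card (zpowers c) = 2 ^ 2 := by rw [Nat.card_zpowers, hc]; norm_num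
  have hp2 : IsPGroup 2 (zpowers c) := IsPGroup.of_card hzc
  obtain ⟨Q, hQ⟩ := hp2.exists_le_sylow
  have hQc : Nat.card (Q : Subgroup H) = 2 ^ 2 :=
    card_sylow_subgroup_of_card_eq (k := 2) (m := m) (by rw [hcard]; norm_num) hm Q
  have heq : zpowers c = (Q : Subgroup H) := Subgroup.eq_of_le_of_card_ge hQ (by rw [hQc, hzc])
  have hcyc : IsCyclic (Q : Subgroup H) := by rw [← heq]; infer_instance
  have hcomp := IsCyclic.isComplement' hmin hcyc
  refine ⟨(MonoidHom.transferSylow Q (hcyc.normalizer_le_centralizer hmin)).ker,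
    MonoidHom.normal_ker _, ?_⟩
  have := hcomp.card_mul_card
  rw [hQc, hcard] at this
  omega

/-- In a group of order 165 all elements of order 11 generate the same subgroup. -/
theorem mem_zpowers_of_card_165 {K : Type*} [Group K] [Finite K] (hK : Nat.card K = 165)
    {a b : K} (ha : orderOf a = 11) (hb : orderOf b = 11) : b ∈ zpowers a := by
  haveI : Fact (Nat.Prime 11) := ⟨by norm_num⟩
  have hS : ∀ P : Sylow 11 K, Nat.card (P : Subgroup K) = 11 := fun P => by
    simpa using card_sylow_subgroup_of_card_eq (k := 1) (m := 15) (by rw [hK]; norm_num) (by norm_num) P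
  have hn : Nat.card (Sylow 11 K) ∣ 15 :=
    card_sylow_dvd_of_card_eq (k := 1) (m := 15) (by rw [hK]; norm_num) (by norm_num)
  have hmod : Nat.card (Sylow 11 K) % 11 = 1 % 11 := card_sylow_modEq_one 11 K
  have h1 : Nat.card (Sylow 11 K) = 1 := by
    have hle : Nat.card (Sylow 11 K) ≤ 15 := Nat.le_of_dvd (by norm_num) hn
    have hpos : 0 < Nat.card (Sylow 11 K) := Nat.pos_of_dvd_of_pos hn (by norm_num)
    generalize Nat.card (Sylow 11 K) = n at *
    interval_cases n <;> omega
  obtain ⟨Pa, hPa⟩ := exists_sylow_eq_zpowers hS a ha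
  obtain ⟨Pb, hPb⟩ := exists_sylow_eq_zpowers hS b hb
  have hPab : Pa = Pb := by
    haveI : Subsingleton (Sylow 11 K) := (Nat.card_eq_one_iff_unique.mp h1).1
    exact Subsingleton.elim _ _
  rw [← hPa, hPab, hPb]; exact mem_zpowers b

/-- An element whose order is prime to the index of a normal subgroup lies in it. -/
theorem mem_of_coprime_orderOf_index {H : Type*} [Group H] [Finite H] (K : Subgroup H) [K.Normal]
    (g : H) (hg : Nat.Coprime (orderOf g) K.index) : g ∈ K := by
  rw [← QuotientGroup.eq_one_iff, ← orderOf_eq_one_iff]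
  have h1 : orderOf (QuotientGroup.mk g : H ⧸ K) ∣ orderOf g := by
    apply orderOf_dvd_of_pow_eq_one
    rw [← QuotientGroup.mk_pow, pow_orderOf_eq_one, QuotientGroup.mk_one]
  have h2 : orderOf (QuotientGroup.mk g : H ⧸ K) ∣ K.index := by
    rw [Subgroup.index_eq_card]; exact orderOf_dvd_natCard _
  exact Nat.eq_one_of_dvd_coprimes hg h1 h2

/-- `zpowers` of an element of a subgroup, seen inside the subgroup. -/
theorem zpowers_subgroupOf {G : Type*} [Group G] (H : Subgroup G) (x : G) (hx : x ∈ H) :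
    (zpowers x).subgroupOf H = zpowers (⟨x, hx⟩ : H) := by
  ext ⟨y, hy⟩
  rw [mem_subgroupOf, mem_zpowers_iff, mem_zpowers_iff]
  constructor
  · rintro ⟨k, hk⟩; exact ⟨k, Subtype.ext (by simpa using hk)⟩
  · rintro ⟨k, hk⟩; exact ⟨k, by simpa using congrArg Subtype.val hk⟩

theorem closure_eq_top {G : Type u} [Group G] [Finite G] [IsSimpleGroup G]
    (h : Nat.card G = 7920) {x v c : G} (hx : orderOf x = 11) (hv : orderOf v = 5)
    (hc : orderOf c = 4) (hvx : v * x * v⁻¹ = x ^ 3) :
    Subgroup.closure ({x, v, c} : Set G) = ⊤ := by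
  by_contra hne
  haveI : Fact (Nat.Prime 11) := ⟨by norm_num⟩
  set H := Subgroup.closure ({x, v, c} : Set G) with hH
  have hxH : x ∈ H := subset_closure (by simp)
  have hvH : v ∈ H := subset_closure (by simp)
  have hcH : c ∈ H := subset_closure (by simp)
  set N := normalizer ((zpowers x : Subgroup G) : Set G) with hN
  have hNcard : Nat.card N = 55 := card_normalizer11 h hx
  have hxN : x ∈ N := le_normalizer (mem_zpowers x)
  have hvN : v ∈ N := by
    apply mem_normalizer_fintype
    intro n hn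
    obtain ⟨k, rfl⟩ := mem_zpowers_iff.mp hn
    have : v * x ^ k * v⁻¹ = (x ^ 3) ^ k := by rw [← hvx, conj_zpow]
    rw [this]; exact zpow_mem (pow_mem (mem_zpowers x) 3) k
  -- the normalizer lies in `H`
  have hNH : N ≤ H := by
    have h11 : 11 ∣ Nat.card (H ⊓ N : Subgroup G) := by
      rw [← hx]; exact Subgroup.orderOf_dvd_natCard _ ⟨hxH, hxN⟩
    have h5 : 5 ∣ Nat.card (H ⊓ N : Subgroup G) := by
      rw [← hv]; exact Subgroup.orderOf_dvd_natCard _ ⟨hvH, hvN⟩
    have h55 : 55 ∣ Nat.card (H ⊓ N : Subgroup G) :=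
      Nat.Coprime.mul_dvd_of_dvd_of_dvd (by norm_num : Nat.Coprime 11 5) h11 h5
    have hle : Nat.card (H ⊓ N : Subgroup G) ∣ 55 := hNcard ▸ card_dvd_of_le inf_le_right
    have hcc : Nat.card (H ⊓ N : Subgroup G) = Nat.card N := by
      rw [hNcard]; exact Nat.dvd_antisymm hle h55
    have : H ⊓ N = N := Subgroup.eq_of_le_of_card_ge inf_le_right hcc.ge
    exact inf_eq_right.mp this
  have h55H : 55 ∣ Nat.card H := hNcard ▸ card_dvd_of_le hNH
  have h4H : 4 ∣ Nat.card H := hc ▸ Subgroup.orderOf_dvd_natCard H hcH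
  have hmul : Nat.card H * H.index = 7920 := h ▸ H.card_mul_index
  have hnc : ¬ IsMulCommutative G := not_comm_of_simple_of_not_prime (by rw [h]; norm_num)
  have hidx : 2 * Nat.card G ∣ H.index.factorial := two_mul_card_dvd_factorial_index hnc H hne
  have hk11 : 11 ≤ H.index := by
    have : 11 ∣ H.index.factorial := by
      refine Dvd.dvd.trans ?_ hidx
      rw [h]; norm_num
    exact (Nat.Prime.dvd_factorial (by norm_num)).mp this
  obtain ⟨m, hm⟩ : 220 ∣ Nat.card H := by omega
  have hmk : m * H.index = 36 := by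
    rw [hm] at hmul
    have : 220 * (m * H.index) = 220 * 36 := by rw [← mul_assoc]; omega
    exact Nat.eq_of_mul_eq_mul_left (by norm_num) this
  have hm3 : m ≤ 3 := by
    by_contra hcon
    have : 4 * 11 ≤ m * H.index := Nat.mul_le_mul (by omega) hk11
    omega
  have hm0 : 0 < m := by
    rcases Nat.eq_zero_or_pos m with h0 | h0
    · rw [h0] at hmk; omega
    · exact h0
  -- the subgroup `H` as a group
  let x' : H := ⟨x, hxH⟩
  have hx' : orderOf x' = 11 := by rw [Subgroup.orderOf_mk]; exact hx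
  have hS : ∀ P : Sylow 11 H, Nat.card (P : Subgroup H) = 11 := fun P => by
    simpa using card_sylow_subgroup_of_card_eq (k := 1) (m := 20 * m)
      (by rw [hm]; ring) (by omega) P
  obtain ⟨Q, hQ⟩ := exists_sylow_eq_zpowers hS x' hx'
  have hnorm : normalizer ((Q : Subgroup H) : Set H) = N.subgroupOf H := by
    rw [hQ, ← zpowers_subgroupOf H x hxH]
    exact (subgroupOf_normalizer_eq ((zpowers_le).mpr hxH)).symm
  have hnormcard : Nat.card (normalizer ((Q : Subgroup H) : Set H)) = 55 := by
    rw [hnorm, Nat.card_congr (subgroupOfEquivOfLe hNH).toEquiv, hNcard]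
  have hsyl := card_normalizer_mul_card_sylow Q
  rw [hnormcard, hm] at hsyl
  have hmod : Nat.card (Sylow 11 H) % 11 = 1 % 11 := card_sylow_modEq_one 11 H
  have hm3' : m = 3 := by
    generalize Nat.card (Sylow 11 H) = n at *
    interval_cases m <;> omega
  subst hm3'
  -- now `|H| = 660`
  have hH660 : Nat.card H = 4 * 165 := by rw [hm]
  obtain ⟨K, hKn, hKc⟩ := exists_normal_of_orderOf_four (m := 165) (by norm_num) hH660
    (⟨c, hcH⟩ : H) (by rw [Subgroup.orderOf_mk]; exact hc)
  have hKidx : K.index = 4 := by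
    have := K.card_mul_index
    rw [hKc, hH660] at this
    omega
  have hmemK : ∀ g : H, orderOf g = 11 → g ∈ K := fun g hg =>
    mem_of_coprime_orderOf_index K g (by rw [hg, hKidx]; norm_num)
  have hx'K : x' ∈ K := hmemK x' hx'
  -- every element of `H` normalizes `zpowers x`
  have hHN : H ≤ N := by
    intro g hg
    apply mem_normalizer_fintype
    intro n hn
    obtain ⟨k, rfl⟩ := mem_zpowers_iff.mp hn
    let g' : H := ⟨g, hg⟩
    have hord : orderOf (g' * x' * g'⁻¹) = 11 := by
      have hs : SemiconjBy g' x' (g' * x' * g'⁻¹) := by simp [SemiconjBy]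
      rw [← hs.orderOf_eq]; exact hx'
    have hcK : g' * x' * g'⁻¹ ∈ K := hmemK _ hord
    have hmem := mem_zpowers_of_card_165 (K := K) hKc (a := ⟨x', hx'K⟩)
      (b := ⟨g' * x' * g'⁻¹, hcK⟩) (by rw [Subgroup.orderOf_mk]; exact hx')
      (by rw [Subgroup.orderOf_mk]; exact hord)
    obtain ⟨j, hj⟩ := mem_zpowers_iff.mp hmem
    have hj' : x ^ j = g * x * g⁻¹ := by
      have := congrArg (fun t : K => ((t : H) : G)) hj
      simpa [x', g'] using this
    have : g * x ^ k * g⁻¹ = (x ^ j) ^ k := by rw [hj', conj_zpow]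
    rw [this]; exact zpow_mem (zpow_mem (mem_zpowers x) j) k
  have : Nat.card H ∣ 55 := hNcard ▸ card_dvd_of_le hHN
  rw [hm] at this
  omega

end Cfsg.Agent.Helper34.M11Gen
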