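import Cfsg.Agent.S0033
import Cfsg.Agent.S1403
import Cfsg.Agent.Helper29.BG10F
import Cfsg.Agent.Helper50.CyclicSylow

set_option autoImplicit false

/-!
Bender--Glauberman, section 13: primes of `M` outside `σ(M) ∪ κ(M)`.
The rank two case is quoted (as a hypothesis) from Theorem 12.5.
-/

namespace Cfsg.Agent.Helper34.BGThirteenA

open Subgroup

variable {G : Type*} [Group G]

/-- `M_σ` is normalized by `M` (elementwise form) -/
theorem conj_mem_sigmaCore (M : Subgroup G) (g : G) (hg : g ∈ M) (y : G) (hy : y ∈ Cfsg.sigmaCore M) :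
    g * y * g⁻¹ ∈ Cfsg.sigmaCore M := by
  obtain ⟨y0, hy0, rfl⟩ := hy
  refine ⟨(⟨g, hg⟩ : M) * y0 * (⟨g, hg⟩ : M)⁻¹, ?_, ?_⟩
  · exact (Cfsg.piCore_normal (Cfsg.sigma M) M).conj_mem y0 hy0 _
  · simp

theorem sigmaCore_le (M : Subgroup G) : Cfsg.sigmaCore M ≤ M := by
  rintro _ ⟨y0, -, rfl⟩
  exact y0.2

/-- closure of the elements of order dividing `p` of a commutative subgroup -/
theorem closure_omega_props (p : ℕ) (S : Subgroup G) (hS : ∀ a ∈ S, ∀ b ∈ S, a * b = b * a) :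
    Subgroup.closure {x : G | x ∈ S ∧ x ^ p = 1} ≤ S ∧
      (∀ a ∈ Subgroup.closure {x : G | x ∈ S ∧ x ^ p = 1}, a ^ p = 1) := by
  have hle : Subgroup.closure {x : G | x ∈ S ∧ x ^ p = 1} ≤ S :=
    (Subgroup.closure_le S).2 (fun x hx => hx.1)
  refine ⟨hle, ?_⟩
  intro a ha
  have key : a ∈ S ∧ a ^ p = 1 := by
    induction ha using Subgroup.closure_induction with
    | mem x hx => exact hx
    | one => exact ⟨S.one_mem, one_pow p⟩
    | mul x y _ _ hx hy =>
      refine ⟨S.mul_mem hx.1 hy.1, ?_⟩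
      have hc : Commute x y := hS x hx.1 y hy.1
      rw [hc.mul_pow, hx.2, hy.2, one_mul]
    | inv x _ hx =>
      exact ⟨S.inv_mem hx.1, by rw [inv_pow, hx.2, inv_one]⟩
  exact key.2

/-- transport of the non-commuting condition from one Sylow subgroup of `M` to another -/
theorem transfer_noncommuting [Finite G] (M : Subgroup G) (p : ℕ) [Fact p.Prime]
    (P0 S : Sylow p M)
    (hP0 : ∀ x : M, x ∈ (P0 : Subgroup M) → x ≠ 1 → ∀ y ∈ Cfsg.sigmaCore M, y ≠ 1 →
      (x : G) * y ≠ y * x) :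
    ∀ x : M, x ∈ (S : Subgroup M) → x ≠ 1 → ∀ y ∈ Cfsg.sigmaCore M, y ≠ 1 →
      (x : G) * y ≠ y * x := by
  obtain ⟨g, hg⟩ := MulAction.exists_smul_eq M P0 S
  intro x hx hx1 y hy hy1 hxy
  have hx2 : x ∈ ((g • P0 : Sylow p M) : Subgroup M) := by rw [hg]; exact hx
  rw [Sylow.coe_subgroup_smul] at hx2
  obtain ⟨s, hs, hsx⟩ := (Subgroup.mem_smul_pointwise_iff_exists _ _ _).mp hx2
  have hsx' : g * s * g⁻¹ = x := by simpa [MulAut.smul_def] using hsx
  have hs1 : s ≠ 1 := by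
    rintro rfl
    apply hx1
    rw [← hsx']
    simp
  have hsG : (s : G) = (g : G)⁻¹ * x * g := by
    rw [← hsx']
    simp [mul_assoc]
  have hy' : (g : G)⁻¹ * y * g ∈ Cfsg.sigmaCore M := by
    have := conj_mem_sigmaCore M ((g : G)⁻¹) (M.inv_mem g.2) y hy
    simpa using this
  have hy1' : (g : G)⁻¹ * y * g ≠ 1 := by
    intro h
    apply hy1
    have : y = (g : G) * ((g : G)⁻¹ * y * g) * (g : G)⁻¹ := by group
    rw [this, h]
    simp
  apply hP0 s hs hs1 _ hy' hy1'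
  rw [hsG]
  calc (g : G)⁻¹ * x * g * ((g : G)⁻¹ * y * g) = (g : G)⁻¹ * ((x : G) * y) * g := by group
    _ = (g : G)⁻¹ * (y * x) * g := by rw [hxy]
    _ = ((g : G)⁻¹ * y * g) * ((g : G)⁻¹ * x * g) := by group

/-- the case of `p`-rank one -/
theorem rank_one_case [Finite G] (M : Subgroup G)
    (p : ℕ) [Fact p.Prime] (hp2 : p ≠ 2) (hpM : p ∣ Nat.card M) (hps : p ∉ Cfsg.sigma M)
    (hpk : p ∉ Cfsg.kappa M) (h1 : Cfsg.PRankLE p 1 M) (S : Sylow p M) :
    Nat.card ↥(Subgroup.closure {x : G | x ∈ (S : Subgroup M).map M.subtype ∧ x ^ p = 1}) ≤ p ^ 2 ∧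
      Cfsg.sigmaCore M ⊓ Subgroup.centralizer ((Subgroup.closure
        {x : G | x ∈ (S : Subgroup M).map M.subtype ∧ x ^ p = 1} : Subgroup G) : Set G) = ⊥ ∧
      Group.IsNilpotent (Cfsg.sigmaCore M) := by
  classical
  have hpp : p.Prime := Fact.out
  have hcyc : ∀ P : Sylow p M, IsCyclic ↥(P : Subgroup M) := fun P =>
    Cfsg.Agent.Helper50.sylow_isCyclic_of_pRankLE_one hp2 h1 P
  have hk : ∃ P0 : Sylow p M, ∀ x : M, x ∈ (P0 : Subgroup M) → x ≠ 1 →
      ∀ y ∈ Cfsg.sigmaCore M, y ≠ 1 → (x : G) * y ≠ y * x := by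
    by_contra hcon
    push_neg at hcon
    apply hpk
    refine ⟨hpp, hpM, hps, fun P => ⟨hcyc P, ?_⟩⟩
    obtain ⟨x, hx, hx1, y, hy, hy1, hxy⟩ := hcon P
    exact ⟨x, hx, hx1, y, hy, hy1, hxy⟩
  obtain ⟨P0, hP0⟩ := hk
  have hS := transfer_noncommuting M p P0 S hP0
  -- the image of `S` is commutative
  have hScomm : ∀ a ∈ (S : Subgroup M).map M.subtype, ∀ b ∈ (S : Subgroup M).map M.subtype,
      a * b = b * a := by
    rintro _ ⟨a0, ha0, rfl⟩ _ ⟨b0, hb0, rfl⟩
    haveI := hcyc S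
    have h := (IsCyclic.isMulCommutative : IsMulCommutative ↥(S : Subgroup M)).is_comm.comm
      ⟨a0, ha0⟩ ⟨b0, hb0⟩
    have h2 : a0 * b0 = b0 * a0 := congrArg Subtype.val h
    have h3 := congrArg (M.subtype) h2
    simpa using h3
  obtain ⟨hΩle, hΩexp⟩ := closure_omega_props p ((S : Subgroup M).map M.subtype) hScomm
  set Ω : Subgroup G := Subgroup.closure {x : G | x ∈ (S : Subgroup M).map M.subtype ∧ x ^ p = 1}
    with hΩdef
  have hSM : (S : Subgroup M).map M.subtype ≤ M := by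
    rintro _ ⟨a0, -, rfl⟩
    exact a0.2
  have hΩM : Ω ≤ M := hΩle.trans hSM
  -- an element of order `p` in `S`
  have hdS : p ∣ Nat.card ↥(S : Subgroup M) := S.dvd_card_of_dvd_card hpM
  obtain ⟨x0, hx0⟩ := exists_prime_orderOf_dvd_card' p hdS
  have hx0ne : (x0 : M) ≠ 1 := by
    intro h
    have : x0 = 1 := Subtype.ext h
    rw [this, orderOf_one] at hx0
    exact hpp.one_lt.ne hx0
  have hx0p : ((x0 : M) : G) ^ p = 1 := by
    have h1 : x0 ^ p = 1 := by
      have := pow_orderOf_eq_one x0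
      rwa [hx0] at this
    have h2 : ((x0 : M)) ^ p = 1 := by
      have := congrArg Subtype.val h1
      simpa using this
    have h3 := congrArg (M.subtype) h2
    simpa using h3
  have hx0Ω : ((x0 : M) : G) ∈ Ω :=
    Subgroup.subset_closure ⟨⟨(x0 : M), x0.2, rfl⟩, hx0p⟩
  refine ⟨?_, ?_, ?_⟩
  · -- the order
    have hcardeq : Nat.card ↥(Ω.subgroupOf M) = Nat.card ↥Ω :=
      Nat.card_congr (Subgroup.subgroupOfEquivOfLe hΩM).toEquiv
    have hcomm : IsMulCommutative ↥(Ω.subgroupOf M) := by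
      refine ⟨⟨fun a b => ?_⟩⟩
      have ha : ((a : M) : G) ∈ Ω := a.2
      have hb : ((b : M) : G) ∈ Ω := b.2
      have := hScomm _ (hΩle ha) _ (hΩle hb)
      apply Subtype.ext
      apply Subtype.ext
      simpa using this
    have hexp : ∀ a ∈ Ω.subgroupOf M, a ^ p = 1 := by
      intro a ha
      have := hΩexp _ (Subgroup.mem_subgroupOf.mp ha)
      apply Subtype.ext
      simpa using this
    have := h1 (Ω.subgroupOf M) hcomm hexp
    rw [hcardeq, pow_one] at this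
    calc Nat.card ↥Ω ≤ p := this
      _ = p ^ 1 := (pow_one p).symm
      _ ≤ p ^ 2 := Nat.pow_le_pow_right hpp.pos (by norm_num)
  · rw [eq_bot_iff]
    rintro y ⟨hy1, hy2⟩
    rw [Subgroup.mem_bot]
    by_contra hyne
    have hc := (Subgroup.mem_centralizer_iff.mp hy2) _ hx0Ω
    exact hS (x0 : M) x0.2 hx0ne y hy1 hyne hc
  · -- nilpotency by Thompson
    have hnil : Group.IsNilpotent ↥(Cfsg.piCore (Cfsg.sigma M) M) := by
      let φ : ↥(Cfsg.piCore (Cfsg.sigma M) M) ≃* ↥(Cfsg.piCore (Cfsg.sigma M) M) :=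
        MulAut.conjNormal (x0 : M)
      have hφ : MonoidHom.FixedPointFree (φ : ↥(Cfsg.piCore (Cfsg.sigma M) M) →* _) := by
        intro n hn
        by_contra hn1
        have hn' : ((x0 : M)) * (n : M) * ((x0 : M))⁻¹ = (n : M) := by
          have := congrArg Subtype.val hn
          simpa [φ, MulAut.conjNormal_apply] using this
        have hnG : (((n : M)) : G) ∈ Cfsg.sigmaCore M := ⟨(n : M), n.2, rfl⟩
        have hnG1 : (((n : M)) : G) ≠ 1 := by
          intro h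
          apply hn1
          apply Subtype.ext
          apply Subtype.ext
          simpa using h
        apply hS (x0 : M) x0.2 hx0ne _ hnG hnG1
        have h4 : ((x0 : M)) * (n : M) = (n : M) * (x0 : M) := by
          calc ((x0 : M)) * (n : M) = (((x0 : M)) * (n : M) * ((x0 : M))⁻¹) * (x0 : M) := by
                simp [mul_assoc]
            _ = (n : M) * (x0 : M) := by rw [hn']
        have := congrArg (M.subtype) h4
        simpa using this
      have hpow : φ ^ p = 1 := by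
        have : φ ^ p = MulAut.conjNormal ((x0 : M) ^ p) := by
          simp [φ, map_pow]
        rw [this]
        have h2 : ((x0 : M)) ^ p = 1 := by
          have h1 : x0 ^ p = 1 := by
            have := pow_orderOf_eq_one x0
            rwa [hx0] at this
          have := congrArg Subtype.val h1
          simpa using this
        rw [h2, map_one]
      exact Cfsg.Agent.Helper1.fpf_prime_nilpotent hpp φ hφ hpow
    have e : ↥(Cfsg.piCore (Cfsg.sigma M) M) ≃* ↥(Cfsg.sigmaCore M) :=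
      Subgroup.equivMapOfInjective _ M.subtype M.subtype_injective
    exact (Group.nilpotent_of_mulEquiv e)

/-- the case of `p`-rank two, with Theorem 12.5 as a hypothesis -/
theorem rank_two_case [Finite G] (M : Subgroup G) (p : ℕ) [Fact p.Prime]
    (h2 : Cfsg.PRankLE p 2 M) (h1 : ¬ Cfsg.PRankLE p 1 M) (S : Sylow p M)
    (h125 : ∀ A : Subgroup G, (A ≤ M ∧ Cfsg.IsElementaryAbelian p A ∧ Nat.card A = p ^ 2) →
      Group.IsNilpotent (Cfsg.sigmaCore M) ∧
      (A ≤ (S : Subgroup M).map M.subtype →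
          (∀ x ∈ (S : Subgroup M).map M.subtype, x ^ p = 1 ↔ x ∈ A)) ∧
      Cfsg.sigmaCore M ⊓ Subgroup.centralizer (A : Set G) = ⊥) :
    Nat.card ↥(Subgroup.closure {x : G | x ∈ (S : Subgroup M).map M.subtype ∧ x ^ p = 1}) ≤ p ^ 2 ∧
      Cfsg.sigmaCore M ⊓ Subgroup.centralizer ((Subgroup.closure
        {x : G | x ∈ (S : Subgroup M).map M.subtype ∧ x ^ p = 1} : Subgroup G) : Set G) = ⊥ ∧
      Group.IsNilpotent (Cfsg.sigmaCore M) := by
  classical
  have hpp : p.Prime := Fact.out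
  unfold Cfsg.PRankLE at h1
  push_neg at h1
  obtain ⟨A0, hA0c, hA0e, hA0lt⟩ := h1
  have hA0le := h2 A0 hA0c hA0e
  have hA0p : IsPGroup p ↥A0 := by
    intro a
    refine ⟨1, ?_⟩
    rw [pow_one]
    apply Subtype.ext
    simpa using hA0e a a.2
  obtain ⟨k, hk⟩ := IsPGroup.iff_card.mp hA0p
  have hk2 : k = 2 := by
    rw [hk] at hA0lt hA0le
    have h1k : 1 < k := (Nat.pow_lt_pow_iff_right hpp.one_lt).mp hA0lt
    have hk2 : k ≤ 2 := (Nat.pow_le_pow_iff_right hpp.one_lt).mp hA0le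
    omega
  rw [hk2] at hk
  obtain ⟨Q, hQ⟩ := hA0p.exists_le_sylow
  obtain ⟨g, hg⟩ := MulAction.exists_smul_eq M Q S
  let f : ↥M →* G := M.subtype.comp (MulAut.conj g).toMonoidHom
  have hfinj : Function.Injective f := by
    intro a b hab
    have h3 : (MulAut.conj g) a = (MulAut.conj g) b := M.subtype_injective hab
    exact (MulAut.conj g).injective h3
  have hfapp : ∀ a : M, f a = (g : G) * a * (g : G)⁻¹ := by
    intro a
    simp [f, MulAut.conj_apply]
  have hAM : A0.map f ≤ M := by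
    rintro _ ⟨a, -, rfl⟩
    rw [hfapp]
    exact M.mul_mem (M.mul_mem g.2 a.2) (M.inv_mem g.2)
  have hAel : Cfsg.IsElementaryAbelian p (A0.map f) := by
    refine ⟨⟨⟨?_⟩⟩, ?_⟩
    · rintro ⟨_, ⟨a, ha, rfl⟩⟩ ⟨_, ⟨b, hb, rfl⟩⟩
      apply Subtype.ext
      have h3 := hA0c.is_comm.comm ⟨a, ha⟩ ⟨b, hb⟩
      have h4 : a * b = b * a := congrArg Subtype.val h3
      change f a * f b = f b * f a
      rw [← map_mul, ← map_mul, h4]
    · rintro _ ⟨a, ha, rfl⟩
      rw [← map_pow, hA0e a ha, map_one]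
  have hAcard : Nat.card ↥(A0.map f) = p ^ 2 := by
    rw [Subgroup.card_map_of_injective hfinj, hk]
  have hAS : A0.map f ≤ (S : Subgroup M).map M.subtype := by
    rintro _ ⟨a, ha, rfl⟩
    refine ⟨g * a * g⁻¹, ?_, ?_⟩
    · have hmem : g * a * g⁻¹ ∈ ((g • Q : Sylow p M) : Subgroup M) := by
        rw [Sylow.coe_subgroup_smul]
        refine (Subgroup.mem_smul_pointwise_iff_exists _ _ _).mpr ⟨a, hQ ha, ?_⟩
        simp [MulAut.smul_def]
      rw [hg] at hmem
      exact hmem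
    · rw [hfapp]
      simp
  obtain ⟨hnil, hiff, hcent⟩ := h125 (A0.map f) ⟨hAM, hAel, hAcard⟩
  have hset : {x : G | x ∈ (S : Subgroup M).map M.subtype ∧ x ^ p = 1} = ((A0.map f : Subgroup G) : Set G) := by
    ext x
    constructor
    · rintro ⟨hx, hxp⟩
      exact (hiff hAS x hx).1 hxp
    · intro hx
      exact ⟨hAS hx, (hiff hAS x (hAS hx)).2 hx⟩
  have hcl : Subgroup.closure {x : G | x ∈ (S : Subgroup M).map M.subtype ∧ x ^ p = 1} = A0.map f := by
    rw [hset, Subgroup.closure_eq]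
  rw [hcl]
  exact ⟨hAcard.le, hcent, hnil⟩

/-- B-G Lemma 13.1 type statement, with Theorem 12.5 as a hypothesis for primes in `τ₂(M)` -/
theorem main [Finite G] (hG : Cfsg.IsMinSimpleOddOrder G) (M : Subgroup G) (hM : IsCoatom M)
    (p : ℕ) [Fact p.Prime] (hpM : p ∣ Nat.card M) (hp : p ∉ Cfsg.sigma M ∪ Cfsg.kappa M)
    (S : Sylow p M)
    (h125 : p ∈ Cfsg.tau2 M →
      ∀ A : Subgroup G, (A ≤ M ∧ Cfsg.IsElementaryAbelian p A ∧ Nat.card A = p ^ 2) →
      Group.IsNilpotent (Cfsg.sigmaCore M) ∧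
      (A ≤ (S : Subgroup M).map M.subtype →
          (∀ x ∈ (S : Subgroup M).map M.subtype, x ^ p = 1 ↔ x ∈ A)) ∧
      Cfsg.sigmaCore M ⊓ Subgroup.centralizer (A : Set G) = ⊥) :
    Nat.card ↥(Subgroup.closure {x : G | x ∈ (S : Subgroup M).map M.subtype ∧ x ^ p = 1}) ≤ p ^ 2 ∧
      Cfsg.sigmaCore M ⊓ Subgroup.centralizer ((Subgroup.closure
        {x : G | x ∈ (S : Subgroup M).map M.subtype ∧ x ^ p = 1} : Subgroup G) : Set G) = ⊥ ∧
      Group.IsNilpotent (Cfsg.sigmaCore M) := by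
  have hpp : p.Prime := Fact.out
  have hps : p ∉ Cfsg.sigma M := fun h => hp (Or.inl h)
  have hpk : p ∉ Cfsg.kappa M := fun h => hp (Or.inr h)
  have hp2 : p ≠ 2 := by
    rintro rfl
    exact Nat.not_even_iff_odd.mpr hG.1
      (even_iff_two_dvd.mpr (dvd_trans hpM (Subgroup.card_subgroup_dvd_card M)))
  have hU : Cfsg.Agent.Helper29.BG10.UniquenessThm G :=
    fun K hK hK2 hK3 => Cfsg.Agent.S1403.result hG K hK hK2 hK3
  have h2 : Cfsg.PRankLE p 2 M := by
    by_contra h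
    exact hps (Cfsg.Agent.Helper29.BG10.alpha_subset_sigma hG hU hM ⟨hpp, h⟩)
  by_cases h1 : Cfsg.PRankLE p 1 M
  · exact rank_one_case M p hp2 hpM hps hpk h1 S
  · exact rank_two_case M p h2 h1 S (h125 ⟨hpp, hps, h2, h1⟩)

end Cfsg.Agent.Helper34.BGThirteenA

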