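import Mathlib
import Cfsg.Agent.Helper25.Bli.Defs

/-!
# S4484 (helper25), piece (L3a): elementary properties of `cosAng`.
-/

set_option autoImplicit false
set_option linter.unusedSectionVars false
set_option linter.unusedVariables false

namespace Cfsg.Agent.Helper34.Bli

open Module Module.End Cfsg.Agent.Helper25.Bli

variable {G : Type*} [Group G] {V : Type*} [NormedAddCommGroup V] [InnerProductSpace ℂ V]
  [FiniteDimensional ℂ V]

theorem cosSet_le_one (W W' : Submodule ℂ V) : ∀ r ∈ cosSet W W', r ≤ 1 := by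
  rintro r ⟨w, hw, w', hw', h1, h1', rfl⟩
  have := norm_inner_le_norm (𝕜 := ℂ) w w'
  rwa [h1, h1', one_mul] at this

theorem cosSet_nonneg (W W' : Submodule ℂ V) : ∀ r ∈ cosSet W W', 0 ≤ r := by
  rintro r ⟨w, hw, w', hw', h1, h1', rfl⟩
  exact norm_nonneg _

theorem cosSet_bddAbove (W W' : Submodule ℂ V) : BddAbove (cosSet W W') :=
  ⟨1, fun r hr => cosSet_le_one W W' r hr⟩

theorem cosSet_comm (W W' : Submodule ℂ V) : cosSet W W' = cosSet W' W := by
  ext r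
  constructor
  · rintro ⟨w, hw, w', hw', h1, h1', rfl⟩
    exact ⟨w', hw', w, hw, h1', h1, norm_inner_symm w w'⟩
  · rintro ⟨w, hw, w', hw', h1, h1', rfl⟩
    exact ⟨w', hw', w, hw, h1', h1, norm_inner_symm w w'⟩

theorem cosAng_comm (W W' : Submodule ℂ V) : cosAng W W' = cosAng W' W := by
  unfold cosAng
  rw [cosSet_comm]

theorem le_cosAng (W W' : Submodule ℂ V) (w w' : V) (hw : w ∈ W) (hw' : w' ∈ W') (h1 : ‖w‖ = 1)
    (h1' : ‖w'‖ = 1) : ‖inner ℂ w w'‖ ≤ cosAng W W' :=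
  le_csSup (cosSet_bddAbove W W') ⟨w, hw, w', hw', h1, h1', rfl⟩

theorem cosAng_nonneg (W W' : Submodule ℂ V) : 0 ≤ cosAng W W' :=
  Real.sSup_nonneg (cosSet_nonneg W W')

theorem cosAng_le_one (W W' : Submodule ℂ V) : cosAng W W' ≤ 1 :=
  Real.sSup_le (cosSet_le_one W W') zero_le_one

theorem cosAng_map (u : unitary (V →L[ℂ] V)) (W W' : Submodule ℂ V) :
    cosAng (W.map ((u : V →L[ℂ] V) : V →ₗ[ℂ] V)) (W'.map ((u : V →L[ℂ] V) : V →ₗ[ℂ] V))
      = cosAng W W' := by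
  have : CompleteSpace V := FiniteDimensional.complete ℂ V
  have hn : ∀ v : V, ‖(u : V →L[ℂ] V) v‖ = ‖v‖ :=
    ContinuousLinearMap.norm_map_of_mem_unitary u.2
  have hi : ∀ v v' : V, inner ℂ ((u : V →L[ℂ] V) v) ((u : V →L[ℂ] V) v') = inner ℂ v v' :=
    ContinuousLinearMap.inner_map_map_of_mem_unitary u.2
  unfold cosAng
  congr 1
  ext r
  constructor
  · rintro ⟨_, ⟨w, hw, rfl⟩, _, ⟨w', hw', rfl⟩, h1, h1', rfl⟩
    refine ⟨w, hw, w', hw', ?_, ?_, ?_⟩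
    · rw [← h1]; exact (hn w).symm
    · rw [← h1']; exact (hn w').symm
    · exact congrArg _ (hi w w')
  · rintro ⟨w, hw, w', hw', h1, h1', rfl⟩
    refine ⟨(u : V →L[ℂ] V) w, ⟨w, hw, rfl⟩, (u : V →L[ℂ] V) w', ⟨w', hw', rfl⟩, ?_, ?_, ?_⟩
    · rw [← h1]; exact hn w
    · rw [← h1']; exact hn w'
    · exact (congrArg _ (hi w w')).symm

theorem isOrtho_of_cosAng_eq_zero (W W' : Submodule ℂ V) (h : cosAng W W' = 0) : W ⟂ W' := by
  rw [Submodule.isOrtho_iff_inner_eq]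
  intro u hu v hv
  by_cases hu0 : u = 0
  · rw [hu0, inner_zero_left]
  by_cases hv0 : v = 0
  · rw [hv0, inner_zero_right]
  have hnu : ‖u‖ ≠ 0 := norm_ne_zero_iff.2 hu0
  have hnv : ‖v‖ ≠ 0 := norm_ne_zero_iff.2 hv0
  set a : ℂ := ((‖u‖⁻¹ : ℝ) : ℂ) with ha
  set b : ℂ := ((‖v‖⁻¹ : ℝ) : ℂ) with hb
  have h1 : ‖a • u‖ = 1 := by
    rw [norm_smul, ha, Complex.norm_real, norm_inv, norm_norm, inv_mul_cancel₀ hnu]
  have h1' : ‖b • v‖ = 1 := by
    rw [norm_smul, hb, Complex.norm_real, norm_inv, norm_norm, inv_mul_cancel₀ hnv]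
  have hle := le_cosAng W W' (a • u) (b • v) (W.smul_mem a hu) (W'.smul_mem b hv) h1 h1'
  rw [h] at hle
  have hz : inner ℂ (a • u) (b • v) = 0 := norm_le_zero_iff.1 hle
  rw [inner_smul_left, inner_smul_right] at hz
  have ha0 : (starRingEnd ℂ) a ≠ 0 := by
    rw [ha, Complex.conj_ofReal]
    exact_mod_cast inv_ne_zero hnu
  have hb0 : b ≠ 0 := by
    rw [hb]
    exact_mod_cast inv_ne_zero hnv
  rcases mul_eq_zero.1 hz with h' | h'
  · exact absurd h' ha0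
  · rcases mul_eq_zero.1 h' with h'' | h''
    · exact absurd h'' hb0
    · exact h''

theorem cosAng_eq_zero_of_isOrtho (W W' : Submodule ℂ V) (h : W ⟂ W') : cosAng W W' = 0 := by
  rw [Submodule.isOrtho_iff_inner_eq] at h
  apply le_antisymm _ (cosAng_nonneg W W')
  apply Real.sSup_le _ le_rfl
  rintro r ⟨w, hw, w', hw', h1, h1', rfl⟩
  rw [h w hw w' hw', norm_zero]

end Cfsg.Agent.Helper34.Bli
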