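import Mathlib
import Cfsg.Agent.Helper25.Bli.Defs
import Cfsg.Agent.Helper34.BliL3a

/-!
# S4484 (helper25), piece (L3b): the supremum defining `cosAng` is attained; `cosAng < 1` for
subspaces meeting trivially.
-/

set_option autoImplicit false
set_option linter.unusedSectionVars false
set_option linter.unusedVariables false

namespace Cfsg.Agent.Helper34.Bli

open Module Module.End Cfsg.Agent.Helper25.Bli

variable {G : Type*} [Group G] {V : Type*} [NormedAddCommGroup V] [InnerProductSpace ℂ V]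
  [FiniteDimensional ℂ V]

/-- a nonzero subspace contains a unit vector -/
theorem exists_unit_mem (W : Submodule ℂ V) (hW : W ≠ ⊥) : ∃ w ∈ W, ‖w‖ = 1 := by
  obtain ⟨u, hu, hu0⟩ := (Submodule.ne_bot_iff W).1 hW
  have hnu : ‖u‖ ≠ 0 := norm_ne_zero_iff.2 hu0
  refine ⟨(((‖u‖⁻¹ : ℝ) : ℂ)) • u, W.smul_mem _ hu, ?_⟩
  rw [norm_smul, Complex.norm_real, norm_inv, norm_norm, inv_mul_cancel₀ hnu]

theorem isCompact_unit (W : Submodule ℂ V) : IsCompact ((W : Set V) ∩ Metric.sphere (0 : V) 1) := by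
  have : ProperSpace V := FiniteDimensional.proper ℂ V
  have hcl : IsClosed (W : Set V) := Submodule.closed_of_finiteDimensional W
  exact (isCompact_sphere (0 : V) 1).inter_left hcl

theorem exists_eq_cosAng (W W' : Submodule ℂ V) (hW : W ≠ ⊥) (hW' : W' ≠ ⊥) :
    ∃ w ∈ W, ∃ w' ∈ W', ‖w‖ = 1 ∧ ‖w'‖ = 1 ∧ ‖inner ℂ w w'‖ = cosAng W W' := by
  obtain ⟨w0, hw0, hw01⟩ := exists_unit_mem W hW
  obtain ⟨w0', hw0', hw01'⟩ := exists_unit_mem W' hW'
  set K : Set (V × V) := ((W : Set V) ∩ Metric.sphere (0 : V) 1) ×ˢ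
    ((W' : Set V) ∩ Metric.sphere (0 : V) 1) with hK
  have hKc : IsCompact K := (isCompact_unit W).prod (isCompact_unit W')
  have hKne : K.Nonempty := by
    refine ⟨(w0, w0'), ⟨hw0, ?_⟩, ⟨hw0', ?_⟩⟩
    · simpa using hw01
    · simpa using hw01'
  have hcont : ContinuousOn (fun p : V × V => ‖inner ℂ p.1 p.2‖) K := by
    apply Continuous.continuousOn
    exact continuous_norm.comp (continuous_fst.inner continuous_snd)
  obtain ⟨⟨w, w'⟩, hmem, hmax⟩ := hKc.exists_isMaxOn hKne hcont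
  obtain ⟨⟨hw, hw1⟩, ⟨hw', hw1'⟩⟩ := hmem
  have h1 : ‖w‖ = 1 := by simpa using hw1
  have h1' : ‖w'‖ = 1 := by simpa using hw1'
  refine ⟨w, hw, w', hw', h1, h1', ?_⟩
  apply le_antisymm (le_cosAng W W' w w' hw hw' h1 h1')
  have hne : (cosSet W W').Nonempty := ⟨‖inner ℂ w0 w0'‖, w0, hw0, w0', hw0', hw01, hw01', rfl⟩
  apply csSup_le hne
  rintro r ⟨v, hv, v', hv', hv1, hv1', rfl⟩
  have hvK : (v, v') ∈ K := by
    refine ⟨⟨hv, ?_⟩, ⟨hv', ?_⟩⟩
    · simpa using hv1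
    · simpa using hv1'
  exact hmax hvK

theorem cosSet_bot_left (W' : Submodule ℂ V) : cosSet (⊥ : Submodule ℂ V) W' = ∅ := by
  ext r
  simp only [Set.mem_empty_iff_false, iff_false]
  rintro ⟨w, hw, w', hw', h1, h1', rfl⟩
  rw [Submodule.mem_bot] at hw
  rw [hw, norm_zero] at h1
  exact zero_ne_one h1

theorem cosAng_bot_left (W' : Submodule ℂ V) : cosAng (⊥ : Submodule ℂ V) W' = 0 := by
  unfold cosAng
  rw [cosSet_bot_left, Real.sSup_empty]

theorem cosAng_bot_right (W : Submodule ℂ V) : cosAng W (⊥ : Submodule ℂ V) = 0 := by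
  rw [cosAng_comm, cosAng_bot_left]

theorem cosAng_lt_one (W W' : Submodule ℂ V) (h : W ⊓ W' = ⊥) : cosAng W W' < 1 := by
  by_cases hW : W = ⊥
  · rw [hW, cosAng_bot_left]; exact zero_lt_one
  by_cases hW' : W' = ⊥
  · rw [hW', cosAng_bot_right]; exact zero_lt_one
  obtain ⟨w, hw, w', hw', h1, h1', heq⟩ := exists_eq_cosAng W W' hW hW'
  apply lt_of_le_of_ne (cosAng_le_one W W')
  intro hc
  have hw0 : w ≠ 0 := by
    intro h0; rw [h0, norm_zero] at h1; exact zero_ne_one h1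
  have hw0' : w' ≠ 0 := by
    intro h0; rw [h0, norm_zero] at h1'; exact zero_ne_one h1'
  have heq' : ‖inner ℂ w w'‖ = ‖w‖ * ‖w'‖ := by
    rw [heq, hc, h1, h1', one_mul]
  obtain ⟨r, hr0, hr⟩ := (norm_inner_eq_norm_iff hw0 hw0').1 heq'
  have hmem : w' ∈ W ⊓ W' := ⟨by rw [hr]; exact W.smul_mem r hw, hw'⟩
  rw [h, Submodule.mem_bot] at hmem
  exact hw0' hmem

end Cfsg.Agent.Helper34.Bli
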