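import Mathlib
import Cfsg.Prelude.Def_Blocks
import Cfsg.Agent.Helper77.BlockOrth
import Cfsg.Agent.Helper78.IrrTransport
import Cfsg.Agent.Helper78.IrrBasic
import Cfsg.Agent.Helper74.CharBasic

/-!
# S4484 (helper25), piece (C1): a nonprincipal character in the principal `p`-block, of degree prime
to `q`, not vanishing at a given `p`-singular element.
-/

set_option autoImplicit false
set_option linter.unusedSectionVars false
set_option linter.unusedVariables false

namespace Cfsg.Agent.Helper34.Bli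

open Cfsg

/-- `1 + q z = 0` is impossible for an algebraic integer `z` and a prime `q`. -/
theorem not_isIntegral_of_one_add_mul (q : ℕ) (hq : q.Prime) (z : ℂ) (hz : IsIntegral ℤ z)
    (h : 1 + (q : ℂ) * z = 0) : False := by
  have hq0 : (q : ℂ) ≠ 0 := by exact_mod_cast hq.ne_zero
  have hz' : z = ((-(1 / (q : ℚ)) : ℚ) : ℂ) := by
    push_cast
    field_simp
    linear_combination h
  rw [hz'] at hz
  have hz2 : IsIntegral ℤ (-(1 / (q : ℚ)) : ℚ) :=
    (isIntegral_algebraMap_iff (algebraMap ℚ ℂ).injective).1 hz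
  obtain ⟨n, hn⟩ := IsIntegrallyClosed.isIntegral_iff.1 hz2
  have hq0' : (q : ℚ) ≠ 0 := by exact_mod_cast hq.ne_zero
  have h1 : (q : ℚ) * (n : ℚ) = -1 := by
    have : ((n : ℤ) : ℚ) = -(1 / (q : ℚ)) := by simpa using hn
    rw [this]
    field_simp
  have h2 : (q : ℤ) * n = -1 := by exact_mod_cast h1
  have h3 : (q : ℤ) ∣ 1 := ⟨-n, by linarith⟩
  have h4 : q ∣ 1 := by exact_mod_cast h3
  exact hq.one_lt.ne' (Nat.dvd_one.1 h4)

variable {G : Type*} [Group G] [Finite G] {M : Ideal AlgInt} {p : ℕ}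

/-- (C1) -/
theorem exists_principal_char (hM : IsPModular p M) (q : ℕ) (hq : q.Prime) (y : G)
    (hy : p ∣ orderOf y) :
    ∃ χ : IrrCharacter G, χ ∈ principalBlock M G ∧ (χ : G → ℂ) ≠ (fun _ => 1) ∧
      ¬ q ∣ charDegree (χ : G → ℂ) ∧ (χ : G → ℂ) y ≠ 0 := by
  classical
  have := Fintype.ofFinite G
  by_contra hcon
  push Not at hcon
  have hB := Cfsg.Agent.Helper78.isPBlock_principalBlock M G
  have hMp : M.IsPrime := hM.2.1.isPrime
  have hp1 : ¬ p ∣ orderOf (1 : G) := by
    rw [orderOf_one]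
    intro h
    exact hM.1.one_lt.ne' (Nat.dvd_one.1 h)
  have horth := Cfsg.Agent.Helper77.weak_block_orthogonality hM hB 1 y hp1 hy
  rw [finsum_mem_eq_finite_toFinset_sum _ (Set.toFinite _)] at horth
  set B : Finset (IrrCharacter G) := (Set.toFinite (principalBlock M G)).toFinset with hBdef
  have h1mem : Cfsg.Agent.Helper79.principalIrr G ∈ B := by
    rw [hBdef, Set.Finite.mem_toFinset]
    exact Cfsg.Agent.Helper78.principalIrr_mem_principalBlock M hMp G
  rw [← Finset.add_sum_erase B _ h1mem] at horth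
  have hprin : ((Cfsg.Agent.Helper79.principalIrr G : IrrCharacter G) : G → ℂ) y *
      ((Cfsg.Agent.Helper79.principalIrr G : IrrCharacter G) : G → ℂ) 1 = 1 := by
    show (1 : ℂ) * 1 = 1
    rw [one_mul]
  rw [hprin] at horth
  have hrest : ∑ χ ∈ B.erase (Cfsg.Agent.Helper79.principalIrr G),
      (χ : G → ℂ) y * (χ : G → ℂ) 1 = (q : ℂ) *
      ∑ χ ∈ B.erase (Cfsg.Agent.Helper79.principalIrr G),
        (if q ∣ charDegree (χ : G → ℂ) then
          (χ : G → ℂ) y * ((charDegree (χ : G → ℂ) / q : ℕ) : ℂ) else 0) := by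
    rw [Finset.mul_sum]
    apply Finset.sum_congr rfl
    intro χ hχ
    have hne : χ ≠ Cfsg.Agent.Helper79.principalIrr G := (Finset.mem_erase.1 hχ).1
    have hmem : χ ∈ principalBlock M G := by
      have := (Finset.mem_erase.1 hχ).2
      rwa [hBdef, Set.Finite.mem_toFinset] at this
    have hdeg : ((charDegree (χ : G → ℂ) : ℕ) : ℂ) = (χ : G → ℂ) 1 :=
      Cfsg.Agent.Helper74.charDegree_cast (Cfsg.Agent.Helper74.isCharacter_of_isIrr χ.2)
    split_ifs with hd
    · rw [← hdeg]
      obtain ⟨k, hk⟩ := hd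
      rw [hk, Nat.mul_div_cancel_left k hq.pos]
      push_cast
      ring
    · have h0 := hcon χ hmem (fun h => hne (Subtype.ext h)) hd
      rw [h0, zero_mul, mul_zero]
  rw [hrest] at horth
  refine not_isIntegral_of_one_add_mul q hq _ ?_ horth
  apply IsIntegral.sum
  intro χ _
  split_ifs
  · exact (Cfsg.Agent.Helper78.isIntegral_irrChar_apply χ.2 y).mul (isIntegral_natCast _)
  · exact isIntegral_zero

end Cfsg.Agent.Helper34.Bli
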