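import Mathlib

/-!
# S4484 (helper25), piece (G1): an element of order `p` in the centre of a Sylow `p`-subgroup.
-/

set_option autoImplicit false
set_option linter.unusedVariables false

namespace Cfsg.Agent.Helper34.Bli

/-- (G1) an element of order `p` in the centre of a Sylow `p`-subgroup -/
theorem exists_elt {G : Type*} [Group G] [Finite G] (p : ℕ) [Fact p.Prime] (hp : p ∣ Nat.card G) :
    ∃ y : G, orderOf y = p ∧ ¬ p ∣ (Subgroup.centralizer ({y} : Set G)).index := by
  classical
  obtain ⟨P⟩ : Nonempty (Sylow p G) := inferInstance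
  have hpP : p ∣ Nat.card (P : Subgroup G) := by
    rw [Sylow.card_eq_multiplicity]
    have hpos : Nat.card G ≠ 0 := Nat.card_pos.ne'
    have : 0 < (Nat.card G).factorization p :=
      (Nat.Prime.factorization_pos_of_dvd (Fact.out) hpos hp)
    exact dvd_pow_self p this.ne'
  have hPnt : Nontrivial (P : Subgroup G) := by
    rw [← Finite.one_lt_card_iff_nontrivial]
    have h2 : 2 ≤ p := (Fact.out : p.Prime).two_le
    have := Nat.le_of_dvd Nat.card_pos hpP
    omega
  have hPp : IsPGroup p (P : Subgroup G) := P.isPGroup'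
  have hZnt : Nontrivial (Subgroup.center (P : Subgroup G)) := hPp.center_nontrivial
  have hZp : IsPGroup p (Subgroup.center (P : Subgroup G)) := hPp.to_subgroup _
  have hpZ : p ∣ Nat.card (Subgroup.center (P : Subgroup G)) := by
    obtain ⟨n, hn⟩ := IsPGroup.iff_card.1 hZp
    have h1 : 1 < Nat.card (Subgroup.center (P : Subgroup G)) :=
      Finite.one_lt_card_iff_nontrivial.2 hZnt
    rw [hn] at h1 ⊢
    have hn0 : n ≠ 0 := by
      rintro rfl
      simp at h1
    exact dvd_pow_self p hn0
  obtain ⟨z, hz⟩ := exists_prime_orderOf_dvd_card' p hpZ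
  refine ⟨((z : (P : Subgroup G)) : G), ?_, ?_⟩
  · rw [Subgroup.orderOf_coe, Subgroup.orderOf_coe, hz]
  · have hle : (P : Subgroup G) ≤ Subgroup.centralizer ({((z : (P : Subgroup G)) : G)} : Set G) := by
      intro g hg
      rw [Subgroup.mem_centralizer_iff]
      intro w hw
      rw [Set.mem_singleton_iff] at hw
      subst hw
      have hzc := z.2
      rw [Subgroup.mem_center_iff] at hzc
      have := hzc ⟨g, hg⟩
      have h3 := congrArg (fun u : (P : Subgroup G) => (u : G)) this
      simp only [Subgroup.coe_mul] at h3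
      exact h3.symm
    intro hdiv
    have h1 : (Subgroup.centralizer ({((z : (P : Subgroup G)) : G)} : Set G)).index ∣
        (P : Subgroup G).index := Subgroup.index_dvd_of_le hle
    exact P.not_dvd_index (hdiv.trans h1)

end Cfsg.Agent.Helper34.Bli
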