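import Mathlib

/-!
# S4484 (helper25), piece (G2): pure arithmetic.
-/

set_option autoImplicit false
set_option linter.unusedVariables false

namespace Cfsg.Agent.Helper34.Bli

/-- (G2) -/
theorem gcd_dvd_cofactor (p q a b g₀ n k : ℕ) (hp : p.Prime) (hq : q.Prime)
    (hn : n ∣ p ^ a * q ^ b * g₀) (hqn : ¬ q ∣ n) (hk : k ∣ p ^ a * q ^ b * g₀) (hpk : ¬ p ∣ k) :
    Nat.gcd n k ∣ g₀ := by
  have hdn : Nat.gcd n k ∣ n := Nat.gcd_dvd_left n k
  have hdk : Nat.gcd n k ∣ k := Nat.gcd_dvd_right n k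
  have hqd : ¬ q ∣ Nat.gcd n k := fun h => hqn (h.trans hdn)
  have hpd : ¬ p ∣ Nat.gcd n k := fun h => hpk (h.trans hdk)
  have c1 : Nat.Coprime (Nat.gcd n k) (p ^ a) :=
    Nat.Coprime.pow_right a ((Nat.Prime.coprime_iff_not_dvd hp).2 hpd).symm
  have c2 : Nat.Coprime (Nat.gcd n k) (q ^ b) :=
    Nat.Coprime.pow_right b ((Nat.Prime.coprime_iff_not_dvd hq).2 hqd).symm
  have h1 : Nat.gcd n k ∣ p ^ a * (q ^ b * g₀) := by
    rw [← mul_assoc]; exact hdn.trans hn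
  have h2 : Nat.gcd n k ∣ q ^ b * g₀ := c1.dvd_of_dvd_mul_left h1
  exact c2.dvd_of_dvd_mul_left h2

end Cfsg.Agent.Helper34.Bli
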