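/-
Helper34: piece (D1) exc_values of S3701 (helper3), board #6444.  Main results:
Cfsg.Agent.Helper34.E27D1.exc_values' (minimal hypotheses) and exc_values_of (skeleton form with
(B0), (B6), (B7) as explicit hypotheses in the skeleton's forms).
-/
import Mathlib
import Cfsg.Agent.Helper3.E27Defs

set_option autoImplicit false
set_option linter.unusedVariables false
open Cfsg Finset
open scoped ComplexConjugate

namespace Cfsg.Agent.Helper34.E27D1
open Cfsg.Agent.Helper3.E27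

universe u

set_option maxRecDepth 100000 in
theorem orbit_cases : ∀ u : Vec, u = 0 ∨ (∃ k : Fin 3, ∃ σ ∈ Vs, u = σ * p k) ∨
    (∃ i : Fin 5, ∃ σ ∈ Vs, u = σ * r i) := by decide

set_option maxRecDepth 100000 in
theorem reg_inj : ∀ (i l : Fin 5), ∀ σ ∈ Vs, ∀ σ' ∈ Vs, σ * r i = σ' * r l → i = l ∧ σ = σ' := by
  decide

set_option maxRecDepth 100000 in
theorem p_not_reg : ∀ (k : Fin 3) (l : Fin 5), ∀ σ ∈ Vs, ∀ σ' ∈ Vs, σ * p k ≠ σ' * r l := by
  decide

set_option maxRecDepth 100000 in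
theorem zero_not_reg : ∀ (l : Fin 5), ∀ σ' ∈ Vs, (0 : Vec) ≠ σ' * r l := by decide


/-- (D1) with the other pieces as hypotheses: `hsum` is a consequence of (B0), `hB6` is (B6),
`hB7` is (B7). -/
theorem exc_values' (ζ : ℂ) {G : Type u} [Group G] [Fintype G] {τ : Vec → G}
    (m : Vec → IrrCharacter G → ℕ) (χ : IrrCharacter G) (l : Fin 5) (ε : ℤ)
    (hr : ∀ i : Fin 5, (m (r i) χ : ℤ) - m 0 χ = if i = l then ε else 0)
    (hp : ∀ k : Fin 3, (m (p k) χ : ℤ) - m 0 χ = 0) (v : Vec)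
    (hsum : ∑ u : Vec, lam ζ u v = 0)
    (hB6 : ∀ σ ∈ Vs, ∀ u, m (σ * u) χ = m u χ)
    (hB7 : (χ : G → ℂ) (τ v) = ∑ u : Vec, (m u χ : ℂ) * lam ζ u v) :
    (χ : G → ℂ) (τ v) = (ε : ℂ) * ∑ σ ∈ Vs, lam ζ (σ * r l) v := by
  classical
  have key : ∀ u : Vec, (m u χ : ℂ) =
      (m 0 χ : ℂ) + if u ∈ Vs.image (fun σ => σ * r l) then (ε : ℂ) else 0 := by
    intro u
    rcases orbit_cases u with rfl | ⟨k, σ, hσ, rfl⟩ | ⟨i, σ, hσ, rfl⟩
    · rw [if_neg, add_zero]
      intro hmem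
      obtain ⟨σ', hσ', h⟩ := Finset.mem_image.mp hmem
      exact zero_not_reg l σ' hσ' h.symm
    · rw [if_neg, hB6 σ hσ, add_zero]
      · have h' : m (p k) χ = m 0 χ := by have := hp k; omega
        rw [h']
      · intro hmem
        obtain ⟨σ', hσ', h⟩ := Finset.mem_image.mp hmem
        exact p_not_reg k l σ hσ σ' hσ' h.symm
    · rw [hB6 σ hσ]
      have h1 := hr i
      by_cases hil : i = l
      · subst hil
        rw [if_pos (Finset.mem_image.mpr ⟨σ, hσ, rfl⟩)]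
        rw [if_pos rfl] at h1
        have h2 : (m (r i) χ : ℤ) = m 0 χ + ε := by linarith
        have h3 := congrArg (Int.cast : ℤ → ℂ) h2
        push_cast at h3
        exact h3
      · rw [if_neg hil] at h1
        have h' : m (r i) χ = m 0 χ := by omega
        rw [if_neg, h', add_zero]
        intro hmem
        obtain ⟨σ', hσ', h⟩ := Finset.mem_image.mp hmem
        exact hil (reg_inj i l σ hσ σ' hσ' h.symm).1
  have e : ∀ u ∈ (Finset.univ : Finset Vec), (m u χ : ℂ) * lam ζ u v =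
      (m 0 χ : ℂ) * lam ζ u v +
        (if u ∈ Vs.image (fun σ => σ * r l) then (ε : ℂ) * lam ζ u v else 0) := by
    intro u _
    rw [key u, add_mul, ite_mul, zero_mul]
  rw [hB7, Finset.sum_congr rfl e, Finset.sum_add_distrib, ← Finset.mul_sum, hsum, mul_zero,
    zero_add, ← Finset.sum_filter, Finset.filter_mem_eq_inter, Finset.univ_inter,
    Finset.sum_image, Finset.mul_sum]
  intro σ hσ σ' hσ' h
  exact (reg_inj l l σ hσ σ' hσ' h).2

/-- (D1) in the skeleton's form, with (B0), (B6), (B7) as hypotheses in the skeleton's forms. -/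
theorem exc_values_of (ζ : ℂ) {G : Type u} [Group G] [Fintype G] {T : Subgroup G} {τ : Vec → G}
    {a b : G}
    (hB0 : (∀ u v v' : Vec, lam ζ u (v + v') = lam ζ u v * lam ζ u v') ∧
      (∀ u : Vec, lam ζ u 0 = 1) ∧ (∀ v : Vec, lam ζ 0 v = 1) ∧
      (∀ σ u v : Vec, lam ζ (σ * u) v = lam ζ u (σ * v)) ∧
      (∀ u v : Vec, conj (lam ζ u v) = lam ζ u (-v)) ∧
      (∀ u w : Vec, ∑ v : Vec, lam ζ u v * conj (lam ζ w v) = if u = w then 27 else 0) ∧
      (∀ v v' : Vec, ∑ u : Vec, lam ζ u v * conj (lam ζ u v') = if v = v' then 27 else 0))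
    (h : HCfg T τ a b)
    (m : Vec → IrrCharacter G → ℕ) (hm : IsMult τ ζ m)
    (hB6 : ∀ (σ : Vec) (hσ : σ ∈ Vs) (u : Vec) (χ : IrrCharacter G), m (σ * u) χ = m u χ)
    (hB7 : ∀ (χ : IrrCharacter G) (v : Vec),
      (χ : G → ℂ) (τ v) = ∑ u : Vec, (m u χ : ℂ) * lam ζ u v)
    (χ : IrrCharacter G) (l : Fin 5) (ε : ℤ)
    (hr : ∀ i : Fin 5, (m (r i) χ : ℤ) - m 0 χ = if i = l then ε else 0)
    (hp : ∀ k : Fin 3, (m (p k) χ : ℤ) - m 0 χ = 0) (v : Vec) (hv : v ≠ 0) :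
    (χ : G → ℂ) (τ v) = (ε : ℂ) * ∑ σ ∈ Vs, lam ζ (σ * r l) v := by
  refine exc_values' ζ m χ l ε hr hp v ?_ (fun σ hσ u => hB6 σ hσ u χ) (hB7 χ v)
  obtain ⟨_, h0, _, _, _, _, h7⟩ := hB0
  have := h7 v 0
  rw [if_neg hv] at this
  rw [← this]
  refine Finset.sum_congr rfl fun u _ => ?_
  rw [h0 u, map_one, mul_one]

end Cfsg.Agent.Helper34.E27D1
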