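import Cfsg.Agent.Helper8.GlaubDefs

/-!
Piece (GA5) `ptower_of_G1` of helper8's farm #13388 (S4359).
-/

set_option autoImplicit false

namespace Cfsg.Agent.Helper34.Glaub

open Cfsg.Agent.Helper8.Sims3 Cfsg.Agent.Helper8.Glaub Pointwise

variable {G : Type*} [Group G]

/-- (GA5) the `PTower`, given (GA4).  `U y i t = E P h i 0 = P_i`. -/
theorem ptower_of_G1 [Finite G] {p : ℕ} (hp : p.Prime) {P : Subgroup G} {h : G} (t : ℕ)
    (ht : 1 ≤ t) (hE : ∀ m, m ≤ t → Nat.card ↥(E P h 0 m) = p ^ (t - m))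
    (y0 : G) (hy0 : y0 ≠ 1) (hy0E : y0 ∈ E P h 0 (t - 1))
    (y : ℤ → G) (hy : ∀ k : ℤ, y k = h ^ (k + 1 - t) * y0 * (h ^ (k + 1 - t))⁻¹)
    (hG1 : ∀ (a : ℤ) (m : ℕ), 1 ≤ m → m ≤ t → U y a m = E P h (a + m - t) (t - m)) :
    PTower p t y ∧ ∀ i : ℤ, U y i t = MulAut.conj (h ^ i) • P := by
  refine ⟨⟨?_, ⟨h, ?_⟩⟩, ?_⟩
  · intro a m hm
    rcases Nat.eq_zero_or_pos m with h0 | hpos
    · subst h0
      rw [U_zero]
      simp
    · rw [hG1 a m hpos hm, card_E, hE (t - m) (Nat.sub_le _ _)]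
      congr 1
      omega
  · intro i
    rw [hy (i + 1), hy i]
    have e : i + 1 + 1 - (t : ℤ) = 1 + (i + 1 - t) := by ring
    rw [e, zpow_add, zpow_one]
    group
  · intro i
    rw [hG1 i t ht le_rfl]
    have e : i + (t : ℤ) - (t : ℤ) = i := by ring
    rw [e, Nat.sub_self, E_zero]

end Cfsg.Agent.Helper34.Glaub
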