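import Cfsg.Agent.Helper30.A8Sub.Case5

/-!
# Subgroups of order 720 of `A_8` are the pair stabilizers (piece (CP) of #4031, for S3104)
-/

set_option autoImplicit false
set_option linter.unusedSectionVars false
set_option linter.style.haveILetI false

namespace Cfsg.Agent.Helper34.A8PairStab

open Equiv Equiv.Perm Cfsg.Agent.Helper30.A8Sub

variable {Ω : Type*} [Fintype Ω] [DecidableEq Ω]

/-- A group of even permutations leaving `Δ` invariant has order at most
`|Alt(Δᶜ)| * |Sym(Δ)|`. -/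
theorem card_le_of_inv (H : Subgroup (Perm Ω)) (hH : H ≤ alternatingGroup Ω) (Δ : Finset Ω)
    (hΔ : Inv H Δ) :
    Nat.card ↥H ≤ Nat.card ↥(alternatingGroup {x // x ∈ Δᶜ}) * Nat.card (Perm {x // x ∈ Δ}) := by
  set f := restr H Δ hΔ with hf
  have h1 : Nat.card ↥f.ker * f.ker.index = Nat.card ↥H := Subgroup.card_mul_index _
  have h2 : f.ker.index = Nat.card ↥f.range := Subgroup.index_ker f
  have h3 : Nat.card ↥f.range ≤ Nat.card (Perm {x // x ∈ Δ}) :=
    Nat.card_le_card_of_injective _ Subtype.val_injective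
  have h4 : Nat.card ↥f.ker ≤ Nat.card ↥(alternatingGroup {x // x ∈ Δᶜ}) := by
    have hfixk : ∀ k : ↥f.ker, ∀ x ∉ Δᶜ, k.1.1 x = x := by
      intro k x hx
      rw [Finset.mem_compl, not_not] at hx
      exact mem_ker_restr.1 k.2 x hx
    let φ : ↥f.ker → ↥(alternatingGroup {x // x ∈ Δᶜ}) := fun k =>
      ⟨restr H Δᶜ hΔ.compl k.1, by
        rw [mem_alternatingGroup, sign_restr hΔ.compl k.1 (hfixk k)]
        exact mem_alternatingGroup.1 (hH k.1.2)⟩
    have hφ : Function.Injective φ := by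
      intro k k' hkk
      have h5 : restr H Δᶜ hΔ.compl k.1 = restr H Δᶜ hΔ.compl k'.1 := congrArg Subtype.val hkk
      apply Subtype.ext
      apply Subtype.ext
      ext x
      by_cases hx : x ∈ Δ
      · rw [mem_ker_restr.1 k.2 x hx, mem_ker_restr.1 k'.2 x hx]
      · have hx' : x ∈ Δᶜ := Finset.mem_compl.2 hx
        have := congrArg (fun g : Perm {x // x ∈ Δᶜ} => ((g ⟨x, hx'⟩ : {x // x ∈ Δᶜ}) : Ω)) h5
        simpa using this
    exact Nat.card_le_card_of_injective φ hφ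
  calc Nat.card ↥H = Nat.card ↥f.ker * Nat.card ↥f.range := by rw [← h1, h2]
    _ ≤ _ := Nat.mul_le_mul h4 h3

/-- permutations preserving a finset -/
def stabSet (Δ : Finset Ω) : Subgroup (Perm Ω) where
  carrier := {g | ∀ x, g x ∈ Δ ↔ x ∈ Δ}
  one_mem' := by
    intro x
    simp
  mul_mem' := by
    intro g h hg hh x
    rw [Perm.mul_apply, hg, hh]
  inv_mem' := by
    intro g hg x
    have := hg (g⁻¹ x)
    have hx : g (g⁻¹ x) = x := by simp
    rw [hx] at this
    exact this.symm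

theorem mem_stabSet {Δ : Finset Ω} {g : Perm Ω} : g ∈ stabSet Δ ↔ ∀ x, g x ∈ Δ ↔ x ∈ Δ :=
  Iff.rfl

omit [Fintype Ω] [DecidableEq Ω] in
theorem mem_pair_iff (σ : Perm Ω) {a b a' b' : Ω}
    (h : (σ a = a' ∧ σ b = b') ∨ (σ a = b' ∧ σ b = a')) (y : Ω) :
    (σ y = a' ∨ σ y = b') ↔ (y = a ∨ y = b) := by
  rcases h with ⟨h1, h2⟩ | ⟨h1, h2⟩
  · rw [← h1, ← h2, σ.injective.eq_iff, σ.injective.eq_iff]
  · rw [← h1, ← h2, σ.injective.eq_iff, σ.injective.eq_iff, or_comm]

/-- an even permutation mapping `{a, b}` onto `{a', b'}` -/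
theorem exists_even_map_pair {a b a' b' : Ω} (hab : a ≠ b) (hab' : a' ≠ b') :
    ∃ σ : Perm Ω, sign σ = 1 ∧ ((σ a = a' ∧ σ b = b') ∨ (σ a = b' ∧ σ b = a')) := by
  set τ₁ : Perm Ω := swap a a' with hτ₁
  set b₁ : Ω := τ₁ b with hb₁
  set τ : Perm Ω := swap b₁ b' * τ₁ with hτ
  have h1 : τ₁ a = a' := swap_apply_left a a'
  have hne : a' ≠ b₁ := by
    intro h
    apply hab
    have : τ₁ a = τ₁ b := by rw [h1, h]
    exact τ₁.injective this
  have hτa : τ a = a' := by
    rw [hτ, Perm.mul_apply, h1]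
    exact swap_apply_of_ne_of_ne hne hab'
  have hτb : τ b = b' := by
    rw [hτ, Perm.mul_apply]
    exact swap_apply_left b₁ b'
  by_cases hs : sign τ = 1
  · exact ⟨τ, hs, Or.inl ⟨hτa, hτb⟩⟩
  · have hs' : sign τ = -1 := (Int.units_eq_one_or (sign τ)).resolve_left hs
    refine ⟨swap a' b' * τ, ?_, Or.inr ⟨?_, ?_⟩⟩
    · rw [Perm.sign_mul, sign_swap hab', hs']
      rfl
    · rw [Perm.mul_apply, hτa, swap_apply_left]
    · rw [Perm.mul_apply, hτb, swap_apply_right]

theorem conj_pair_stabilizer_le (H : Subgroup (Perm (Fin 8))) (hH : H ≤ alternatingGroup (Fin 8))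
    (hcard : Nat.card ↥H = 720) (a b : Fin 8) (hab : a ≠ b) :
    ∃ σ ∈ alternatingGroup (Fin 8), ∀ g ∈ alternatingGroup (Fin 8),
      ((g a = a ∧ g b = b) ∨ (g a = b ∧ g b = a)) → σ * g * σ⁻¹ ∈ H := by
  classical
  have : Fact (Nat.Prime 5) := ⟨by norm_num⟩
  have h5 : 5 ∣ Nat.card ↥H := by rw [hcard]; norm_num
  obtain ⟨d', hd'⟩ := exists_prime_orderOf_dvd_card' 5 h5
  have hd : d'.1 ∈ H := d'.2
  have hd5 : orderOf d'.1 = 5 := by rw [Subgroup.orderOf_coe, hd']
  generalize d'.1 = d at hd hd5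
  have hcyc : d.IsCycle :=
    isCycle_of_prime_order' (by rw [hd5]; norm_num) (by rw [hd5]; simp)
  have hsupp : d.support.card = 5 := by rw [← hcyc.orderOf, hd5]
  obtain ⟨s, hs⟩ : d.support.Nonempty := by
    rw [← Finset.card_pos, hsupp]
    norm_num
  have hsub : d.support ⊆ orb H s := by
    intro x hx
    obtain ⟨i, hi⟩ := hcyc.exists_zpow_eq (mem_support.1 hs) (mem_support.1 hx)
    exact mem_orb.2 ⟨d ^ i, H.zpow_mem hd i, hi⟩
  have hge : 5 ≤ (orb H s).card := by
    rw [← hsupp]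
    exact Finset.card_le_card hsub
  have hle : (orb H s).card ≤ 8 := by
    have := Finset.card_le_univ (orb H s)
    rwa [Fintype.card_fin] at this
  have hcardorb := card_orb_mul_card_stab H s
  have hcompl : (orb H s)ᶜ.card = 8 - (orb H s).card := by
    rw [Finset.card_compl, Fintype.card_fin]
  have hΔ := inv_orb H s
  have htrans := orb_transitive H s
  generalize orb H s = Δ at hsub hge hle hcardorb hcompl hΔ htrans
  have hdvd : Δ.card ∣ 720 := by
    rw [← hcard, ← hcardorb]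
    exact dvd_mul_right _ _
  have hne8 : Δ.card ≠ 8 := by
    intro h8
    have huniv : Δ = Finset.univ := by
      rw [← Finset.card_eq_iff_eq_univ, h8, Fintype.card_fin]
    have : MulAction.IsPretransitive ↥H (Fin 8) := by
      refine ⟨fun x y => ?_⟩
      obtain ⟨h, hh, hxy⟩ := htrans x (by rw [huniv]; exact Finset.mem_univ x) y
        (by rw [huniv]; exact Finset.mem_univ y)
      exact ⟨⟨h, hh⟩, hxy⟩
    have h7 := seven_dvd_of_transitive H d hd hd5
    rw [hcard] at h7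
    norm_num at h7
  have hbound := card_le_of_inv H hH Δ hΔ
  have hΔ6 : Δ.card = 6 := by
    have h567 : Δ.card = 5 ∨ Δ.card = 6 ∨ Δ.card = 7 := by omega
    rcases h567 with h | h | h
    · exfalso
      have hc3 : Fintype.card {x // x ∈ Δᶜ} = 3 := by rw [Fintype.card_coe, hcompl, h]
      have hc5 : Fintype.card {x // x ∈ Δ} = 5 := by rw [Fintype.card_coe, h]
      have hA : Nat.card ↥(alternatingGroup {x // x ∈ Δᶜ}) = 3 := by
        haveI : Nontrivial {x // x ∈ Δᶜ} :=
          Fintype.one_lt_card_iff_nontrivial.1 (by rw [hc3]; norm_num)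
        have h2 := two_mul_nat_card_alternatingGroup (α := {x // x ∈ Δᶜ})
        rw [Nat.card_perm, Nat.card_eq_fintype_card (α := {x // x ∈ Δᶜ}), hc3] at h2
        have : Nat.factorial 3 = 6 := rfl
        omega
      have hP : Nat.card (Perm {x // x ∈ Δ}) = 120 := by
        rw [Nat.card_perm, Nat.card_eq_fintype_card, hc5]
        rfl
      rw [hA, hP, hcard] at hbound
      omega
    · exact h
    · exfalso
      rw [h] at hdvd
      norm_num at hdvd
  -- the pair stabilizer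
  set T := alternatingGroup (Fin 8) ⊓ stabSet Δ with hT
  have hHT : H ≤ T := le_inf hH (fun h hh => mem_stabSet.2 (fun x => hΔ.iff hh x))
  have hTinv : Inv T Δ := fun h hh x hx => ((mem_stabSet.1 hh.2) x).2 hx
  have hTbound := card_le_of_inv T inf_le_left Δ hTinv
  have hc2 : Fintype.card {x // x ∈ Δᶜ} = 2 := by rw [Fintype.card_coe, hcompl, hΔ6]
  have hc6 : Fintype.card {x // x ∈ Δ} = 6 := by rw [Fintype.card_coe, hΔ6]
  have hA : Nat.card ↥(alternatingGroup {x // x ∈ Δᶜ}) = 1 := by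
    haveI : Nontrivial {x // x ∈ Δᶜ} :=
      Fintype.one_lt_card_iff_nontrivial.1 (by rw [hc2]; norm_num)
    have h2 := two_mul_nat_card_alternatingGroup (α := {x // x ∈ Δᶜ})
    rw [Nat.card_perm, Nat.card_eq_fintype_card (α := {x // x ∈ Δᶜ}), hc2] at h2
    have : Nat.factorial 2 = 2 := rfl
    omega
  have hP : Nat.card (Perm {x // x ∈ Δ}) = 720 := by
    rw [Nat.card_perm, Nat.card_eq_fintype_card, hc6]
    rfl
  rw [hA, hP, one_mul] at hTbound
  have hHeq : H = T := Subgroup.eq_of_le_of_card_ge hHT (by rw [hcard]; exact hTbound)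
  -- the two points outside `Δ`
  obtain ⟨a', b', hab', hΔc⟩ := Finset.card_eq_two.1 (by rw [hcompl, hΔ6] : Δᶜ.card = 2)
  have hmemc : ∀ x, x ∈ Δ ↔ ¬ (x = a' ∨ x = b') := by
    intro x
    have : x ∈ Δᶜ ↔ (x = a' ∨ x = b') := by
      rw [hΔc]
      simp
    rw [← this, Finset.mem_compl, not_not]
  obtain ⟨σ, hσs, hσ⟩ := exists_even_map_pair hab hab'
  refine ⟨σ, mem_alternatingGroup.2 hσs, ?_⟩
  intro g hg hgab
  rw [hHeq, hT]
  refine Subgroup.mem_inf.2 ⟨?_, ?_⟩
  · exact Subgroup.mul_mem _ (Subgroup.mul_mem _ (mem_alternatingGroup.2 hσs) hg)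
      (Subgroup.inv_mem _ (mem_alternatingGroup.2 hσs))
  · rw [mem_stabSet]
    intro x
    rw [hmemc, hmemc, not_iff_not]
    have e1 := mem_pair_iff σ hσ (g (σ⁻¹ x))
    have e2 := mem_pair_iff g hgab (σ⁻¹ x)
    have e3 := mem_pair_iff σ hσ (σ⁻¹ x)
    have hx : σ (σ⁻¹ x) = x := by simp
    rw [hx] at e3
    rw [Perm.mul_apply, Perm.mul_apply, e1, e2, ← e3]

end Cfsg.Agent.Helper34.A8PairStab
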