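import Cfsg.Agent.Helper34.KInfQuadMain
import Cfsg.Agent.Lib.ZJ5
import Cfsg.Agent.Helper47.PReduced
import Cfsg.Prelude.Def_LocalEven

/-!
# A quadratic, nontrivial action on a chief factor refutes `p`-stability of a quotient

* `pCore_quotient_centralizer_eq_bot`: `O_p(H / C_H(P)) = 1` for a minimal normal `p`-subgroup `P`;
* `not_isNormalizerPStable_of_chief`: if `g` acts quadratically and nontrivially on the `p`-chief
  factor `U / V` then `G ⧸ V` is not `p`-stable in the normalizer form;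
* `exists_not_isNormalizerPStable`: Glauberman: `C_G(O_p(G)) ≤ O_p(G)` and a K-infinity subgroup not
  normal give a quotient that is not `p`-stable.
-/

set_option autoImplicit false
set_option linter.style.haveILetI false

open scoped commutatorElement

universe u

namespace Cfsg.Agent.Helper34.KQ

/-- For a minimal normal `p`-subgroup `P` of a finite group `H`: `O_p(H / C_H(P)) = 1`. -/
theorem pCore_quotient_centralizer_eq_bot {H : Type*} [Group H] [Finite H] {p : ℕ} [Fact p.Prime]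
    (P : Subgroup H) [hPn : P.Normal] (hPp : IsPGroup p P) (hP0 : P ≠ ⊥)
    (hmin : ∀ N : Subgroup H, N.Normal → N ≤ P → N = ⊥ ∨ N = P) :
    Cfsg.pCore p (H ⧸ Subgroup.centralizer (P : Set H)) = ⊥ := by
  rw [Cfsg.Agent.Helper47.pCore_quotient_eq_bot_iff]
  intro D hD hDp
  obtain ⟨ρ, hρ⟩ : ∃ ρ : H →* MulAut ↥P, ρ = MulAut.conjNormal := ⟨_, rfl⟩
  have hρapp : ∀ (d : H) (x : ↥P), ((ρ d x : ↥P) : H) = d * x * d⁻¹ := by
    intro d x
    rw [hρ]
    exact MulAut.conjNormal_apply d x
  have hIm : IsPGroup p (D.map ρ) := by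
    rintro ⟨_, d, hd, rfl⟩
    obtain ⟨k, hk⟩ := hDp d hd
    refine ⟨k, Subtype.ext ?_⟩
    show (ρ d) ^ (p ^ k) = 1
    rw [← map_pow]
    ext x
    rw [hρapp, MulAut.one_apply]
    have := Subgroup.mem_centralizer_iff.mp hk x x.2
    rw [← this]
    group
  have hcard : p ∣ Nat.card ↥P := by
    obtain ⟨n, hn⟩ := IsPGroup.iff_card.mp hPp
    cases n with
    | zero =>
      exfalso
      apply hP0
      rw [pow_zero] at hn
      exact Subgroup.card_eq_one.mp hn
    | succ n =>
      rw [hn, pow_succ]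
      exact dvd_mul_left p _
  have hfix1 : (1 : ↥P) ∈ MulAction.fixedPoints ↥(D.map ρ) ↥P := by
    intro φ
    show (φ : MulAut ↥P) • (1 : ↥P) = 1
    rw [MulAut.smul_def, map_one]
  obtain ⟨b, hb, hb1⟩ := hIm.exists_fixed_point_of_prime_dvd_card_of_fixed_point ↥P hcard hfix1
  haveI := hD
  have hKn : (P ⊓ Subgroup.centralizer (D : Set H)).Normal := inferInstance
  have hbK : (b : H) ∈ P ⊓ Subgroup.centralizer (D : Set H) := by
    refine Subgroup.mem_inf.mpr ⟨b.2, ?_⟩
    rw [Subgroup.mem_centralizer_iff]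
    intro d hd
    have h1 : (⟨ρ d, d, hd, rfl⟩ : ↥(D.map ρ)) • b = b := hb ⟨ρ d, d, hd, rfl⟩
    have h2 : d * (b : H) * d⁻¹ = b := by
      rw [← hρapp d b]
      exact congrArg Subtype.val h1
    calc d * (b : H) = (d * b * d⁻¹) * d := by group
      _ = b * d := by rw [h2]
  rcases hmin _ hKn inf_le_left with hK | hK
  · exfalso
    apply hb1
    have h3 : (b : H) ∈ (⊥ : Subgroup H) := hK ▸ hbK
    exact Subtype.ext (Subgroup.mem_bot.mp h3).symm
  · have hPD : P ≤ Subgroup.centralizer (D : Set H) := by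
      rw [← hK]; exact inf_le_right
    intro d hd
    rw [Subgroup.mem_centralizer_iff]
    intro x hx
    exact (Subgroup.mem_centralizer_iff.mp (hPD hx) d hd).symm

variable {G : Type*} [Group G] [Finite G] {p : ℕ} [hp : Fact p.Prime]

/-- If `g` acts quadratically and nontrivially on the `p`-chief factor `U / V`, then `G ⧸ V` is not
`p`-stable in the normalizer form. -/
theorem not_isNormalizerPStable_of_chief {U V : Subgroup G} (hUV : Cfsg.IsChiefFactor U V)
    (hUp : IsPGroup p U) [hVn : V.Normal] (g : G)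
    (h3 : ⁅⁅U, Subgroup.zpowers g⁆, Subgroup.zpowers g⁆ ≤ V)
    (h4 : ¬ ⁅U, Subgroup.zpowers g⁆ ≤ V) : ¬ Cfsg.IsNormalizerPStable p (G ⧸ V) := by
  intro hst
  obtain ⟨hlt, hUn, -, hmax⟩ := hUV
  obtain ⟨π, hπ⟩ : ∃ π : G →* G ⧸ V, π = QuotientGroup.mk' V := ⟨_, rfl⟩
  have hπs : Function.Surjective π := hπ ▸ QuotientGroup.mk'_surjective V
  have hker : π.ker = V := by rw [hπ]; exact QuotientGroup.ker_mk' V
  obtain ⟨P, hP⟩ : ∃ P : Subgroup (G ⧸ V), P = U.map π := ⟨_, rfl⟩
  haveI hPn : P.Normal := hP ▸ Subgroup.Normal.map hUn π hπs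
  have hPp : IsPGroup p P := hP ▸ hUp.map π
  have hcomapU : (U.map π).comap π = U := by
    rw [Subgroup.comap_map_eq, hker, sup_eq_left.mpr hlt.le]
  have hP0 : P ≠ ⊥ := by
    intro h
    rw [hP, Subgroup.map_eq_bot_iff, hker] at h
    exact absurd h (not_le_of_gt hlt)
  have hmin : ∀ N : Subgroup (G ⧸ V), N.Normal → N ≤ P → N = ⊥ ∨ N = P := by
    intro N hN hNP
    have hN' : N = (N.comap π).map π := (Subgroup.map_comap_eq_self_of_surjective hπs N).symm
    have h1 : V ≤ N.comap π := by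
      intro v hv
      rw [Subgroup.mem_comap]
      have h6 : π v = 1 := by
        rw [hπ]; exact (QuotientGroup.eq_one_iff v).mpr hv
      rw [h6]
      exact N.one_mem
    have h2 : N.comap π ≤ U := by
      rw [← hcomapU, ← hP]
      exact Subgroup.comap_mono hNP
    rcases hmax (N.comap π) (hN.comap π) h1 h2 with h5 | h5
    · left
      rw [hN', h5, Subgroup.map_eq_bot_iff, hker]
    · right
      rw [hN', h5, hP]
  have hcore := pCore_quotient_centralizer_eq_bot P hPp hP0 hmin
  have hquad : ⁅⁅P, Subgroup.zpowers (π g)⁆, Subgroup.zpowers (π g)⁆ = ⊥ := by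
    rw [hP, ← MonoidHom.map_zpowers, ← Subgroup.map_commutator, ← Subgroup.map_commutator,
      Subgroup.map_eq_bot_iff, hker]
    exact h3
  have htop : Subgroup.normalizer ((P : Subgroup (G ⧸ V)) : Set (G ⧸ V)) = ⊤ :=
    Subgroup.normalizer_eq_top_iff.mpr hPn
  have hgN : π g ∈ Subgroup.normalizer ((P : Subgroup (G ⧸ V)) : Set (G ⧸ V)) := by
    rw [htop]; exact Subgroup.mem_top _
  have hmem := hst P hPp (π g) hgN hquad
  have hmem' := Cfsg.Agent.Lib.ZJ.mem_pCore_quotient_centralizer_map (MonoidHom.id (G ⧸ V)) P P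
    (Subgroup.map_id P) (fun h => ⟨h, by rw [htop]; exact Subgroup.mem_top _, rfl⟩) (π g) hgN hmem
  rw [hcore, Subgroup.mem_bot, MonoidHom.id_apply, QuotientGroup.eq_one_iff] at hmem'
  apply h4
  have h7 : ⁅U, Subgroup.zpowers g⁆ ≤ π.ker := by
    rw [← Subgroup.map_eq_bot_iff, Subgroup.map_commutator, MonoidHom.map_zpowers, ← hP,
      Subgroup.commutator_comm, Subgroup.commutator_eq_bot_iff_le_centralizer, Subgroup.zpowers_le]
    exact hmem'
  exact h7.trans hker.le

end Cfsg.Agent.Helper34.KQ
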