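import Mathlib
import Cfsg.Agent.Helper29.BG10A
import Cfsg.Agent.Helper1.SZ
import Cfsg.Agent.Helper62.CoprimeHall
import Cfsg.Agent.Helper71.BGHall

/-!
Piece (S2) of the sigma-partition argument (B-G 13.9): two subgroups of distinct prime orders
`t`, `u` of a solvable group `C` whose `t`- and `u`-subgroups are all cyclic; after conjugation in
`C` one of them normalizes the other.
-/

set_option autoImplicit false

namespace Cfsg.Agent.Helper34.BGSigmaS2

open Cfsg Cfsg.Agent.Helper29 Cfsg.Agent.Helper29.BG10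

variable {G : Type*} [Group G] [Finite G]

/-- in a cyclic subgroup `K`, the elements with `x ^ t = 1` lie in any subgroup of order `t` -/
theorem mem_of_pow_eq_one_of_isCyclic {K Y : Subgroup G} (hK : IsCyclic ↥K) (hYK : Y ≤ K) {t : ℕ}
    (ht : 0 < t) (hYc : Nat.card Y = t) {x : G} (hxK : x ∈ K) (hx : x ^ t = 1) : x ∈ Y := by
  classical
  haveI : Fintype ↥K := Fintype.ofFinite _
  have hF : (Finset.univ.filter (fun a : ↥K => a ^ t = 1)).card ≤ t :=
    IsCyclic.card_pow_eq_one_le ht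
  have hsub : Finset.univ.filter (fun a : ↥K => a ∈ Y.subgroupOf K) ⊆
      Finset.univ.filter (fun a : ↥K => a ^ t = 1) := by
    intro a ha
    rw [Finset.mem_filter] at ha ⊢
    refine ⟨Finset.mem_univ _, ?_⟩
    have haY : (a : G) ∈ Y := Subgroup.mem_subgroupOf.mp ha.2
    have h1 : (⟨(a : G), haY⟩ : Y) ^ Nat.card Y = 1 := pow_card_eq_one'
    rw [hYc] at h1
    have h2 : ((a : G)) ^ t = 1 := by
      have := congrArg Subtype.val h1
      simpa using this
    apply Subtype.ext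
    simpa using h2
  have hcard : (Finset.univ.filter (fun a : ↥K => a ∈ Y.subgroupOf K)).card = t := by
    rw [← Fintype.card_subtype, ← Nat.card_eq_fintype_card]
    have : Nat.card {a : ↥K // a ∈ Y.subgroupOf K} = Nat.card ↥(Y.subgroupOf K) := rfl
    rw [this, Cfsg.Agent.Helper1.card_subgroupOf_of_le hYK, hYc]
  have heq := Finset.eq_of_subset_of_card_le hsub (by rw [hcard]; exact hF)
  have hxF : (⟨x, hxK⟩ : ↥K) ∈ Finset.univ.filter (fun a : ↥K => a ^ t = 1) := by
    rw [Finset.mem_filter]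
    refine ⟨Finset.mem_univ _, ?_⟩
    apply Subtype.ext
    simpa using hx
  rw [← heq, Finset.mem_filter] at hxF
  exact Subgroup.mem_subgroupOf.mp hxF.2

/-- a subgroup of prime order `t` of `J` is normal in `J` as soon as `J` has a nontrivial normal
`t`-subgroup and the `t`-subgroups of the ambient `C` are cyclic -/
theorem le_normalizer_of_normal_pgroup {C J N Y : Subgroup G} {t : ℕ} (ht : t.Prime)
    (hJC : J ≤ C) (hNJ : N ≤ J) (hJN : J ≤ Subgroup.normalizer (N : Set G)) (hN1 : N ≠ ⊥)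
    (hNt : IsPGroup t N) (hYJ : Y ≤ J) (hYc : Nat.card Y = t)
    (hct : ∀ Q : Subgroup G, Q ≤ C → IsPGroup t Q → IsCyclic Q) :
    J ≤ Subgroup.normalizer (Y : Set G) := by
  classical
  haveI : Fact t.Prime := ⟨ht⟩
  have hYt : IsPGroup t Y := IsPGroup.of_card (n := 1) (by rw [hYc, pow_one])
  -- `Y ⊔ N` is a cyclic `t`-group
  have hYnN : Y ≤ Subgroup.normalizer (N : Set G) := hYJ.trans hJN
  have hKt : IsPGroup t ↥(Y ⊔ N) := IsPGroup.to_sup_of_normal_right' hYt hNt hYnN
  have hKC : Y ⊔ N ≤ C := sup_le (hYJ.trans hJC) (hNJ.trans hJC)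
  have hKcyc : IsCyclic ↥(Y ⊔ N) := hct _ hKC hKt
  have hNcyc : IsCyclic ↥N := hct _ (hNJ.trans hJC) hNt
  -- an element of order `t` in `N`
  have hdvd : t ∣ Nat.card ↥N := by
    rcases hNt.card_eq_or_dvd with h | h
    · exact absurd (Subgroup.card_eq_one.mp h) hN1
    · exact h
  obtain ⟨n, hn⟩ := exists_prime_orderOf_dvd_card' t hdvd
  have hn1 : (n : G) ≠ 1 := by
    intro h
    have : n = 1 := Subtype.ext h
    rw [this, orderOf_one] at hn
    exact ht.one_lt.ne hn
  have hnt : (n : G) ^ t = 1 := by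
    have h1 : n ^ t = 1 := by
      have := pow_orderOf_eq_one n
      rwa [hn] at this
    have := congrArg Subtype.val h1
    simpa using this
  have hnY : (n : G) ∈ Y :=
    mem_of_pow_eq_one_of_isCyclic hKcyc le_sup_left ht.pos hYc
      ((le_sup_right : N ≤ Y ⊔ N) n.2) hnt
  -- `Y ≤ N`
  have hYN : Y ≤ N := by
    have hne : (⟨(n : G), hnY⟩ : Y) ≠ 1 := by
      intro h
      exact hn1 (congrArg Subtype.val h)
    have htop : Subgroup.zpowers (⟨(n : G), hnY⟩ : Y) = ⊤ :=
      zpowers_eq_top_of_prime_card hYc hne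
    intro y hy
    have hy' : (⟨y, hy⟩ : Y) ∈ Subgroup.zpowers (⟨(n : G), hnY⟩ : Y) := by
      rw [htop]; trivial
    obtain ⟨k, hk⟩ := Subgroup.mem_zpowers_iff.mp hy'
    have hk' : (n : G) ^ k = y := by
      have := congrArg Subtype.val hk
      simpa using this
    rw [← hk']
    exact N.zpow_mem n.2 k
  -- conjugates of elements of `Y` by `J` stay in `Y`
  have hconj : ∀ j ∈ J, ∀ y ∈ Y, j * y * j⁻¹ ∈ Y := by
    intro j hj y hy
    have hyN : j * y * j⁻¹ ∈ N := by
      have := (Subgroup.mem_normalizer_iff.mp (hJN hj)) y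
      exact this.mp (hYN hy)
    have hyt : (j * y * j⁻¹) ^ t = 1 := by
      rw [conj_pow]
      have h1 : (⟨y, hy⟩ : Y) ^ Nat.card Y = 1 := pow_card_eq_one'
      rw [hYc] at h1
      have h2 : y ^ t = 1 := by
        have := congrArg Subtype.val h1
        simpa using this
      rw [h2]
      group
    exact mem_of_pow_eq_one_of_isCyclic hNcyc hYN ht.pos hYc hyN hyt
  intro j hj
  rw [Subgroup.mem_normalizer_iff]
  intro y
  constructor
  · intro hy
    exact hconj j hj y hy
  · intro hy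
    have := hconj j⁻¹ (J.inv_mem hj) _ hy
    have h2 : j⁻¹ * (j * y * j⁻¹) * j⁻¹⁻¹ = y := by group
    rwa [h2] at this

/-- (S2): after conjugation in `C`, one of `Y`, `Z` normalizes the other -/
theorem exists_cj_le_normalizer {C Y Z : Subgroup G} {t u : ℕ} (ht : t.Prime) (hu : u.Prime)
    (htu : t ≠ u) (hsolv : Group.IsSolvable ↥C) (hYC : Y ≤ C) (hZC : Z ≤ C)
    (hYc : Nat.card Y = t) (hZc : Nat.card Z = u)
    (hct : ∀ Q : Subgroup G, Q ≤ C → IsPGroup t Q → IsCyclic Q)
    (hcu : ∀ Q : Subgroup G, Q ≤ C → IsPGroup u Q → IsCyclic Q) :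
    ∃ c ∈ C, cj c Z ≤ Subgroup.normalizer (Y : Set G) ∨
      cj c Y ≤ Subgroup.normalizer (Z : Set G) := by
  classical
  haveI := hsolv
  have hπY : ∀ p : ℕ, p.Prime → p ∣ Nat.card Y → p ∈ ({t, u} : Set ℕ) := by
    intro p hp hd
    rw [hYc] at hd
    exact Or.inl ((Nat.prime_dvd_prime_iff_eq hp ht).mp hd)
  have hπZ : ∀ p : ℕ, p.Prime → p ∣ Nat.card Z → p ∈ ({t, u} : Set ℕ) := by
    intro p hp hd
    rw [hZc] at hd
    exact Or.inr ((Nat.prime_dvd_prime_iff_eq hp hu).mp hd)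
  obtain ⟨J, hJ, hYJ⟩ := Cfsg.Agent.Helper71.BGHall.exists_isPiHallOf_ge ({t, u} : Set ℕ) C hYC hπY
  obtain ⟨J', hJ', hZJ'⟩ :=
    Cfsg.Agent.Helper71.BGHall.exists_isPiHallOf_ge ({t, u} : Set ℕ) C hZC hπZ
  obtain ⟨g, hgC, hg⟩ := Cfsg.Agent.Helper62.isPiHallOf_conj_of_solvable hJ' hJ
  have hJC : J ≤ C := hJ.1
  -- the conjugate of `Z` inside `J`
  have hZ1J : cj g Z ≤ J := by
    intro x hx
    rw [mem_cj] at hx
    have hx' : g⁻¹ * x * g ∈ J' := hZJ' hx
    rw [← hg, Subgroup.mem_pointwise_smul_iff_inv_smul_mem]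
    simpa [MulAut.smul_def, MulAut.conj_inv_apply] using hx'
  have hZ1c : Nat.card ↥(cj g Z) = u := by rw [card_cj, hZc]
  -- a nontrivial normal `p`-subgroup of `J`
  haveI : Group.IsSolvable ↥J :=
    solvable_of_solvable_injective (Subgroup.inclusion_injective hJC)
  have hJ1 : J ≠ ⊥ := by
    intro h
    have hY1 : Y = ⊥ := le_bot_iff.mp (h ▸ hYJ)
    rw [hY1] at hYc
    have : Nat.card ↥(⊥ : Subgroup G) = 1 := Subgroup.card_bot
    rw [this] at hYc
    exact ht.one_lt.ne hYc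
  haveI : Nontrivial ↥J := (Subgroup.nontrivial_iff_ne_bot J).mpr hJ1
  obtain ⟨p, hp, R, hRn, hR1, hRp⟩ := Cfsg.Agent.Helper1.exists_normal_pSubgroup ↥J
  haveI := hRn
  haveI : Fact p.Prime := ⟨hp⟩
  have hNJ : R.map J.subtype ≤ J := Subgroup.map_subtype_le R
  have hJN : J ≤ Subgroup.normalizer ((R.map J.subtype : Subgroup G) : Set G) := by
    have h1 : (Subgroup.normalizer ((R : Subgroup ↥J) : Set ↥J)).map J.subtype ≤
        Subgroup.normalizer ((R.map J.subtype : Subgroup G) : Set G) :=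
      Subgroup.le_normalizer_map J.subtype
    rw [Subgroup.normalizer_eq_top] at h1
    have h2 : (⊤ : Subgroup ↥J).map J.subtype = J := by
      rw [← MonoidHom.range_eq_map, Subgroup.range_subtype]
    rwa [h2] at h1
  have hN1 : R.map J.subtype ≠ ⊥ :=
    (Subgroup.map_eq_bot_iff_of_injective R J.subtype_injective).not.mpr hR1
  have hNp : IsPGroup p ↥(R.map J.subtype) := hRp.map J.subtype
  have hpJ : p ∣ Nat.card ↥J := by
    have h1 : p ∣ Nat.card ↥R := by
      rcases hRp.card_eq_or_dvd with h | h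
      · exact absurd (Subgroup.card_eq_one.mp h) hR1
      · exact h
    exact h1.trans (Subgroup.card_subgroup_dvd_card R)
  have hptu : p = t ∨ p = u := hJ.2.1 p hp hpJ
  rcases hptu with rfl | rfl
  · -- `J` normalizes `Y`
    have h := le_normalizer_of_normal_pgroup hp hJC hNJ hJN hN1 hNp hYJ hYc hct
    exact ⟨g, hgC, Or.inl (hZ1J.trans h)⟩
  · -- `J` normalizes the conjugate of `Z`
    have h := le_normalizer_of_normal_pgroup hp hJC hNJ hJN hN1 hNp hZ1J hZ1c hcu
    refine ⟨g⁻¹, C.inv_mem hgC, Or.inr ?_⟩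
    have h2 : Y ≤ cj g (Subgroup.normalizer (Z : Set G)) := by
      rw [← normalizer_cj]
      exact hYJ.trans h
    rw [cj_le_iff, inv_inv]
    exact h2

end Cfsg.Agent.Helper34.BGSigmaS2
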