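/-
Helper34: piece (COV) of S4184 (helper35), board #6717.
-/
import Mathlib
import Cfsg.Agent.Helper67.Conj
import Cfsg.Agent.Helper76.ClassSizeSylow

set_option autoImplicit false

namespace Cfsg.Agent.Helper34.ChenCov

open Subgroup

theorem not_dvd_card_of_forall_not_dvd_index {G : Type*} [Group G] [Finite G]
    (hZ : center G = ⊥) (s : ℕ) [Fact s.Prime]
    (h : ∀ g : G, ¬ s ∣ (centralizer ({g} : Set G)).index) : ¬ s ∣ Nat.card G := by
  classical
  obtain ⟨S₀⟩ : Nonempty (Sylow s G) := inferInstance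
  have htop : centralizer ((S₀ : Subgroup G) : Set G) = ⊤ := by
    apply Cfsg.Agent.Helper67.eq_top_of_forall_exists_conj_mem
    intro g
    obtain ⟨S, hS⟩ := Cfsg.Agent.Helper76.exists_sylow_le_of_not_dvd_index'
      (centralizer ({g} : Set G)) (h g)
    obtain ⟨c, hc⟩ := MulAction.exists_smul_eq G S S₀
    refine ⟨c, ?_⟩
    rw [mem_centralizer_iff]
    intro y hy
    -- y ∈ S₀ = c • S, so c⁻¹ y c ∈ S ≤ C(g)
    have hy' : y ∈ ((c • S : Sylow s G) : Subgroup G) := by rw [hc]; exact hy
    rw [Sylow.coe_subgroup_smul, Subgroup.mem_pointwise_smul_iff_inv_smul_mem] at hy'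
    have hzg := hS hy'
    rw [mem_centralizer_iff] at hzg
    have hzg' := hzg g (Set.mem_singleton g)
    simp only [MulAut.smul_def, ← map_inv, MulAut.conj_apply, inv_inv] at hzg'
    -- hzg' : g * (c⁻¹ * y * c) = c⁻¹ * y * c * g
    calc y * (c * g * c⁻¹) = c * ((c⁻¹ * y * c) * g) * c⁻¹ := by group
      _ = c * (g * (c⁻¹ * y * c)) * c⁻¹ := by rw [hzg']
      _ = c * g * c⁻¹ * y := by group
  have hle : (S₀ : Subgroup G) ≤ center G := by
    intro y hy
    rw [mem_center_iff]
    intro g
    have hg : g ∈ centralizer ((S₀ : Subgroup G) : Set G) := by rw [htop]; trivial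
    rw [mem_centralizer_iff] at hg
    exact (hg y hy).symm
  rw [hZ, le_bot_iff] at hle
  have hcard : Nat.card (S₀ : Subgroup G) = 1 := by rw [hle]; exact Subgroup.card_bot
  rw [Sylow.card_eq_multiplicity] at hcard
  intro hdvd
  have hpos : 0 < (Nat.card G).factorization s :=
    (Nat.Prime.factorization_pos_of_dvd (Fact.out : s.Prime) Nat.card_pos.ne' hdvd)
  have : 1 < s ^ (Nat.card G).factorization s :=
    Nat.one_lt_pow hpos.ne' (Fact.out : s.Prime).one_lt
  omega

end Cfsg.Agent.Helper34.ChenCov
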