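import Mathlib
import Cfsg.Agent.Helper45.EllDefs
import Cfsg.Agent.Helper94.TpD
import Cfsg.Agent.Helper45.OmegaParity

/-!
# (EB) of S5988: involutions of `Ω⁺_{2d}(q)`, `q` odd, fix elliptic `2e`-spaces  (helper34)

For an involution `g ∈ Ω`, both eigenspaces are nondegenerate of even dimension (the parity
homomorphism of helper45 kills the commutator subgroup), the larger one has dimension `≥ d > 2e`,
and so contains a nondegenerate `2e`-space of type `-1`, which is invariant.
-/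

set_option autoImplicit false
set_option linter.unusedSectionVars false

namespace Cfsg.Agent.Helper34.Ell

open Module Polynomial
open Cfsg.Agent.Helper59.InvChain Cfsg.Agent.Helper59.Elusive
open Cfsg.Agent.Helper99.SpStruct Cfsg.Agent.Helper99.RDecomp
open Cfsg.Agent.Helper44 Cfsg.Agent.Helper44.QType
open Cfsg.Agent.Helper99.QSp
open Cfsg.Agent.Helper45.Ell

universe u v

variable {F : Type u} [Field F] [Fintype F]
variable {V : Type v} [AddCommGroup V] [Module F V] [FiniteDimensional F V]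

/-- the fixed space of helper14 is the fixed space of helper59 -/
theorem fixSpace_eq_fixSp (y : Module.End F V) :
    Cfsg.Agent.Helper14.fixSpace y = fixSp y := by
  ext v
  rw [Cfsg.Agent.Helper14.mem_fixSpace, mem_fixSp]

/-- (EB) -/
theorem invol_goodE (h2 : (2 : F) ≠ 0) (d : ℕ) (hd : 3 ≤ d) {e : ℕ} (he : 1 ≤ e) (hed : 2 * e < d)
    (g : ↥(Cfsg.isometryGroup F (Cfsg.quadFormPlus d F)))
    (hgΩ : g ∈ Cfsg.Omega F (Cfsg.quadFormPlus d F))
    (hgg : ((g : GL (Fin d ⊕ Fin d) F) : Matrix (Fin d ⊕ Fin d) (Fin d ⊕ Fin d) F) *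
      ((g : GL (Fin d ⊕ Fin d) F) : Matrix (Fin d ⊕ Fin d) (Fin d ⊕ Fin d) F) = 1) :
    GoodE F d (2 * e)
      ((g : GL (Fin d ⊕ Fin d) F) : Matrix (Fin d ⊕ Fin d) (Fin d ⊕ Fin d) F) := by
  classical
  set A := ((g : GL (Fin d ⊕ Fin d) F) : Matrix (Fin d ⊕ Fin d) (Fin d ⊕ Fin d) F) with hA
  have hnd := nondegenerate_plusForm (F := F) d
  have hiso : ∀ v, plusForm d F (Matrix.toLin' A v) = plusForm d F v :=
    fun v => Cfsg.Agent.Helper94.Ts.toLin_iso g v
  have hS : Cfsg.Agent.Helper94.Ts.InvolSetup (pB (plusForm d F)) (Matrix.toLin' A) :=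
    { symm := pB_symm _
      nondeg := hnd
      two_ne := h2
      isom := isom_pB hiso
      sq := by
        intro v
        rw [← LinearMap.comp_apply, ← Matrix.toLin'_mul, hgg, Matrix.toLin'_one]
        rfl }
  -- the parity of the fixed space
  have hcard : Fintype.card (Fin d ⊕ Fin d) ≠ 4 := by
    rw [Fintype.card_sum, Fintype.card_fin]; omega
  have hker : (Cfsg.Agent.Helper45.OmegaParity.parityHom (plusForm d F) hnd (Or.inr hcard)) g = 1 :=
    MonoidHom.mem_ker.mp (Abelianization.commutator_subset_ker _ hgΩ)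
  have hpar : ((Cfsg.Agent.Helper45.OmegaParity.fixD (plusForm d F) g : ℕ) : ZMod 2) +
      ((Fintype.card (Fin d ⊕ Fin d) : ℕ) : ZMod 2) = 0 := by
    have := congrArg Multiplicative.toAdd hker
    exact this
  have hfixD : Cfsg.Agent.Helper45.OmegaParity.fixD (plusForm d F) g =
      finrank F ↥(fixSp (Matrix.toLin' A)) := by
    unfold Cfsg.Agent.Helper45.OmegaParity.fixD
    rw [fixSpace_eq_fixSp]
    rfl
  rw [hfixD, ← Nat.cast_add, ZMod.natCast_eq_zero_iff_even, Fintype.card_sum,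
    Fintype.card_fin] at hpar
  have hadd := hS.finrank_add
  rw [Cfsg.Agent.Helper99.QSpMain.finrank_pV] at hadd
  have hfix_even : Even (finrank F ↥(fixSp (Matrix.toLin' A))) := by
    rcases hpar with ⟨k, hk⟩
    rw [Nat.even_iff]; omega
  have hneg_even : Even (finrank F ↥(Cfsg.Agent.Helper94.Ts.negSp (Matrix.toLin' A))) := by
    rcases hfix_even with ⟨k, hk⟩
    rw [Nat.even_iff]; omega
  obtain ⟨a, ha⟩ := hfix_even
  obtain ⟨b, hb⟩ := hneg_even
  by_cases hab : b ≤ a
  · -- the fixed space is the larger one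
    obtain ⟨W, hWle, hWnd, hWdim, hWty⟩ :=
      Cfsg.Agent.Helper99.QSpGlue.exists_typed_sub (plusForm d F) hS.nd_fix (g := a) (t := e)
        (by rw [ha]; ring) (by omega) (-1) (Or.inr ⟨rfl, by omega⟩)
    exact ⟨W, hWdim, hWnd, (not_hyp_iff_qType _ hWnd hWdim).mpr hWty, inv_of_le_fixSp hWle⟩
  · obtain ⟨W, hWle, hWnd, hWdim, hWty⟩ :=
      Cfsg.Agent.Helper99.QSpGlue.exists_typed_sub (plusForm d F) hS.nd_neg (g := b) (t := e)
        (by rw [hb]; ring) (by omega) (-1) (Or.inr ⟨rfl, by omega⟩)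
    exact ⟨W, hWdim, hWnd, (not_hyp_iff_qType _ hWnd hWdim).mpr hWty,
      Cfsg.Agent.Helper94.Ts.inv_of_le_negSp hWle⟩

end Cfsg.Agent.Helper34.Ell
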