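import Mathlib

/-!
# The transfer on a normal subgroup contained in the target (helper34)

For `ϕ : H →* A` (`A` commutative), `N ≤ H` normal in `G` and `x ∈ N`, the transfer of `x` is the
product over the cosets `rH` of `ϕ (r⁻¹ x r)`.  We package the factors as `cq ϕ x : G ⧸ H → A`
and record its multiplicativity in `x` and equivariance.
-/

set_option autoImplicit false

namespace Cfsg.Agent.Helper34

open Subgroup MulAction

section transferCore

variable {G : Type*} [Group G] {H : Subgroup G} {A : Type*} [CommGroup A] (ϕ : H →* A)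

open Classical in
/-- The value of `ϕ` at `r⁻¹ x r` (and `1` if this is not in `H`). -/
noncomputable def conjVal (x r : G) : A :=
  if h : r⁻¹ * x * r ∈ H then ϕ ⟨r⁻¹ * x * r, h⟩ else 1

theorem conjVal_of_mem {x r : G} (h : r⁻¹ * x * r ∈ H) :
    conjVal ϕ x r = ϕ ⟨r⁻¹ * x * r, h⟩ := by
  unfold conjVal
  rw [dif_pos h]

theorem conjVal_smul (x h r : G) : conjVal ϕ x (h * r) = conjVal ϕ (h⁻¹ * x * h) r := by
  have e : (h * r)⁻¹ * x * (h * r) = r⁻¹ * (h⁻¹ * x * h) * r := by group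
  unfold conjVal
  by_cases hm : r⁻¹ * (h⁻¹ * x * h) * r ∈ H
  · have hm' : (h * r)⁻¹ * x * (h * r) ∈ H := by rw [e]; exact hm
    rw [dif_pos hm, dif_pos hm']
    congr 1
    exact Subtype.ext e
  · have hm' : ¬ (h * r)⁻¹ * x * (h * r) ∈ H := by rw [e]; exact hm
    rw [dif_neg hm, dif_neg hm']

variable {N : Subgroup G} [hN : N.Normal] (hNH : N ≤ H)

include hN hNH in
omit [CommGroup A] in
theorem conj_mem_of_normal {x : G} (hx : x ∈ N) (r : G) : r⁻¹ * x * r ∈ H := by
  have := hN.conj_mem x hx r⁻¹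
  rw [inv_inv] at this
  exact hNH this

include hN hNH in
theorem conjVal_mul_right {x : G} (hx : x ∈ N) (r m : G) (hm : m ∈ H) :
    conjVal ϕ x (r * m) = conjVal ϕ x r := by
  have h1 := conj_mem_of_normal hNH hx r
  have h2 := conj_mem_of_normal hNH hx (r * m)
  rw [conjVal_of_mem ϕ h1, conjVal_of_mem ϕ h2]
  have e : (⟨(r * m)⁻¹ * x * (r * m), h2⟩ : H) =
      (⟨m, hm⟩ : H)⁻¹ * ⟨r⁻¹ * x * r, h1⟩ * ⟨m, hm⟩ := by
    apply Subtype.ext
    simp only [Subgroup.coe_mul, Subgroup.coe_inv]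
    group
  rw [e, map_mul, map_mul, map_inv, mul_comm, mul_inv_cancel_left]

include hN hNH in
theorem conjVal_mul {x y : G} (hx : x ∈ N) (hy : y ∈ N) (r : G) :
    conjVal ϕ (x * y) r = conjVal ϕ x r * conjVal ϕ y r := by
  have h1 := conj_mem_of_normal hNH hx r
  have h2 := conj_mem_of_normal hNH hy r
  have h3 := conj_mem_of_normal hNH (N.mul_mem hx hy) r
  rw [conjVal_of_mem ϕ h1, conjVal_of_mem ϕ h2, conjVal_of_mem ϕ h3, ← map_mul]
  congr 1
  apply Subtype.ext
  simp only [Subgroup.coe_mul]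
  group

include hN hNH in
theorem conjVal_one (r : G) : conjVal ϕ 1 r = 1 := by
  have h1 := conj_mem_of_normal hNH N.one_mem r
  rw [conjVal_of_mem ϕ h1]
  have e : (⟨r⁻¹ * 1 * r, h1⟩ : H) = 1 := by
    apply Subtype.ext
    simp
  rw [e, map_one]

/-- The factor of the transfer at the coset `q`. -/
noncomputable def cq (x : G) : G ⧸ H → A := fun q => conjVal ϕ x q.out

include hN hNH in
theorem cq_mk {x : G} (hx : x ∈ N) (r : G) : cq ϕ x (r : G ⧸ H) = conjVal ϕ x r := by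
  obtain ⟨m, hm⟩ := QuotientGroup.mk_out_eq_mul H r
  unfold cq
  rw [hm]
  exact conjVal_mul_right ϕ hNH hx r m m.2

include hN hNH in
theorem cq_smul {x : G} (hx : x ∈ N) (h : G) (q : G ⧸ H) :
    cq ϕ x (h • q) = cq ϕ (h⁻¹ * x * h) q := by
  obtain ⟨r, rfl⟩ := QuotientGroup.mk_surjective q
  have hx' : h⁻¹ * x * h ∈ N := by
    have := hN.conj_mem x hx h⁻¹
    rwa [inv_inv] at this
  have e : h • (r : G ⧸ H) = ((h * r : G) : G ⧸ H) := rfl
  rw [e, cq_mk ϕ hNH hx, cq_mk ϕ hNH hx', conjVal_smul]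

include hN hNH in
theorem cq_mul {x y : G} (hx : x ∈ N) (hy : y ∈ N) (q : G ⧸ H) :
    cq ϕ (x * y) q = cq ϕ x q * cq ϕ y q :=
  conjVal_mul ϕ hNH hx hy _

include hN hNH in
theorem cq_one (q : G ⧸ H) : cq ϕ 1 q = 1 := conjVal_one ϕ hNH _

include hN hNH in
omit [CommGroup A] in
/-- Elements of `N` act trivially on `G ⧸ H`. -/
theorem smul_eq_of_mem_normal {x : G} (hx : x ∈ N) (q : G ⧸ H) : x • q = q := by
  obtain ⟨r, rfl⟩ := QuotientGroup.mk_surjective q
  have e : x • (r : G ⧸ H) = ((x * r : G) : G ⧸ H) := rfl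
  rw [e, QuotientGroup.eq]
  have h1 := conj_mem_of_normal hNH (N.inv_mem hx) r
  have e2 : (x * r)⁻¹ * r = r⁻¹ * x⁻¹ * r := by group
  rw [e2]
  exact h1

include hN hNH in
/-- The transfer of an element of a normal subgroup `N ≤ H`. -/
theorem transfer_eq_prod_cq [H.FiniteIndex] [Fintype (G ⧸ H)] {x : G} (hx : x ∈ N) :
    MonoidHom.transfer ϕ x = ∏ q : G ⧸ H, cq ϕ x q := by
  classical
  let T : H.LeftTransversal := default
  rw [MonoidHom.transfer_def ϕ T x]
  unfold Subgroup.leftTransversals.diff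
  simp only []
  refine Finset.prod_congr (by ext; simp) ?_
  intro q _
  have hq : x⁻¹ • q = q := smul_eq_of_mem_normal hNH (N.inv_mem hx) q
  have h1 : (((x • T).2.leftQuotientEquiv q : G)) = x * (T.2.leftQuotientEquiv q : G) := by
    rw [Subgroup.smul_apply_eq_smul_apply_inv_smul, hq, smul_eq_mul]
  have h2 : ((T.2.leftQuotientEquiv q : G) : G ⧸ H) = q :=
    Subgroup.IsComplement.quotientGroupMk_leftQuotientEquiv T.2 q
  have h3 := cq_mk ϕ hNH hx (T.2.leftQuotientEquiv q : G)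
  rw [h2] at h3
  rw [h3]
  have h4 := conj_mem_of_normal hNH hx (T.2.leftQuotientEquiv q : G)
  rw [conjVal_of_mem ϕ h4]
  congr 1
  apply Subtype.ext
  show ((T.2.leftQuotientEquiv q : G))⁻¹ * ((x • T).2.leftQuotientEquiv q : G) = _
  rw [h1]
  group

end transferCore

end Cfsg.Agent.Helper34
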