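import Mathlib
import Cfsg.Prelude.Def_PLocal
import Cfsg.Prelude.Def_LocalEven
import Cfsg.Agent.Helper34.BabyHH
import Cfsg.Agent.Helper34.BabyHHGroup
import Cfsg.Agent.Helper34.TransferCore

/-!
# The norm of an Engel element on a chief factor (helper34)

* `conjProd u x n` : the ordered product `∏_{i<n} u^i x u^{-i}`.
* `conjProd_mem_of_engel` : if `X/Y` is a chief factor with `X` a `p`-group and
  `[X, u; p-1] ≤ Y`, then `conjProd u x p ∈ Y` for `x ∈ X`.
* `iterCommutator_conj_le` : the Engel condition on a chief factor is invariant under conjugation.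
* `prod_cq_smul_pow` : `∏_{i<n} cq ϕ x (u^i • q) = cq ϕ (conjProd u⁻¹ x n) q`.
-/

set_option autoImplicit false

namespace Cfsg.Agent.Helper34

universe u

open Subgroup
open scoped commutatorElement

section conjProd

variable {G : Type*} [Group G]

/-- The ordered product `∏_{i<n} u^i x u^{-i}`. -/
def conjProd (u x : G) : ℕ → G
  | 0 => 1
  | n + 1 => conjProd u x n * (u ^ n * x * (u ^ n)⁻¹)

theorem conjProd_zero (u x : G) : conjProd u x 0 = 1 := rfl

theorem conjProd_succ (u x : G) (n : ℕ) :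
    conjProd u x (n + 1) = conjProd u x n * (u ^ n * x * (u ^ n)⁻¹) := rfl

theorem conjProd_mem {N : Subgroup G} [hN : N.Normal] (u : G) {x : G} (hx : x ∈ N) (n : ℕ) :
    conjProd u x n ∈ N := by
  induction n with
  | zero => exact N.one_mem
  | succ n ih => exact N.mul_mem ih (hN.conj_mem x hx _)

theorem prod_cq_smul_pow {H : Subgroup G} {A : Type*} [CommGroup A] (ϕ : H →* A)
    {N : Subgroup G} [hN : N.Normal] (hNH : N ≤ H) {x : G} (hx : x ∈ N) (u : G) (q : G ⧸ H)
    (n : ℕ) :
    ∏ i ∈ Finset.range n, cq ϕ x (u ^ i • q) = cq ϕ (conjProd u⁻¹ x n) q := by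
  induction n with
  | zero =>
    rw [Finset.prod_range_zero, conjProd_zero, cq_one ϕ hNH]
  | succ n ih =>
    rw [Finset.prod_range_succ, ih, conjProd_succ,
      cq_mul ϕ hNH (conjProd_mem u⁻¹ hx n) (hN.conj_mem x hx _), cq_smul ϕ hNH hx]
    congr 2
    rw [inv_pow, inv_inv]

end conjProd

section conj

variable {G : Type*} [Group G]

theorem map_conj_eq_of_normal (h : G) (X : Subgroup G) [hX : X.Normal] :
    X.map (MulAut.conj h).toMonoidHom = X := by
  ext y
  constructor
  · rintro ⟨x, hx, rfl⟩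
    exact hX.conj_mem x hx h
  · intro hy
    refine ⟨h⁻¹ * y * h, ?_, ?_⟩
    · have := hX.conj_mem y hy h⁻¹
      rwa [inv_inv] at this
    · simp [MulAut.conj_apply]
      group

theorem iterCommutator_map {G' : Type*} [Group G'] (f : G →* G') (N Z : Subgroup G) (k : ℕ) :
    (Cfsg.iterCommutator N Z k).map f = Cfsg.iterCommutator (N.map f) (Z.map f) k := by
  induction k with
  | zero => rfl
  | succ k ih =>
    show (⁅Cfsg.iterCommutator N Z k, Z⁆).map f = ⁅Cfsg.iterCommutator (N.map f) (Z.map f) k, Z.map f⁆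
    rw [Subgroup.map_commutator, ih]

/-- The Engel condition on a pair of normal subgroups is invariant under conjugation. -/
theorem iterCommutator_conj_le {X Y : Subgroup G} [hX : X.Normal] [hY : Y.Normal] (g h : G) (k : ℕ)
    (hE : Cfsg.iterCommutator X (zpowers g) k ≤ Y) :
    Cfsg.iterCommutator X (zpowers (h * g * h⁻¹)) k ≤ Y := by
  have h1 := Subgroup.map_mono (f := (MulAut.conj h).toMonoidHom) hE
  rw [iterCommutator_map, map_conj_eq_of_normal h X, map_conj_eq_of_normal h Y,
    MonoidHom.map_zpowers] at h1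
  exact h1

end conj

section norm

variable {p : ℕ} [hp : Fact p.Prime]

/-- If `X/Y` is a chief factor with `X` a `p`-group and `[X, u; p-1] ≤ Y`, the norm
`∏_{i<p} u^i x u^{-i}` of every `x ∈ X` lies in `Y`. -/
theorem conjProd_mem_of_engel {Z : Type u} [Group Z] [Finite Z]
    {U V : Subgroup Z} (hUV : Cfsg.IsChiefFactor U V) (hUpg : IsPGroup p U) (g : Z)
    (hE : Cfsg.iterCommutator U (zpowers g) (p - 1) ≤ V) {x : Z} (hx : x ∈ U) :
    conjProd g x p ∈ V := by
  obtain ⟨hVU, hUn, hVn, hchief⟩ := hUV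
  have hπ : Function.Surjective (QuotientGroup.mk' V) := QuotientGroup.mk'_surjective _
  have hUtn : (U.map (QuotientGroup.mk' V)).Normal := hUn.map _ hπ
  have hUtne : U.map (QuotientGroup.mk' V) ≠ ⊥ := by
    intro h0
    rw [Subgroup.map_eq_bot_iff, QuotientGroup.ker_mk'] at h0
    exact absurd h0 (not_le_of_gt hVU)
  have hcomapU : (U.map (QuotientGroup.mk' V)).comap (QuotientGroup.mk' V) = U := by
    rw [Subgroup.comap_map_eq, QuotientGroup.ker_mk', sup_eq_left.mpr hVU.le]
  have hmin : ∀ M : Subgroup (Z ⧸ V), M.Normal → M ≤ U.map (QuotientGroup.mk' V) →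
      M = ⊥ ∨ M = U.map (QuotientGroup.mk' V) := by
    intro M hMn hMU
    have h1 : V ≤ M.comap (QuotientGroup.mk' V) := by
      intro v hv
      rw [Subgroup.mem_comap, QuotientGroup.mk'_apply, (QuotientGroup.eq_one_iff v).mpr hv]
      exact M.one_mem
    have h2 : M.comap (QuotientGroup.mk' V) ≤ U := by
      rw [← hcomapU]; exact Subgroup.comap_mono hMU
    rcases hchief _ (hMn.comap _) h1 h2 with h | h
    · left
      rw [← Subgroup.map_comap_eq_self_of_surjective hπ M, h, Subgroup.map_eq_bot_iff,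
        QuotientGroup.ker_mk']
    · right
      rw [← Subgroup.map_comap_eq_self_of_surjective hπ M, h]
  have hUp : IsPGroup p ↥(U.map (QuotientGroup.mk' V)) := hUpg.map _
  have hUUc : U.map (QuotientGroup.mk' V) ≤
      centralizer ((U.map (QuotientGroup.mk' V) : Subgroup (Z ⧸ V)) : Set (Z ⧸ V)) := by
    apply le_centralizer_of_minimal_normal hUp hUtne hmin
    intro d hd
    obtain ⟨n, hn⟩ := hUp ⟨d, hd⟩
    have hn' : d ^ p ^ n = 1 := by
      have := congrArg Subtype.val hn
      simpa only [Subgroup.coe_pow, Subgroup.coe_one] using this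
    exact ⟨n, fun x _ => by rw [hn', one_mul, mul_one]⟩
  have hUcomm : ∀ x ∈ U.map (QuotientGroup.mk' V), ∀ y ∈ U.map (QuotientGroup.mk' V),
      x * y = y * x := by
    intro x hx y hy
    exact ((mem_centralizer_iff.mp (hUUc hx)) y hy).symm
  have hUexp : ∀ x ∈ U.map (QuotientGroup.mk' V), x ^ p = 1 := by
    let Ω : Subgroup (Z ⧸ V) :=
      { carrier := {x | x ∈ U.map (QuotientGroup.mk' V) ∧ x ^ p = 1}
        one_mem' := ⟨Subgroup.one_mem _, one_pow _⟩
        mul_mem' := by
          rintro x y ⟨hx, hxp⟩ ⟨hy, hyp⟩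
          refine ⟨Subgroup.mul_mem _ hx hy, ?_⟩
          have hc : Commute x y := hUcomm x hx y hy
          rw [hc.mul_pow, hxp, hyp, one_mul]
        inv_mem' := by
          rintro x ⟨hx, hxp⟩
          exact ⟨Subgroup.inv_mem _ hx, by rw [inv_pow, hxp, inv_one]⟩ }
    have hΩn : Ω.Normal := by
      constructor
      rintro x ⟨hx, hxp⟩ z
      refine ⟨hUtn.conj_mem x hx z, ?_⟩
      rw [conj_pow, hxp, mul_one, mul_inv_cancel]
    have hΩle : Ω ≤ U.map (QuotientGroup.mk' V) := fun x hx => hx.1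
    have hΩne : Ω ≠ ⊥ := by
      have hdvd : p ∣ Nat.card ↥(U.map (QuotientGroup.mk' V)) := by
        obtain ⟨n, hn⟩ := hUp.exists_card_eq
        rcases Nat.eq_zero_or_pos n with h0 | h0
        · exfalso
          apply hUtne
          rw [h0, pow_zero] at hn
          exact Subgroup.card_eq_one.mp hn
        · rw [hn]
          exact dvd_pow_self p h0.ne'
      obtain ⟨x, hx⟩ := exists_prime_orderOf_dvd_card' p hdvd
      intro h0
      have hxΩ : (x : Z ⧸ V) ∈ Ω := by
        refine ⟨x.2, ?_⟩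
        have h1 : x ^ p = 1 := by rw [← hx]; exact pow_orderOf_eq_one x
        have h2 := congrArg Subtype.val h1
        simpa only [Subgroup.coe_pow, Subgroup.coe_one] using h2
      rw [h0, Subgroup.mem_bot] at hxΩ
      have hx1 : x = 1 := Subtype.ext hxΩ
      rw [hx1, orderOf_one] at hx
      exact hp.1.one_lt.ne hx
    rcases hmin Ω hΩn hΩle with h | h
    · exact absurd h hΩne
    · intro x hx
      rw [← h] at hx
      exact hx.2
  let _ : CommGroup ↥(U.map (QuotientGroup.mk' V)) :=
    { (inferInstance : Group ↥(U.map (QuotientGroup.mk' V))) with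
      mul_comm := fun x y => Subtype.ext (hUcomm x x.2 y y.2) }
  have hexp : ∀ m : ↥(U.map (QuotientGroup.mk' V)), m ^ p = 1 := by
    intro m
    apply Subtype.ext
    rw [Subgroup.coe_pow, Subgroup.coe_one]
    exact hUexp m m.2
  let φ : Z →* MulAut ↥(U.map (QuotientGroup.mk' V)) :=
    (MulAut.conjNormal (H := U.map (QuotientGroup.mk' V))).comp (QuotientGroup.mk' V)
  have hφ : ∀ (y : Z) (m : ↥(U.map (QuotientGroup.mk' V))),
      ((φ y m : ↥(U.map (QuotientGroup.mk' V))) : Z ⧸ V) =
        QuotientGroup.mk' V y * m * (QuotientGroup.mk' V y)⁻¹ := by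
    intro y m
    exact MulAut.conjNormal_apply _ _
  have hiter : ∀ (k : ℕ) (m : ↥(U.map (QuotientGroup.mk' V))),
      (((fun x : ↥(U.map (QuotientGroup.mk' V)) => φ g x * x⁻¹)^[k] m :
        ↥(U.map (QuotientGroup.mk' V))) : Z ⧸ V) ∈
        (Cfsg.iterCommutator U (zpowers g) k).map (QuotientGroup.mk' V) := by
    intro k
    induction k with
    | zero => intro m; exact m.2
    | succ k ih =>
      intro m
      rw [Function.iterate_succ_apply']
      obtain ⟨y, hy, hym⟩ := ih m
      refine ⟨⁅g, y⁆, ?_, ?_⟩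
      · show ⁅g, y⁆ ∈ ⁅Cfsg.iterCommutator U (zpowers g) k, zpowers g⁆
        rw [Subgroup.commutator_comm]
        exact Subgroup.commutator_mem_commutator (Subgroup.mem_zpowers g) hy
      · rw [Subgroup.coe_mul, Subgroup.coe_inv, hφ, ← hym, commutatorElement_def, map_mul,
          map_mul, map_mul, map_inv, map_inv]
  have hE' : ∀ m : ↥(U.map (QuotientGroup.mk' V)),
      (fun x : ↥(U.map (QuotientGroup.mk' V)) => φ g x * x⁻¹)^[p - 1] m = 1 := by
    intro m
    have h1 := hiter (p - 1) m
    have h2 : (Cfsg.iterCommutator U (zpowers g) (p - 1)).map (QuotientGroup.mk' V) = ⊥ := by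
      rw [Subgroup.map_eq_bot_iff, QuotientGroup.ker_mk']
      exact hE
    rw [h2, Subgroup.mem_bot] at h1
    exact Subtype.ext h1
  have hTr := norm_trivial_of_engel hexp (φ g) hE'
  -- convert to the ordered product
  have hconv : ∀ n : ℕ,
      ((∏ i ∈ Finset.range n, ((φ g) ^ i)
        (⟨QuotientGroup.mk' V x, Subgroup.mem_map_of_mem _ hx⟩ : ↥(U.map (QuotientGroup.mk' V))) :
        ↥(U.map (QuotientGroup.mk' V))) : Z ⧸ V) = QuotientGroup.mk' V (conjProd g x n) := by
    intro n
    induction n with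
    | zero => rw [Finset.prod_range_zero, conjProd_zero, Subgroup.coe_one, map_one]
    | succ n ih =>
      rw [Finset.prod_range_succ, Subgroup.coe_mul, ih, conjProd_succ, map_mul, ← map_pow, hφ]
      rw [map_mul, map_mul, map_inv]
  have h3 := hTr ⟨QuotientGroup.mk' V x, Subgroup.mem_map_of_mem _ hx⟩
  have h4 := congrArg Subtype.val h3
  rw [hconv p, Subgroup.coe_one, QuotientGroup.mk'_apply, QuotientGroup.eq_one_iff] at h4
  exact h4

end norm

end Cfsg.Agent.Helper34
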