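import Mathlib

/-!
# Products over invariant sets killed by norms (helper34)

* `prod_eq_one_of_norm_perm` : if `∏_{i<p} f (σ^i q) = 1` for all `q` and every `σ`-orbit in the
  `σ`-invariant finite set `Δ` has length divisible by `p`, then `∏_{q ∈ Δ} f q = 1`.
* `exists_normal_lt_of_lt` : a proper subgroup of a finite `p`-group `U` lies in a proper subgroup
  normalized by `U`.
* `prod_eq_one_of_invariant` : the same for a `p`-group `U = ⟨E⟩P` acting on `G ⧸ M` without fixed
  points on `Δ`, where the norm condition holds for the elements of `E`.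
-/

set_option autoImplicit false

namespace Cfsg.Agent.Helper34

open Subgroup MulAction

section perm

variable {Ω A : Type*} [DecidableEq Ω] [CommGroup A]

omit [DecidableEq Ω] in
theorem prod_range_mul_eq_one (σ : Equiv.Perm Ω) {p : ℕ} (f : Ω → A)
    (hf : ∀ q, ∏ i ∈ Finset.range p, f ((σ ^ i) q) = 1) (q : Ω) :
    ∀ m : ℕ, ∏ j ∈ Finset.range (p * m), f ((σ ^ j) q) = 1 := by
  intro m
  induction m with
  | zero => simp
  | succ m ih =>
    rw [Nat.mul_succ, Finset.prod_range_add, ih, one_mul]
    have h := hf ((σ ^ (p * m)) q)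
    rw [← h]
    refine Finset.prod_congr rfl ?_
    intro i _
    rw [add_comm, pow_add, Equiv.Perm.mul_apply]

theorem prod_eq_one_of_norm_perm (σ : Equiv.Perm Ω) {p : ℕ} (f : Ω → A)
    (hf : ∀ q, ∏ i ∈ Finset.range p, f ((σ ^ i) q) = 1) :
    ∀ (n : ℕ) (Δ : Finset Ω), Δ.card ≤ n → (∀ q ∈ Δ, σ q ∈ Δ) →
      (∀ q ∈ Δ, 0 < Function.minimalPeriod σ q ∧ p ∣ Function.minimalPeriod σ q) →
      ∏ q ∈ Δ, f q = 1 := by
  intro n
  induction n with
  | zero =>
    intro Δ hc _ _
    have : Δ = ∅ := Finset.card_eq_zero.mp (Nat.le_zero.mp hc)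
    rw [this, Finset.prod_empty]
  | succ n ih =>
    intro Δ hc hinv hper
    by_cases hΔ : Δ = ∅
    · rw [hΔ, Finset.prod_empty]
    obtain ⟨q, hq⟩ := Finset.nonempty_iff_ne_empty.mpr hΔ
    obtain ⟨hpos, m, hm⟩ := hper q hq
    have hpow_mem : ∀ j : ℕ, (σ ^ j) q ∈ Δ := by
      intro j
      induction j with
      | zero => simpa using hq
      | succ j ihj =>
        rw [pow_succ', Equiv.Perm.mul_apply]
        exact hinv _ ihj
    -- the cycle of `q`
    have hCsub : (Finset.range (Function.minimalPeriod σ q)).image (fun j => (σ ^ j) q) ⊆ Δ := by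
      intro y hy
      obtain ⟨j, -, rfl⟩ := Finset.mem_image.mp hy
      exact hpow_mem j
    have hinj : Set.InjOn (fun j => (σ ^ j) q) (Finset.range (Function.minimalPeriod σ q) : Set ℕ) := by
      intro a ha b hb hab
      have h1 := Function.iterate_injOn_Iio_minimalPeriod (f := σ) (x := q)
      apply h1
      · simpa using ha
      · simpa using hb
      · simpa only [Equiv.Perm.iterate_eq_pow] using hab
    have hCprod : ∏ y ∈ (Finset.range (Function.minimalPeriod σ q)).image (fun j => (σ ^ j) q), f y = 1 := by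
      rw [Finset.prod_image hinj, hm]
      exact prod_range_mul_eq_one σ f hf q m
    have hqC : q ∈ (Finset.range (Function.minimalPeriod σ q)).image (fun j => (σ ^ j) q) := by
      refine Finset.mem_image.mpr ⟨0, Finset.mem_range.mpr hpos, ?_⟩
      simp
    -- `σ` maps the cycle into itself
    have hCinv : ∀ y ∈ (Finset.range (Function.minimalPeriod σ q)).image (fun j => (σ ^ j) q),
        σ y ∈ (Finset.range (Function.minimalPeriod σ q)).image (fun j => (σ ^ j) q) := by
      intro y hy
      obtain ⟨j, hj, rfl⟩ := Finset.mem_image.mp hy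
      rw [Finset.mem_range] at hj
      by_cases hj' : j + 1 < Function.minimalPeriod σ q
      · refine Finset.mem_image.mpr ⟨j + 1, Finset.mem_range.mpr hj', ?_⟩
        show (σ ^ (j + 1)) q = σ ((σ ^ j) q)
        rw [pow_succ', Equiv.Perm.mul_apply]
      · have hj'' : j + 1 = Function.minimalPeriod σ q := by omega
        have h2 : σ ((σ ^ j) q) = q := by
          have h3 := Function.iterate_minimalPeriod (f := σ) (x := q)
          rw [← hj'', Equiv.Perm.iterate_eq_pow, pow_succ', Equiv.Perm.mul_apply] at h3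
          exact h3
        rw [h2]
        exact hqC
    have hCimg : ((Finset.range (Function.minimalPeriod σ q)).image (fun j => (σ ^ j) q)).image σ =
        (Finset.range (Function.minimalPeriod σ q)).image (fun j => (σ ^ j) q) := by
      apply Finset.eq_of_subset_of_card_le
      · intro y hy
        obtain ⟨z, hz, rfl⟩ := Finset.mem_image.mp hy
        exact hCinv z hz
      · rw [Finset.card_image_of_injective _ σ.injective]
    have hDinv : ∀ y ∈ Δ \ (Finset.range (Function.minimalPeriod σ q)).image (fun j => (σ ^ j) q),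
        σ y ∈ Δ \ (Finset.range (Function.minimalPeriod σ q)).image (fun j => (σ ^ j) q) := by
      intro y hy
      rw [Finset.mem_sdiff] at hy ⊢
      refine ⟨hinv y hy.1, ?_⟩
      intro hσy
      rw [← hCimg] at hσy
      obtain ⟨z, hz, hzy⟩ := Finset.mem_image.mp hσy
      have : z = y := σ.injective hzy
      rw [this] at hz
      exact hy.2 hz
    have hcard : (Δ \ (Finset.range (Function.minimalPeriod σ q)).image (fun j => (σ ^ j) q)).card ≤ n := by
      have h1 : (Δ \ (Finset.range (Function.minimalPeriod σ q)).image (fun j => (σ ^ j) q)).card <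
          Δ.card := by
        apply Finset.card_lt_card
        refine ⟨Finset.sdiff_subset, ?_⟩
        intro hsub
        have := hsub hq
        rw [Finset.mem_sdiff] at this
        exact this.2 hqC
      omega
    have hrest := ih _ hcard hDinv (fun y hy => hper y (Finset.mem_sdiff.mp hy).1)
    rw [← Finset.prod_sdiff hCsub, hrest, hCprod, one_mul]

end perm

section pgroup

variable {G : Type*} [Group G] [Finite G] {p : ℕ} [hp : Fact p.Prime]

/-- A proper subgroup of a finite `p`-group `U` lies in a proper subgroup normalized by `U`. -/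
theorem exists_normal_lt_of_lt {U H : Subgroup G} (hU : IsPGroup p U) (hHU : H < U) :
    ∃ K : Subgroup G, H ≤ K ∧ K < U ∧ ∀ s ∈ U, ∀ k ∈ K, s * k * s⁻¹ ∈ K := by
  have hne : H.subgroupOf U ≠ ⊤ := by
    intro h
    rw [Subgroup.subgroupOf_eq_top] at h
    exact absurd h (not_le_of_gt hHU)
  obtain ⟨K', hK', hHK'⟩ := (eq_top_or_exists_le_coatom (H.subgroupOf U)).resolve_left hne
  have hnil : Group.IsNilpotent ↥U := hU.isNilpotent
  have h3 : ∀ H' : Subgroup ↥U, IsCoatom H' → H'.Normal :=
    ((Group.isNilpotent_of_finite_tfae (G := ↥U)).out 0 2).mp hnil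
  have hK'n : K'.Normal := h3 K' hK'
  refine ⟨K'.map U.subtype, ?_, ?_, ?_⟩
  · intro h hh
    have hhU : h ∈ U := hHU.le hh
    refine ⟨⟨h, hhU⟩, hHK' ?_, rfl⟩
    rw [Subgroup.mem_subgroupOf]
    exact hh
  · refine lt_of_le_of_ne (Subgroup.map_subtype_le K') ?_
    intro h
    apply hK'.1
    rw [eq_top_iff]
    intro x _
    have hx : (x : G) ∈ K'.map U.subtype := by rw [h]; exact x.2
    obtain ⟨y, hy, hyx⟩ := hx
    have : y = x := Subtype.ext hyx
    rw [← this]; exact hy
  · rintro s hs _ ⟨k, hk, rfl⟩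
    refine ⟨⟨s, hs⟩ * k * ⟨s, hs⟩⁻¹, hK'n.conj_mem k hk ⟨s, hs⟩, ?_⟩
    simp

variable (M : Subgroup G) [DecidableEq (G ⧸ M)] {A : Type*} [CommGroup A]

theorem prod_eq_one_of_invariant (f : G ⧸ M → A) (U P : Subgroup G) (hU : IsPGroup p U)
    (E : Set G) (hEU : ∀ u ∈ E, u ∈ U) (hPU : P ≤ U) (hgen : U ≤ closure E ⊔ P)
    (hP : ∀ x ∈ P, ∀ q : G ⧸ M, x • q = q)
    (hnorm : ∀ u ∈ E, ∀ q : G ⧸ M, ∏ i ∈ Finset.range p, f (u ^ i • q) = 1) :
    ∀ (n : ℕ) (Δ : Finset (G ⧸ M)), Δ.card ≤ n → (∀ s ∈ U, ∀ q ∈ Δ, s • q ∈ Δ) →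
      (∀ q ∈ Δ, ∃ s ∈ U, s • q ≠ q) → ∏ q ∈ Δ, f q = 1 := by
  classical
  intro n
  induction n with
  | zero =>
    intro Δ hc _ _
    have : Δ = ∅ := Finset.card_eq_zero.mp (Nat.le_zero.mp hc)
    rw [this, Finset.prod_empty]
  | succ n ih =>
    intro Δ hc hinv hmove
    by_cases hΔ : Δ = ∅
    · rw [hΔ, Finset.prod_empty]
    obtain ⟨q, hq⟩ := Finset.nonempty_iff_ne_empty.mpr hΔ
    have hlt : U ⊓ stabilizer G q < U := by
      refine lt_of_le_of_ne inf_le_left ?_
      intro h
      obtain ⟨s, hs, hsq⟩ := hmove q hq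
      have : s ∈ U ⊓ stabilizer G q := by rw [h]; exact hs
      exact hsq (MulAction.mem_stabilizer_iff.mp this.2)
    obtain ⟨K, hHK, hKU, hKn⟩ := exists_normal_lt_of_lt hU hlt
    -- an element of `E` outside `K`
    have hPK : P ≤ K := by
      intro x hx
      apply hHK
      exact Subgroup.mem_inf.mpr ⟨hPU hx, MulAction.mem_stabilizer_iff.mpr (hP x hx q)⟩
    have hEK : ∃ u ∈ E, u ∉ K := by
      by_contra hcon
      push Not at hcon
      have h1 : closure E ⊔ P ≤ K := sup_le ((Subgroup.closure_le K).mpr hcon) hPK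
      exact absurd (hgen.trans h1) (not_le_of_gt hKU)
    obtain ⟨u, huE, huK⟩ := hEK
    have huU : u ∈ U := hEU u huE
    -- the points whose stabilizer in `U` lies in `K`
    have hΔ'inv : ∀ s ∈ U, ∀ y ∈ Δ.filter (fun y => U ⊓ stabilizer G y ≤ K),
        s • y ∈ Δ.filter (fun y => U ⊓ stabilizer G y ≤ K) := by
      intro s hs y hy
      rw [Finset.mem_filter] at hy ⊢
      refine ⟨hinv s hs y hy.1, ?_⟩
      intro t ht
      obtain ⟨htU, htS⟩ := Subgroup.mem_inf.mp ht
      rw [MulAction.mem_stabilizer_iff] at htS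
      have h1 : s⁻¹ * t * s ∈ U ⊓ stabilizer G y := by
        refine Subgroup.mem_inf.mpr ⟨U.mul_mem (U.mul_mem (U.inv_mem hs) htU) hs, ?_⟩
        rw [MulAction.mem_stabilizer_iff, mul_smul, mul_smul, htS, inv_smul_smul]
      have h2 := hKn s hs _ (hy.2 h1)
      have e : s * (s⁻¹ * t * s) * s⁻¹ = t := by group
      rwa [e] at h2
    have hqΔ' : q ∈ Δ.filter (fun y => U ⊓ stabilizer G y ≤ K) :=
      Finset.mem_filter.mpr ⟨hq, hHK⟩
    have hσpow : ∀ (i : ℕ) (y : G ⧸ M), ((MulAction.toPerm u : Equiv.Perm (G ⧸ M)) ^ i) y = u ^ i • y := by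
      intro i y
      induction i with
      | zero => simp
      | succ i ihi =>
        rw [pow_succ', Equiv.Perm.mul_apply, ihi, pow_succ', mul_smul]
        rfl
    have hprod' : ∏ y ∈ Δ.filter (fun y => U ⊓ stabilizer G y ≤ K), f y = 1 := by
      apply prod_eq_one_of_norm_perm (MulAction.toPerm u : Equiv.Perm (G ⧸ M)) (p := p) f ?_ _ _ le_rfl
      · intro y hy
        exact hΔ'inv u huU y hy
      · intro y hy
        rw [Finset.mem_filter] at hy
        have hfix : u • y ≠ y := by
          intro h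
          exact huK (hy.2 (Subgroup.mem_inf.mpr ⟨huU, MulAction.mem_stabilizer_iff.mpr h⟩))
        obtain ⟨k, hk⟩ := hU ⟨u, huU⟩
        have hk' : u ^ p ^ k = 1 := by
          have := congrArg Subtype.val hk
          simpa only [Subgroup.coe_pow, Subgroup.coe_one] using this
        have hper : Function.IsPeriodicPt (MulAction.toPerm u : Equiv.Perm (G ⧸ M)) (p ^ k) y := by
          show (⇑(MulAction.toPerm u : Equiv.Perm (G ⧸ M)))^[p ^ k] y = y
          rw [Equiv.Perm.iterate_eq_pow, hσpow, hk', one_smul]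
        have hdvd := hper.minimalPeriod_dvd
        have hpos : 0 < Function.minimalPeriod (MulAction.toPerm u : Equiv.Perm (G ⧸ M)) y :=
          hper.minimalPeriod_pos (pow_pos hp.1.pos k)
        refine ⟨hpos, ?_⟩
        obtain ⟨j, -, hj⟩ := (Nat.dvd_prime_pow hp.1).mp hdvd
        rcases Nat.eq_zero_or_pos j with h0 | h0
        · exfalso
          rw [h0, pow_zero, Function.minimalPeriod_eq_one_iff_isFixedPt] at hj
          exact hfix hj
        · rw [hj]
          exact dvd_pow_self p h0.ne'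
      · intro y
        have := hnorm u huE y
        rw [← this]
        refine Finset.prod_congr rfl ?_
        intro i _
        rw [hσpow]
    have hsub : Δ.filter (fun y => U ⊓ stabilizer G y ≤ K) ⊆ Δ := Finset.filter_subset _ _
    have hDinv : ∀ s ∈ U, ∀ y ∈ Δ \ Δ.filter (fun y => U ⊓ stabilizer G y ≤ K),
        s • y ∈ Δ \ Δ.filter (fun y => U ⊓ stabilizer G y ≤ K) := by
      intro s hs y hy
      rw [Finset.mem_sdiff] at hy ⊢
      refine ⟨hinv s hs y hy.1, ?_⟩
      intro hsy
      have := hΔ'inv s⁻¹ (U.inv_mem hs) _ hsy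
      rw [inv_smul_smul] at this
      exact hy.2 this
    have hcard : (Δ \ Δ.filter (fun y => U ⊓ stabilizer G y ≤ K)).card ≤ n := by
      have h1 : (Δ \ Δ.filter (fun y => U ⊓ stabilizer G y ≤ K)).card < Δ.card := by
        apply Finset.card_lt_card
        refine ⟨Finset.sdiff_subset, ?_⟩
        intro hsub'
        have := hsub' hq
        rw [Finset.mem_sdiff] at this
        exact this.2 hqΔ'
      omega
    have hrest := ih _ hcard hDinv (fun y hy => hmove y (Finset.mem_sdiff.mp hy).1)
    rw [← Finset.prod_sdiff hsub, hrest, hprod', one_mul]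

end pgroup

end Cfsg.Agent.Helper34
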