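import Mathlib
import Cfsg.Prelude.Def_PLocal
import Cfsg.Prelude.Def_LocalEven
import Cfsg.Agent.Lib.Cores
import Cfsg.Agent.Helper34.TransferCore
import Cfsg.Agent.Helper34.OrbitNorm
import Cfsg.Agent.Helper34.EngelNorm

/-!
# Engel elements and the focal subgroup of `O_p(G)` (helper34)

`pCore_inf_commutator_le_of_engel` : let `S` be a Sylow `p`-subgroup of the finite group `G`,
`P = O_p(G)`, and `g ∈ S`, `g ∉ P`, with `[X, g; p-1] ≤ Y` for every chief factor `X/Y` of `G`
with `X ≤ P`.  Then there is a proper subgroup `M ≥ S` of `G` with `P ∩ G' ≤ M'`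
(namely `M = N_G(⟨g^G ∩ S⟩P)`).
-/

set_option autoImplicit false

namespace Cfsg.Agent.Helper34

universe u

open Subgroup MulAction

section sylowConj

variable {p : ℕ} [hp : Fact p.Prime] {G : Type u} [Group G] [Finite G]

/-- A `p`-subgroup of `M ≥ S` is conjugate into the Sylow `p`-subgroup `S` by an element of `M`. -/
theorem exists_conj_le_sylow_of_le (S : Sylow p G) {M : Subgroup G} (hSM : (S : Subgroup G) ≤ M)
    (Q : Subgroup G) (hQ : IsPGroup p Q) (hQM : Q ≤ M) :
    ∃ m ∈ M, ∀ y ∈ Q, m⁻¹ * y * m ∈ (S : Subgroup G) := by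
  have hQ' : IsPGroup p ↥(Q.subgroupOf M) := hQ.comap_of_injective _ (Subgroup.subtype_injective _)
  obtain ⟨Q', hQ'le⟩ := hQ'.exists_le_sylow
  obtain ⟨m, hm⟩ := MulAction.exists_smul_eq ↥M (S.subtype hSM) Q'
  refine ⟨m, m.2, ?_⟩
  intro y hy
  have h1 : (⟨y, hQM hy⟩ : ↥M) ∈ (Q' : Subgroup ↥M) := hQ'le (Subgroup.mem_subgroupOf.mpr hy)
  rw [← hm, Sylow.coe_subgroup_smul, Subgroup.mem_pointwise_smul_iff_inv_smul_mem,
    Sylow.coe_subtype, Subgroup.mem_subgroupOf, MulAut.smul_def, ← map_inv, MulAut.conj_apply] at h1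
  simpa using h1

end sylowConj

section lemmaE

variable {p : ℕ} [hp : Fact p.Prime] {G : Type u} [Group G] [Finite G]

/-- The abstract transfer lemma: `U = ⟨E⟩ O_p(G) ≤ S ≤ M`, `M` contains every `t` with `U^t ≤ S`,
and the elements of `E` satisfy the Engel condition on the chief factors below `O_p(G)`.  Then
`O_p(G) ∩ G' ≤ M'`. -/
theorem pCore_inf_commutator_le_of_engel_aux (S : Sylow p G) (M U : Subgroup G) (E : Set G)
    (hSM : (S : Subgroup G) ≤ M) (hUS : U ≤ (S : Subgroup G)) (hEU : ∀ u ∈ E, u ∈ U)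
    (hPU : Cfsg.pCore p G ≤ U) (hgen : U ≤ closure E ⊔ Cfsg.pCore p G)
    (hwc : ∀ t : G, (∀ u ∈ U, t⁻¹ * u * t ∈ (S : Subgroup G)) → t ∈ M)
    (hEngel : ∀ u ∈ E, ∀ X Y : Subgroup G, Cfsg.IsChiefFactor X Y → X ≤ Cfsg.pCore p G →
      Cfsg.iterCommutator X (zpowers u) (p - 1) ≤ Y) :
    Cfsg.pCore p G ⊓ commutator G ≤ ⁅M, M⁆ := by
  classical
  by_contra hcon
  have hPchar := Cfsg.Agent.Lib.pCore_characteristic (G := G) p
  have hPn : (Cfsg.pCore p G).Normal := inferInstance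
  have hPM : Cfsg.pCore p G ≤ M := hPU.trans (hUS.trans hSM)
  -- a minimal normal `X ≤ P` with `X ∩ G' ≰ M'`
  obtain ⟨X, hXP, hXmin⟩ := Finite.exists_le_minimal
    (p := fun X : Subgroup G => X.Normal ∧ X ≤ Cfsg.pCore p G ∧ ¬ (X ⊓ commutator G ≤ ⁅M, M⁆))
    (a := Cfsg.pCore p G) ⟨hPn, le_rfl, hcon⟩
  obtain ⟨⟨hXn, hXleP, hXnot⟩, hXmin'⟩ := hXmin
  have hXne : X ≠ ⊥ := by
    intro h
    apply hXnot
    rw [h, bot_inf_eq]
    exact bot_le
  -- a maximal normal `Y < X`
  obtain ⟨Y, -, hYmax⟩ := Finite.exists_le_maximal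
    (p := fun Y : Subgroup G => Y.Normal ∧ Y < X) (a := (⊥ : Subgroup G))
    ⟨inferInstance, bot_lt_iff_ne_bot.mpr hXne⟩
  obtain ⟨⟨hYn, hYX⟩, hYmax'⟩ := hYmax
  have hchief : Cfsg.IsChiefFactor X Y := by
    refine ⟨hYX, hXn, hYn, ?_⟩
    intro N hNn hYN hNX
    by_cases hNeq : N = X
    · exact Or.inr hNeq
    · left
      exact le_antisymm (hYmax' ⟨hNn, lt_of_le_of_ne hNX hNeq⟩ hYN) hYN
  have hYM' : Y ⊓ commutator G ≤ ⁅M, M⁆ := by
    by_contra hY
    have := hXmin' ⟨hYn, hYX.le.trans hXleP, hY⟩ hYX.le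
    exact absurd this (not_le_of_gt hYX)
  -- the element `x`
  obtain ⟨x, hxX', hxM'⟩ := SetLike.not_le_iff_exists.mp hXnot
  obtain ⟨hxX, hxG'⟩ := Subgroup.mem_inf.mp hxX'
  have hXM : X ≤ M := hXleP.trans hPM
  have hXpg : IsPGroup p X := (Cfsg.Agent.Lib.isPGroup_pCore p).to_le hXleP
  have hUpg : IsPGroup p U := S.2.to_le hUS
  -- the transfer into the abelianization of `M`
  let ϕ : ↥M →* Abelianization ↥M := Abelianization.of
  have hfi : M.FiniteIndex := inferInstance
  let _ : Fintype (G ⧸ M) := Fintype.ofFinite _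
  have hV1 : MonoidHom.transfer ϕ x = 1 := by
    have := Abelianization.commutator_subset_ker (MonoidHom.transfer ϕ) hxG'
    exact MonoidHom.mem_ker.mp this
  rw [transfer_eq_prod_cq ϕ hXM hxX] at hV1
  -- the fixed point
  have hfix : ∀ q : G ⧸ M, (∀ s ∈ U, s • q = q) → q = ((1 : G) : G ⧸ M) := by
    intro q hq
    obtain ⟨t, rfl⟩ := QuotientGroup.mk_surjective q
    have h1 : ∀ u ∈ U, t⁻¹ * u * t ∈ M := by
      intro u hu
      have h2 := hq u hu
      have e : u • (t : G ⧸ M) = ((u * t : G) : G ⧸ M) := rfl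
      rw [e, QuotientGroup.eq] at h2
      have e2 : (u * t)⁻¹ * t = t⁻¹ * u⁻¹ * t := by group
      rw [e2] at h2
      have h3 := M.inv_mem h2
      have e3 : (t⁻¹ * u⁻¹ * t)⁻¹ = t⁻¹ * u * t := by group
      rwa [e3] at h3
    -- the conjugate `U^t` as a subgroup
    have hQpg : IsPGroup p (U.map (MulAut.conj t⁻¹).toMonoidHom) := hUpg.map _
    have hQM : U.map (MulAut.conj t⁻¹).toMonoidHom ≤ M := by
      rintro _ ⟨u, hu, rfl⟩
      have := h1 u hu
      simpa [MulAut.conj_apply] using this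
    obtain ⟨m, hmM, hm⟩ := exists_conj_le_sylow_of_le S hSM _ hQpg hQM
    have htm : t * m ∈ M := by
      apply hwc
      intro u hu
      have h4 := hm (t⁻¹ * u * t) ⟨u, hu, by simp⟩
      have e4 : (t * m)⁻¹ * u * (t * m) = m⁻¹ * (t⁻¹ * u * t) * m := by group
      rw [e4]
      exact h4
    have htM : t ∈ M := by
      have := M.mul_mem htm (M.inv_mem hmM)
      rwa [mul_inv_cancel_right] at this
    rw [QuotientGroup.eq]
    simpa using htM
  -- elements of `M'` are killed by `ϕ`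
  have hker : ∀ (z : G) (hz : z ∈ M), z ∈ ⁅M, M⁆ → ϕ ⟨z, hz⟩ = 1 := by
    intro z hz hz'
    rw [← Subgroup.map_subtype_commutator] at hz'
    obtain ⟨w, hw, hwz⟩ := hz'
    have e : (⟨z, hz⟩ : ↥M) = w := Subtype.ext hwz.symm
    rw [e]
    have h1 : w ∈ (Abelianization.of : ↥M →* Abelianization ↥M).ker := by
      rw [Abelianization.ker_of]; exact hw
    exact MonoidHom.mem_ker.mp h1
  have hα : ∀ s ∈ M, s • (((1 : G) : G ⧸ M)) = ((1 : G) : G ⧸ M) := by
    intro s hs
    have e : s • (((1 : G) : G ⧸ M)) = ((s * 1 : G) : G ⧸ M) := rfl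
    rw [e, QuotientGroup.eq]
    simpa using hs
  have hG'n : (commutator G).Normal := inferInstance
  have hYG'n : (Y ⊓ commutator G).Normal := inferInstance
  have hYG'M : Y ⊓ commutator G ≤ M := inf_le_left.trans (hYX.le.trans hXM)
  have hcq1 : ∀ z ∈ Y ⊓ commutator G, ∀ q : G ⧸ M, cq ϕ z q = 1 := by
    intro z hz q
    obtain ⟨r, rfl⟩ := QuotientGroup.mk_surjective q
    rw [cq_mk ϕ hYG'M hz r]
    have h1 : r⁻¹ * z * r ∈ Y ⊓ commutator G := by
      have := hYG'n.conj_mem z hz r⁻¹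
      rwa [inv_inv] at this
    rw [conjVal_of_mem ϕ (hYG'M h1)]
    exact hker _ _ (hYM' h1)
  -- the product over the non-fixed points is trivial
  have hΔ : ∏ q ∈ (Finset.univ : Finset (G ⧸ M)).erase ((1 : G) : G ⧸ M), cq ϕ x q = 1 := by
    apply prod_eq_one_of_invariant M (cq ϕ x) U (Cfsg.pCore p G) hUpg E hEU hPU hgen ?_ ?_ _ _ le_rfl
    · intro s hs q hq
      rw [Finset.mem_erase] at hq ⊢
      refine ⟨?_, Finset.mem_univ _⟩
      intro h
      apply hq.1
      have h5 : q = s⁻¹ • (s • q) := (inv_smul_smul s q).symm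
      rw [h5, h]
      exact hα s⁻¹ (M.inv_mem (hSM (hUS hs)))
    · intro q hq
      rw [Finset.mem_erase] at hq
      by_contra hall
      push Not at hall
      exact hq.1 (hfix q hall)
    · intro y hy q
      exact smul_eq_of_mem_normal hPM hy q
    · intro u hu q
      rw [prod_cq_smul_pow ϕ hXM hxX u q p]
      apply hcq1
      refine Subgroup.mem_inf.mpr ⟨?_, conjProd_mem u⁻¹ hxG' p⟩
      apply conjProd_mem_of_engel hchief hXpg u⁻¹ ?_ hxX
      rw [Subgroup.zpowers_inv]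
      exact hEngel u hu X Y hchief hXleP
  rw [← Finset.mul_prod_erase Finset.univ (cq ϕ x) (Finset.mem_univ (((1 : G) : G ⧸ M))), hΔ,
    mul_one, cq_mk ϕ hXM hxX 1] at hV1
  have h7 : (1 : G)⁻¹ * x * 1 ∈ M := by simpa using hXM hxX
  rw [conjVal_of_mem ϕ h7] at hV1
  have h8 : (⟨(1 : G)⁻¹ * x * 1, h7⟩ : ↥M) ∈ (Abelianization.of : ↥M →* Abelianization ↥M).ker :=
    MonoidHom.mem_ker.mpr hV1
  rw [Abelianization.ker_of] at h8
  apply hxM'
  rw [← Subgroup.map_subtype_commutator]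
  refine ⟨_, h8, ?_⟩
  simp

omit [Finite G] hp in
theorem conj_mem_closure_of_forall (F : Set G) (t : G) (h : ∀ u ∈ F, t * u * t⁻¹ ∈ F) :
    ∀ u ∈ closure F, t * u * t⁻¹ ∈ closure F := by
  intro u hu
  induction hu using Subgroup.closure_induction with
  | mem u hu => exact subset_closure (h u hu)
  | one => simp
  | mul a b _ _ iha ihb =>
    have e : t * (a * b) * t⁻¹ = (t * a * t⁻¹) * (t * b * t⁻¹) := by group
    rw [e]
    exact Subgroup.mul_mem _ iha ihb
  | inv a _ iha =>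
    have e : t * a⁻¹ * t⁻¹ = (t * a * t⁻¹)⁻¹ := by group
    rw [e]
    exact Subgroup.inv_mem _ iha

omit hp in
theorem mem_normalizer_of_forall_conj_mem (U : Subgroup G) (t : G)
    (h : ∀ u ∈ U, t * u * t⁻¹ ∈ U) : t ∈ normalizer (U : Set G) := by
  have hle : U.map (MulAut.conj t).toMonoidHom ≤ U := by
    rintro _ ⟨u, hu, rfl⟩
    exact h u hu
  have hcard : Nat.card U ≤ Nat.card (U.map (MulAut.conj t).toMonoidHom) := by
    rw [Subgroup.card_map_of_injective (MulAut.conj t).injective]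
  have heq : U.map (MulAut.conj t).toMonoidHom = U := Subgroup.eq_of_le_of_card_ge hle hcard
  rw [Subgroup.mem_normalizer_iff]
  intro y
  constructor
  · exact h y
  · intro hy
    rw [← heq] at hy
    obtain ⟨u, hu, huy⟩ := hy
    have e : u = y := by
      have h1 : t * u * t⁻¹ = t * y * t⁻¹ := huy
      have h2 := mul_right_cancel h1
      exact mul_left_cancel h2
    rw [← e]; exact hu

/-- **The Engel transfer lemma.**  If `g ∈ S`, `g ∉ O_p(G)` satisfies the Engel condition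
`[X, g; p-1] ≤ Y` on every chief factor `X/Y` of `G` below `O_p(G)`, then there is a proper
subgroup `M ≥ S` of `G` with `O_p(G) ∩ G' ≤ M'`. -/
theorem exists_proper_of_engel (S : Sylow p G) (g : G) (hgS : g ∈ (S : Subgroup G))
    (hgP : g ∉ Cfsg.pCore p G)
    (hEngel : ∀ X Y : Subgroup G, Cfsg.IsChiefFactor X Y → X ≤ Cfsg.pCore p G →
      Cfsg.iterCommutator X (zpowers g) (p - 1) ≤ Y) :
    ∃ M : Subgroup G, (S : Subgroup G) ≤ M ∧ M ≠ ⊤ ∧
      Cfsg.pCore p G ⊓ commutator G ≤ ⁅M, M⁆ := by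
  have hPchar := Cfsg.Agent.Lib.pCore_characteristic (G := G) p
  have hPn : (Cfsg.pCore p G).Normal := inferInstance
  have hPS : Cfsg.pCore p G ≤ (S : Subgroup G) := Cfsg.Agent.Lib.pCore_le_sylow S
  let E : Set G := {u | u ∈ (S : Subgroup G) ∧ ∃ h : G, u = h * g * h⁻¹}
  let F : Set G := E ∪ ((Cfsg.pCore p G : Subgroup G) : Set G)
  have hgE : g ∈ E := ⟨hgS, 1, by simp⟩
  have hFS : F ⊆ ((S : Subgroup G) : Set G) := by
    rintro u (hu | hu)
    · exact hu.1
    · exact hPS hu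
  have hUS : closure F ≤ (S : Subgroup G) := (Subgroup.closure_le _).mpr hFS
  -- conjugation-invariance of `F`
  have hFinv : ∀ t : G, (∀ u ∈ E, t * u * t⁻¹ ∈ (S : Subgroup G)) →
      ∀ u ∈ F, t * u * t⁻¹ ∈ F := by
    intro t ht u hu
    rcases hu with hu | hu
    · left
      refine ⟨ht u hu, ?_⟩
      obtain ⟨h, rfl⟩ := hu.2
      exact ⟨t * h, by group⟩
    · right
      exact hPn.conj_mem u hu t
  refine ⟨normalizer (closure F : Set G), ?_, ?_, ?_⟩
  · intro s hs
    apply mem_normalizer_of_forall_conj_mem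
    apply conj_mem_closure_of_forall
    apply hFinv
    intro u hu
    exact Subgroup.mul_mem _ (Subgroup.mul_mem _ hs hu.1) (Subgroup.inv_mem _ hs)
  · intro htop
    have hUn : (closure F).Normal := Subgroup.normalizer_eq_top_iff.mp htop
    have hUP : closure F ≤ Cfsg.pCore p G := Cfsg.Agent.Lib.le_pCore hUn (S.2.to_le hUS)
    exact hgP (hUP (subset_closure (Or.inl hgE)))
  · apply pCore_inf_commutator_le_of_engel_aux S _ (closure F) E ?_ hUS ?_ ?_ ?_ ?_ ?_
    · intro s hs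
      apply mem_normalizer_of_forall_conj_mem
      apply conj_mem_closure_of_forall
      apply hFinv
      intro u hu
      exact Subgroup.mul_mem _ (Subgroup.mul_mem _ hs hu.1) (Subgroup.inv_mem _ hs)
    · intro u hu
      exact subset_closure (Or.inl hu)
    · intro u hu
      exact subset_closure (Or.inr hu)
    · rw [Subgroup.closure_union, Subgroup.closure_eq]
    · intro t ht
      have h1 : t⁻¹ ∈ normalizer (closure F : Set G) := by
        apply mem_normalizer_of_forall_conj_mem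
        apply conj_mem_closure_of_forall
        apply hFinv
        intro u hu
        have := ht u (subset_closure (Or.inl hu))
        rwa [inv_inv]
      have := Subgroup.inv_mem _ h1
      rwa [inv_inv] at this
    · intro u hu X Y hXY hXP
      obtain ⟨h, rfl⟩ := hu.2
      have hXn : X.Normal := hXY.2.1
      have hYn : Y.Normal := hXY.2.2.1
      exact iterCommutator_conj_le g h (p - 1) (hEngel X Y hXY hXP)

end lemmaE

end Cfsg.Agent.Helper34
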