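import Cfsg.Agent.Helper33.OpTransfer
import Cfsg.Agent.Helper34.EngelTransfer

/-!
# Engel elements in constrained sections give control of transfer (helper34)

`EngelProp p W X` : the hypothesis "for every Sylow `T` of the constrained group `X` with `W(T)` not
normal there is an element of `T` outside `O_p(X)` which is `(p-1)`-Engel on the chief factors below
`O_p(X)`".  It is isomorphism invariant, and if it holds in all sections of `X`, then
`O_p(X) ∩ X' = O_p(X) ∩ N_X(W(T))'` (`opTransferProp_of_engel`).
-/

set_option autoImplicit false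

universe u

open scoped Pointwise commutatorElement

namespace Cfsg.Agent.Helper34

open Cfsg.Agent.Helper33 Cfsg.Agent.Lib

variable {p : ℕ} [hp : Fact p.Prime] {W : ∀ (Q : Type u) [Group Q], Subgroup Q}

/-- The Engel hypothesis on a group `X`. -/
def EngelProp (p : ℕ) (W : ∀ (Q : Type u) [Group Q], Subgroup Q) :
    ∀ (X : Type u) [Group X], Prop :=
  fun X _ => Finite X → Constrained p X → ∀ T : Sylow p X,
    ¬ (Cfsg.inducedFunctor (G := X) W (T : Subgroup X)).Normal →
    ∃ g : X, g ∈ (T : Subgroup X) ∧ g ∉ Cfsg.pCore p X ∧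
      ∀ U V : Subgroup X, Cfsg.IsChiefFactor U V → U ≤ Cfsg.pCore p X →
        Cfsg.iterCommutator U (Subgroup.zpowers g) (p - 1) ≤ V

omit hp in
theorem isChiefFactor_comap_equiv {X Y : Type*} [Group X] [Group Y] (φ : X ≃* Y)
    {U V : Subgroup Y} (hUV : Cfsg.IsChiefFactor U V) :
    Cfsg.IsChiefFactor (U.comap φ.toMonoidHom) (V.comap φ.toMonoidHom) := by
  obtain ⟨hVU, hUn, hVn, hch⟩ := hUV
  refine ⟨?_, hUn.comap _, hVn.comap _, ?_⟩
  · exact (Subgroup.comap_lt_comap_of_surjective φ.surjective).mpr hVU
  · intro N hNn hVN hNU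
    have hNmn : (N.map φ.toMonoidHom).Normal := hNn.map _ φ.surjective
    have h1 : V ≤ N.map φ.toMonoidHom := by
      have := Subgroup.map_mono (f := φ.toMonoidHom) hVN
      rwa [Subgroup.map_comap_eq_self_of_surjective φ.surjective] at this
    have h2 : N.map φ.toMonoidHom ≤ U := by
      have := Subgroup.map_mono (f := φ.toMonoidHom) hNU
      rwa [Subgroup.map_comap_eq_self_of_surjective φ.surjective] at this
    have hN : N = (N.map φ.toMonoidHom).comap φ.toMonoidHom :=
      (Subgroup.comap_map_eq_self_of_injective φ.injective N).symm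
    rcases hch _ hNmn h1 h2 with h | h
    · left; rw [hN, h]
    · right; rw [hN, h]

omit hp in
theorem isoInvariant_EngelProp [Fact p.Prime] (hW : Cfsg.IsCharPFunctor.{u} p W) :
    IsoInvariant (EngelProp p W) := by
  intro X Y _ _ φ h hY hcon TY hnn
  have hX : Finite X := Finite.of_equiv Y φ.symm.toEquiv
  obtain ⟨TX, hTX⟩ : ∃ TX : Sylow p X, (TX : Subgroup X) = (TY : Subgroup Y).comap φ.toMonoidHom :=
    ⟨TY.comapOfInjective φ.toMonoidHom φ.injective
      (by rw [MonoidHom.range_eq_top.mpr φ.surjective]; exact le_top), rfl⟩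
  have hmap : (TX : Subgroup X).map φ.toMonoidHom = (TY : Subgroup Y) := by
    rw [hTX]
    exact Subgroup.map_comap_eq_self_of_surjective φ.surjective _
  have hWmap := inducedFunctor_map_equiv hW φ (TX : Subgroup X) TX.2
  rw [hmap] at hWmap
  have hnnX : ¬ (Cfsg.inducedFunctor (G := X) W (TX : Subgroup X)).Normal := by
    intro hn
    apply hnn
    rw [hWmap]
    exact hn.map _ φ.surjective
  obtain ⟨g, hgT, hgP, hE⟩ := h hX (hcon.of_equiv φ.symm) TX hnnX
  have hPmap := pCore_map_equiv_eq p φ
  refine ⟨φ g, ?_, ?_, ?_⟩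
  · rw [← hmap]
    exact Subgroup.mem_map_of_mem _ hgT
  · intro hφg
    apply hgP
    rw [← hPmap] at hφg
    obtain ⟨x, hx, hxg⟩ := hφg
    have : x = g := φ.injective hxg
    rw [← this]; exact hx
  · intro U V hUV hUP
    have hUP' : U.comap φ.toMonoidHom ≤ Cfsg.pCore p X := by
      intro x hx
      have h1 : φ x ∈ Cfsg.pCore p Y := hUP hx
      rw [← hPmap] at h1
      obtain ⟨x', hx', hxx'⟩ := h1
      have : x' = x := φ.injective hxx'
      rw [← this]; exact hx'
    have h2 := hE _ _ (isChiefFactor_comap_equiv φ hUV) hUP'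
    have h3 := Subgroup.map_mono (f := φ.toMonoidHom) h2
    rw [iterCommutator_map, Subgroup.map_comap_eq_self_of_surjective φ.surjective,
      Subgroup.map_comap_eq_self_of_surjective φ.surjective, MonoidHom.map_zpowers] at h3
    exact h3

/-- If the Engel hypothesis holds in all sections of `X`, then
`O_p(X) ∩ X' = O_p(X) ∩ N_X(W(T))'` for constrained `X`. -/
theorem opTransferProp_of_engel (hW : Cfsg.IsCharPFunctor.{u} p W) :
    ∀ (n : ℕ) (X : Type u) [Group X] [Finite X], Nat.card X ≤ n →
      SectionProp (EngelProp p W) X → OpTransferProp p W X := by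
  intro n
  induction n with
  | zero =>
    intro X _ _ hcard _
    exact absurd hcard (by have : 0 < Nat.card X := Nat.card_pos; omega)
  | succ n ih =>
  intro X _ _ hcard hsec hfin hcon T
  have h𝓦 : ∀ W' ∈ ({W} : Set (∀ (Q : Type u) [Group Q], Subgroup Q)),
      Cfsg.IsCharPFunctor.{u} p W' := by
    intro W' hW'
    rw [Set.mem_singleton_iff] at hW'
    rw [hW']; exact hW
  have hΦ := isoInvariant_OpTransferProp hW
  have hΦE := isoInvariant_EngelProp hW
  apply le_antisymm
  · by_cases hn : (Cfsg.inducedFunctor (G := X) W (T : Subgroup X)).Normal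
    · rw [Subgroup.normalizer_eq_top_iff.mpr hn]
      exact le_rfl
    · obtain ⟨g, hgT, hgP, hE⟩ := hsec.self hΦE hfin hcon T hn
      obtain ⟨M, hTM, hMtop, hM⟩ := exists_proper_of_engel T g hgT hgP hE
      have hlt : Nat.card M < Nat.card X := by
        have := card_lt_card_of_lt' (lt_top_iff_ne_top.mpr hMtop)
        rwa [Subgroup.card_top] at this
      have hsecM : SectionProp (EngelProp p W) ↥M := hsec.subgroup hΦE M
      have hOpM : SectionProp (OpTransferProp p W) ↥M := by
        intro K R hR
        apply ih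
        · calc Nat.card (↥K ⧸ R.subgroupOf K) ≤ Nat.card ↥K :=
                Nat.le_of_dvd Nat.card_pos (Subgroup.card_quotient_dvd_card _)
            _ ≤ Nat.card ↥M := Subgroup.card_le_card_group K
            _ ≤ n := by omega
        · exact (hsecM.subgroup hΦE K).quotient hΦE (R.subgroupOf K)
      have hctrl := controlsTransfer_of_pCore_condition hW _ ↥M rfl hOpM
      have h1 := inf_commutator_le_of_subgroup h𝓦 M hctrl hTM T.2 T.not_dvd_index
      have h2 : focalTarget (FamW {W} X) (T : Subgroup X) = (T : Subgroup X) ⊓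
          ⁅Subgroup.normalizer ((Cfsg.inducedFunctor (G := X) W (T : Subgroup X) : Subgroup X) : Set X),
            Subgroup.normalizer ((Cfsg.inducedFunctor (G := X) W (T : Subgroup X) : Subgroup X) : Set X)⁆ := by
        unfold focalTarget FamW
        rw [Set.image_singleton, iSup_singleton]
      rw [h2] at h1
      have hPT : Cfsg.pCore p X ≤ (T : Subgroup X) := pCore_le_sylow T
      intro x hx
      have hxM : x ∈ ⁅M, M⁆ := hM hx
      have hxP : x ∈ Cfsg.pCore p X := (Subgroup.mem_inf.mp hx).1
      have := h1 (Subgroup.mem_inf.mpr ⟨hPT hxP, hxM⟩)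
      exact Subgroup.mem_inf.mpr ⟨hxP, (Subgroup.mem_inf.mp this).2⟩
  · exact inf_le_inf_left _ (Subgroup.commutator_mono le_top le_top)

end Cfsg.Agent.Helper34
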