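import Cfsg.Agent.Helper38.FP.Defs

/-!
# S2276 piece (R1) for helper38: orbit reduction `claim_of_invPair`.
-/

set_option autoImplicit false
set_option linter.unusedVariables false
set_option linter.unusedSectionVars false

namespace Cfsg.Agent.Helper34.FP

open Equiv Cfsg.Agent.Helper38.FP

variable {α : Type} [Fintype α] [DecidableEq α] {p : ℕ}

/-- a permutation carrying `D` onto `C` (equal cardinalities) -/
theorem exists_perm_mapsTo (C D : Finset α) (hcard : C.card = D.card) :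
    ∃ g₀ : Perm α, ∀ a, g₀ a ∈ C ↔ a ∈ D := by
  classical
  have hc : Fintype.card {a // a ∈ D} = Fintype.card {a // a ∈ C} := by
    rw [Fintype.card_coe, Fintype.card_coe, hcard]
  let e : {a // a ∈ D} ≃ {a // a ∈ C} := Fintype.equivOfCardEq hc
  refine ⟨e.extendSubtype, fun a => ?_⟩
  by_cases ha : a ∈ D
  · exact ⟨fun _ => ha, fun _ => e.extendSubtype_mem a ha⟩
  · exact ⟨fun h => absurd h (e.extendSubtype_not_mem a ha), fun h => absurd h ha⟩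

/-- an even permutation carrying `D` onto `C` (`2 ≤ C.card`) -/
theorem exists_even_perm_mapsTo (C D : Finset α) (hcard : C.card = D.card) (h2 : 2 ≤ C.card) :
    ∃ g₀ : Perm α, Perm.sign g₀ = 1 ∧ ∀ a, g₀ a ∈ C ↔ a ∈ D := by
  obtain ⟨g₀, hg₀⟩ := exists_perm_mapsTo C D hcard
  rcases Int.units_eq_one_or (Perm.sign g₀) with hs | hs
  · exact ⟨g₀, hs, hg₀⟩
  · obtain ⟨c₁, hc₁, c₂, hc₂, hne⟩ := Finset.one_lt_card.1 (show 1 < C.card by omega)
    refine ⟨swap c₁ c₂ * g₀, ?_, fun a => ?_⟩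
    · rw [Perm.sign_mul, Perm.sign_swap hne, hs]; rfl
    · rw [Perm.mul_apply, ← hg₀ a]
      by_cases h1 : g₀ a = c₁
      · rw [h1, swap_apply_left]; exact ⟨fun _ => hc₁, fun _ => hc₂⟩
      · by_cases h2' : g₀ a = c₂
        · rw [h2', swap_apply_right]; exact ⟨fun _ => hc₂, fun _ => hc₁⟩
        · rw [swap_apply_of_ne_of_ne h1 h2']

/-- (R1) orbit reduction. -/
theorem claim_of_invPair [Fact p.Prime] (hp2 : p ≠ 2) (ih : IH p α)
    (u w : Perm α) (hpu : IsPEl p u) (hpw : IsPEl p w) (h : InvPair u w) :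
    ∃ g : Perm α, Perm.sign g = 1 ∧ Good p u (g * w * g⁻¹) := by
  obtain ⟨C, D, hC, hD, hcard, h5, hlt, ⟨a₀, ha₀C, hua₀⟩, ⟨d₀, hd₀D, hwd₀⟩⟩ := h
  obtain ⟨g₀, hs₀, hg₀⟩ := exists_even_perm_mapsTo C D hcard (by omega)
  -- `w₁` preserves `C`
  set w₁ : Perm α := g₀ * w * g₀⁻¹ with hw₁
  have hg₀inv : ∀ a, g₀⁻¹ a ∈ D ↔ a ∈ C := fun a => by
    rw [← hg₀ (g₀⁻¹ a)]; simp
  have hw₁C : ∀ a, w₁ a ∈ C ↔ a ∈ C := fun a => by
    rw [hw₁, Perm.mul_apply, Perm.mul_apply, hg₀, hD, hg₀inv]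
  have hpw₁ : IsPEl p w₁ := isPEl_conj_iff.2 hpw
  -- the restrictions
  have huC1 : u.subtypePerm hC ≠ 1 := by
    intro h1
    have := congrArg (fun f : Perm {a // a ∈ C} => (f ⟨a₀, ha₀C⟩ : α)) h1
    simp only [Perm.subtypePerm_apply, Perm.coe_one, id_eq] at this
    exact hua₀ this
  have hwC1 : w₁.subtypePerm hw₁C ≠ 1 := by
    intro h1
    have hmem : g₀ d₀ ∈ C := (hg₀ d₀).2 hd₀D
    have := congrArg (fun f : Perm {a // a ∈ C} => (f ⟨g₀ d₀, hmem⟩ : α)) h1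
    simp only [Perm.subtypePerm_apply, Perm.coe_one, id_eq] at this
    rw [hw₁, Perm.mul_apply, Perm.mul_apply] at this
    simp only [Perm.coe_inv, symm_apply_apply] at this
    exact hwd₀ (g₀.injective this)
  have hcardC : Fintype.card {a // a ∈ C} = C.card := Fintype.card_coe C
  obtain ⟨hh, hhs, hgood⟩ := ih {a // a ∈ C} (by rw [hcardC]; exact hlt) (by rw [hcardC]; exact h5)
    (u.subtypePerm hC) (w₁.subtypePerm hw₁C) huC1 hwC1
    (isPEl_subtypePerm u hC hpu) (isPEl_subtypePerm w₁ hw₁C hpw₁)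
  -- lift back
  have hA : ∀ a, (Perm.ofSubtype hh) a ∈ C ↔ a ∈ C := fun a =>
    Perm.ofSubtype_apply_mem_iff_mem hh a
  have hAinv : ∀ a, (Perm.ofSubtype hh)⁻¹ a ∈ C ↔ a ∈ C := fun a => by
    rw [← hA ((Perm.ofSubtype hh)⁻¹ a)]; simp
  set w₂ : Perm α := Perm.ofSubtype hh * w₁ * (Perm.ofSubtype hh)⁻¹ with hw₂
  have hw₂C : ∀ a, w₂ a ∈ C ↔ a ∈ C := fun a => by
    rw [hw₂, Perm.mul_apply, Perm.mul_apply, hA, hw₁C, hAinv]
  have e : w₂.subtypePerm hw₂C = hh * w₁.subtypePerm hw₁C * hh⁻¹ := by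
    ext x
    simp only [Perm.subtypePerm_apply, Perm.coe_mul, Function.comp_apply, hw₂]
    have h1 : (Perm.ofSubtype hh)⁻¹ (x : α) = ((hh⁻¹ x : {a // a ∈ C}) : α) := by
      rw [← map_inv, Perm.ofSubtype_apply_coe]
    rw [h1]
    exact Perm.ofSubtype_apply_coe hh ⟨w₁ ((hh⁻¹ x : {a // a ∈ C}) : α), (hw₁C _).2 (hh⁻¹ x).2⟩
  refine ⟨Perm.ofSubtype hh * g₀, ?_, ?_⟩
  · rw [Perm.sign_mul, Perm.sign_ofSubtype, hhs, hs₀, mul_one]
  · have hgg : Perm.ofSubtype hh * g₀ * w * (Perm.ofSubtype hh * g₀)⁻¹ = w₂ := by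
      rw [hw₂, hw₁]; group
    rw [hgg]
    apply good_of_subtypePerm u w₂ hC hw₂C
    rw [e]
    exact hgood

end Cfsg.Agent.Helper34.FP
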