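import Cfsg.Agent.Helper38.FP.Defs
import Cfsg.Agent.Helper88.FPGL

/-!
# S2276 piece (SB) for helper38: `select_big` (uses helper88's (GL) `exists_invariant_subset`).
-/

set_option autoImplicit false
set_option linter.unusedVariables false
set_option linter.unusedSectionVars false

namespace Cfsg.Agent.Helper34.FP

open Equiv Cfsg.Agent.Helper38.FP

variable {α : Type} [Fintype α] [DecidableEq α] {p : ℕ}

/-- a `p`-element has a cycle whose length is the full order -/
theorem exists_cycleOf_orderOf_eq [hp : Fact p.Prime] (u : Perm α) (hpu : IsPEl p u) (h1 : u ≠ 1) :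
    ∃ x₀ : α, orderOf (u.cycleOf x₀) = orderOf u := by
  obtain ⟨a, ha⟩ := hpu
  by_contra hcon
  push Not at hcon
  have ha0 : a ≠ 0 := by
    rintro rfl
    rw [pow_zero, orderOf_eq_one_iff] at ha
    exact h1 ha
  obtain ⟨a', rfl⟩ : ∃ a', a = a' + 1 := ⟨a - 1, by omega⟩
  have key : ∀ x, orderOf (u.cycleOf x) ∣ p ^ a' := by
    intro x
    have hd : orderOf (u.cycleOf x) ∣ p ^ (a' + 1) := ha ▸ Perm.orderOf_cycleOf_dvd_orderOf u x
    obtain ⟨j, hj, hj'⟩ := (Nat.dvd_prime_pow hp.out).1 hd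
    have hne : j ≠ a' + 1 := by
      rintro rfl
      exact hcon x (hj'.trans ha.symm)
    rw [hj']
    exact pow_dvd_pow p (by omega)
  have hpow : u ^ (p ^ a') = 1 := by
    ext x
    rw [← Perm.cycleOf_pow_apply_self, orderOf_dvd_iff_pow_eq_one.1 (key x)]
  have hdvd : orderOf u ∣ p ^ a' := orderOf_dvd_of_pow_eq_one hpow
  rw [ha] at hdvd
  have := Nat.le_of_dvd (pow_pos hp.out.pos a') hdvd
  have hlt : p ^ a' < p ^ (a' + 1) := Nat.pow_lt_pow_right hp.out.one_lt (Nat.lt_succ_self a')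
  omega

theorem select_big [hp : Fact p.Prime] (u w : Perm α) (hw1 : w ≠ 1) (hpu : IsPEl p u) (hpw : IsPEl p w)
    (hle : orderOf w ≤ orderOf u) (h5 : 5 ≤ orderOf u) :
    IsFull u ∨ InvPair u w := by
  have hu1 : u ≠ 1 := by
    rintro rfl
    rw [orderOf_one] at h5
    omega
  obtain ⟨x₀, hx₀⟩ := exists_cycleOf_orderOf_eq u hpu hu1
  set C := orb u x₀ with hCdef
  have hCcard : C.card = orderOf u := by rw [hCdef, card_orb, hx₀]
  have hCinv : ∀ a, u a ∈ C ↔ a ∈ C := fun a => apply_mem_orb_iff u x₀ a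
  by_cases hfull : C.card = Fintype.card α
  · left
    have hCuniv : C = Finset.univ := (Finset.card_eq_iff_eq_univ C).1 hfull
    intro a b
    have ha : a ∈ C := hCuniv ▸ Finset.mem_univ a
    have hb : b ∈ C := hCuniv ▸ Finset.mem_univ b
    exact (mem_orb.1 ha).symm.trans (mem_orb.1 hb)
  · right
    have hClt : C.card < Fintype.card α := lt_of_le_of_ne (Finset.card_le_univ C) hfull
    -- choose `y₀` with maximal cycle length for `w`
    obtain ⟨y₀, -, hy₀⟩ := Finset.exists_max_image (Finset.univ : Finset α)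
      (fun y => orderOf (w.cycleOf y)) ⟨x₀, Finset.mem_univ _⟩
    have hwy₀ : w y₀ ≠ y₀ := by
      intro hfix
      obtain ⟨y, hy⟩ : ∃ y, w y ≠ y := by
        by_contra hcon
        push Not at hcon
        exact hw1 (Perm.ext hcon)
      have h1 : w.cycleOf y₀ = 1 := (Perm.cycleOf_eq_one_iff w).2 hfix
      have h2 := hy₀ y (Finset.mem_univ _)
      rw [h1, orderOf_one] at h2
      have h3 : w.cycleOf y ≠ 1 := fun h => hy ((Perm.cycleOf_eq_one_iff w).1 h)
      have h4 : orderOf (w.cycleOf y) ≠ 1 := fun h => h3 (orderOf_eq_one_iff.1 h)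
      have h5' : 0 < orderOf (w.cycleOf y) := orderOf_pos _
      omega
    -- divisibility
    have hdvd : orderOf w ∣ orderOf u := by
      obtain ⟨a, ha⟩ := hpu
      obtain ⟨b, hb⟩ := hpw
      rw [ha, hb] at hle ⊢
      exact pow_dvd_pow p ((Nat.pow_le_pow_iff_right hp.out.one_lt).1 hle)
    obtain ⟨D, -, hDinv, hy₀D, hDcard⟩ := Cfsg.Agent.Helper88.FP.exists_invariant_subset w hpw Finset.univ
      (fun a => by simp) y₀ (Finset.mem_univ _) (fun y _ => hy₀ y (Finset.mem_univ _))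
      (orderOf u) (by omega)
      (fun y _ => dvd_trans (Perm.orderOf_cycleOf_dvd_orderOf w y) hdvd)
      (by rw [← hCcard, Finset.card_univ]; exact Finset.card_le_univ C)
    refine ⟨C, D, hCinv, hDinv, by rw [hCcard, hDcard], by rw [hCcard]; exact h5, hClt,
      ⟨x₀, self_mem_orb u x₀, ?_⟩, ⟨y₀, hy₀D, hwy₀⟩⟩
    intro hfix
    have h1 : u.cycleOf x₀ = 1 := (Perm.cycleOf_eq_one_iff u).2 hfix
    rw [h1, orderOf_one] at hx₀
    omega

end Cfsg.Agent.Helper34.FP
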