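import Mathlib

/-!
Piece (F9) for S4188 (helper34): a complemented abelian unique minimal normal subgroup `N` of odd
order is an `𝔽_r`-vector space on which the complement `P` acts faithfully by conjugation.
-/

set_option autoImplicit false

namespace Cfsg.Agent.Helper34.FratLin

open scoped Pointwise

universe u

/-- all elements of the abelian unique minimal normal subgroup `N` have order dividing the least
prime divisor of `|N|` -/
theorem pow_minFac_eq_one {G : Type u} [Group G] [Finite G] (N : Subgroup G) (hN : N.Normal)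
    (hNab : IsMulCommutative ↥N)
    (hmin : N ≠ ⊥ ∧ ∀ M : Subgroup G, M.Normal → M ≠ ⊥ → N ≤ M) :
    ∀ x ∈ N, x ^ (Nat.card ↥N).minFac = 1 := by
  obtain ⟨hNne, hNmin⟩ := hmin
  have hcard1 : Nat.card ↥N ≠ 1 := by
    rw [Ne, Subgroup.card_eq_one]; exact hNne
  set r := (Nat.card ↥N).minFac with hr
  have hrp : r.Prime := Nat.minFac_prime hcard1
  have hrdvd : r ∣ Nat.card ↥N := Nat.minFac_dvd _
  have : Fact r.Prime := ⟨hrp⟩
  let Ω : Subgroup G :=
    { carrier := {x | x ∈ N ∧ x ^ r = 1}
      one_mem' := ⟨N.one_mem, one_pow _⟩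
      mul_mem' := by
        rintro x y ⟨hx, hx1⟩ ⟨hy, hy1⟩
        refine ⟨N.mul_mem hx hy, ?_⟩
        have hc : x * y = y * x := congrArg Subtype.val (mul_comm' (⟨x, hx⟩ : ↥N) ⟨y, hy⟩)
        have hc' : Commute x y := hc
        rw [hc'.mul_pow, hx1, hy1, one_mul]
      inv_mem' := by
        rintro x ⟨hx, hx1⟩
        exact ⟨N.inv_mem hx, by rw [inv_pow, hx1, inv_one]⟩ }
  have hΩn : Ω.Normal := by
    refine ⟨fun x hx g => ?_⟩
    obtain ⟨hxN, hx1⟩ := hx
    refine ⟨hN.conj_mem x hxN g, ?_⟩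
    rw [conj_pow, hx1, mul_one, mul_inv_cancel]
  have hΩne : Ω ≠ ⊥ := by
    obtain ⟨x, hx⟩ := exists_prime_orderOf_dvd_card' (G := ↥N) r hrdvd
    intro hbot
    have hxΩ : (x : G) ∈ Ω := by
      refine ⟨x.2, ?_⟩
      have : x ^ r = 1 := by rw [← hx]; exact pow_orderOf_eq_one x
      have := congrArg Subtype.val this
      simpa using this
    rw [hbot, Subgroup.mem_bot] at hxΩ
    have hx1 : x = 1 := Subtype.ext hxΩ
    rw [hx1, orderOf_one] at hx
    exact hrp.one_lt.ne hx
  intro x hx
  exact (hNmin Ω hΩn hΩne hx).2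

/-- the kernel of the conjugation action of a complement on `N` is trivial -/
theorem eq_one_of_centralizes {G : Type u} [Group G] (N P : Subgroup G) (hN : N.Normal)
    (hdisj : N ⊓ P = ⊥) (hprod : N ⊔ P = ⊤)
    (hmin : N ≠ ⊥ ∧ ∀ M : Subgroup G, M.Normal → M ≠ ⊥ → N ≤ M)
    (p : G) (hp : p ∈ P) (hc : ∀ x ∈ N, p * x * p⁻¹ = x) : p = 1 := by
  obtain ⟨hNne, hNmin⟩ := hmin
  have hNn : N.Normal := hN
  set C := Subgroup.centralizer (N : Set G) with hC
  have hCn : C.Normal := Subgroup.normal_centralizer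
  set K : Subgroup G := P ⊓ C with hK
  have hKn : K.Normal := by
    refine ⟨fun k hk g => ?_⟩
    have hg : g ∈ N ⊔ P := by rw [hprod]; exact Subgroup.mem_top g
    have hg' : g ∈ (N : Set G) * (P : Set G) := by
      rw [← Subgroup.normal_mul]; exact hg
    obtain ⟨n, hn, q, hq, rfl⟩ := hg'
    have hk' : q * k * q⁻¹ ∈ K :=
      ⟨P.mul_mem (P.mul_mem hq hk.1) (P.inv_mem hq), hCn.conj_mem k hk.2 q⟩
    have hcomm : n⁻¹ * (q * k * q⁻¹) = (q * k * q⁻¹) * n⁻¹ :=
      (Subgroup.mem_centralizer_iff.mp hk'.2) n⁻¹ (N.inv_mem hn)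
    have : n * q * k * (n * q)⁻¹ = q * k * q⁻¹ := by
      have h1 : n * q * k * (n * q)⁻¹ = n * ((q * k * q⁻¹) * n⁻¹) := by group
      rw [h1, ← hcomm]; group
    rw [this]; exact hk'
  have hpK : p ∈ K := by
    refine ⟨hp, ?_⟩
    change p ∈ C
    rw [hC, Subgroup.mem_centralizer_iff]
    intro x hx
    have := hc x hx
    calc x * p = (p * x * p⁻¹) * p := by rw [this]
      _ = p * x := by group
  by_contra hp1
  have hKne : K ≠ ⊥ := fun h => hp1 (by rw [h, Subgroup.mem_bot] at hpK; exact hpK)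
  have hNK : N ≤ K := hNmin K hKn hKne
  have hNP : N ≤ N ⊓ P := le_inf le_rfl (hNK.trans inf_le_left)
  rw [hdisj] at hNP
  exact hNne (le_bot_iff.mp hNP)

/-- generic construction, with the module structure given -/
theorem exists_rep_of_mulAut_aux {A : Type u} [CommGroup A] {P : Type*} [Group P] (r : ℕ)
    [Module (ZMod r) (Additive A)] (φ : P →* MulAut A) (hφ : Function.Injective φ) :
    ∃ ρ : Representation (ZMod r) P (Additive A), Function.Injective ρ := by
  let ρ : P →* Module.End (ZMod r) (Additive A) :=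
    { toFun := fun p => AddMonoidHom.toZModLinearMap r
        (MonoidHom.toAdditive (φ p : A ≃* A).toMonoidHom)
      map_one' := by
        apply LinearMap.ext
        intro v
        simp
      map_mul' := by
        intro p q
        apply LinearMap.ext
        intro v
        simp [map_mul] }
  refine ⟨ρ, ?_⟩
  rw [injective_iff_map_eq_one]
  intro p hp
  apply hφ
  rw [map_one]
  apply MulEquiv.ext
  intro a
  have := LinearMap.congr_fun hp (Additive.ofMul a)
  exact this

/-- generic construction: a group acting faithfully by automorphisms on a finite commutative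
group of exponent `r` gives a faithful representation over `ZMod r` -/
theorem exists_rep_of_mulAut {A : Type u} [CommGroup A] [Finite A] {P : Type*} [Group P] (r : ℕ)
    [Fact r.Prime] (hexp : ∀ a : A, a ^ r = 1) (φ : P →* MulAut A)
    (hφ : Function.Injective φ) :
    ∃ (V : Type u) (_ : AddCommGroup V) (_ : Module (ZMod r) V)
      (_ : Finite V) (ρ : Representation (ZMod r) P V),
      Function.Injective ρ ∧ Nat.card A = Nat.card V := by
  have hV : ∀ v : Additive A, r • v = 0 := by
    intro v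
    have h2 : r • v = Additive.ofMul ((Additive.toMul v) ^ r) := rfl
    rw [h2, hexp]; rfl
  obtain ⟨ρ, hρ⟩ := @exists_rep_of_mulAut_aux A _ P _ r (AddCommGroup.zmodModule hV) φ hφ
  exact ⟨Additive A, inferInstance, AddCommGroup.zmodModule hV, inferInstance, ρ, hρ,
    Nat.card_congr Additive.ofMul⟩

theorem exists_faithful_rep {G : Type u} [Group G] [Finite G] (N P : Subgroup G) (hN : N.Normal)
    (hNab : IsMulCommutative ↥N) (hNodd : Odd (Nat.card ↥N)) (hdisj : N ⊓ P = ⊥)
    (hprod : N ⊔ P = ⊤) (hmin : N ≠ ⊥ ∧ ∀ M : Subgroup G, M.Normal → M ≠ ⊥ → N ≤ M) :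
    ∃ (r : ℕ) (_ : Fact r.Prime) (V : Type u) (_ : AddCommGroup V) (_ : Module (ZMod r) V)
      (_ : Finite V) (ρ : Representation (ZMod r) ↥P V),
      r ≠ 2 ∧ Function.Injective ρ ∧ Nat.card ↥N = Nat.card V := by
  have hexp := pow_minFac_eq_one N hN hNab hmin
  have hcard1 : Nat.card ↥N ≠ 1 := by
    rw [Ne, Subgroup.card_eq_one]; exact hmin.1
  set r := (Nat.card ↥N).minFac with hr
  have hrp : r.Prime := Nat.minFac_prime hcard1
  have hrdvd : r ∣ Nat.card ↥N := Nat.minFac_dvd _
  have hr2 : r ≠ 2 := by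
    intro h
    rw [h] at hrdvd
    exact (Nat.not_even_iff_odd.mpr hNodd) (even_iff_two_dvd.mpr hrdvd)
  have hNn : N.Normal := hN
  have hfact : Fact r.Prime := ⟨hrp⟩
  have hexp' : ∀ a : ↥N, a ^ r = 1 := by
    intro a
    apply Subtype.ext
    have := hexp (a : G) a.2
    simpa using this
  let φ : ↥P →* MulAut ↥N := (MulAut.conjNormal (H := N)).comp P.subtype
  have hφ : Function.Injective φ := by
    rw [injective_iff_map_eq_one]
    intro p hp
    apply Subtype.ext
    apply eq_one_of_centralizes N P hN hdisj hprod hmin (p : G) p.2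
    intro x hx
    have h2 : φ p ⟨x, hx⟩ = (1 : MulAut ↥N) ⟨x, hx⟩ := by rw [hp]
    have h3 := congrArg Subtype.val h2
    simpa [φ, MulAut.conjNormal_apply] using h3
  obtain ⟨V, i1, i2, i3, ρ, hρ, hc⟩ :=
    @exists_rep_of_mulAut ↥N
      { (inferInstance : Group ↥N) with mul_comm := fun a b => mul_comm' a b } _ ↥P _ r hfact
      hexp' φ hφ
  exact ⟨r, hfact, V, i1, i2, i3, ρ, hr2, hρ, hc⟩

end Cfsg.Agent.Helper34.FratLin
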