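import Mathlib
import Cfsg.Agent.Helper34.FratLinDefs
import Cfsg.Agent.Helper76.FratLinF1
import Cfsg.Agent.Helper68.FratLinF2
import Cfsg.Agent.Helper20.FratLinF3
import Cfsg.Agent.Helper24.FratLinF4
import Cfsg.Agent.Helper12.FratLinF5
import Cfsg.Agent.Helper4.FratLinF68
import Cfsg.Agent.Helper24.FratLinARITH
import Cfsg.Agent.Helper34.FratLinF9

/-!
Main induction for S4188 (helper34): every finite `2`-group acting faithfully and linearly on an
`n`-dimensional space over `ZMod r` (`r` an odd prime) has `i2 Q ≤ 2 ^ f n`.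
-/

set_option autoImplicit false

namespace Cfsg.Agent.Helper34.FratLin

open Cfsg.Agent.Helper76.FratLin Cfsg.Agent.Helper68.FratLin Cfsg.Agent.Helper20.FratLin
  Cfsg.Agent.Helper24.FratLin Cfsg.Agent.Helper12.FratLin Cfsg.Agent.Helper4.FratLin

universe u v

/-- All finite `2`-groups acting faithfully on an `m`-dimensional `ZMod r`-space have `i2 ≤ b`. -/
def Bound (r : ℕ) [Fact r.Prime] (m b : ℕ) : Prop :=
  ∀ (Q : Type u) [Group Q] [Finite Q] (V : Type v) [AddCommGroup V] [Module (ZMod r) V]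
    [Module.Finite (ZMod r) V] (ρ : Representation (ZMod r) Q V),
    IsPGroup 2 Q → Function.Injective ρ → Module.finrank (ZMod r) V = m → i2 Q ≤ b

/-- All finite `2`-groups acting faithfully on an `m`-dimensional `ZMod r`-space have order `≤ b`. -/
def CardBound (r : ℕ) [Fact r.Prime] (m b : ℕ) : Prop :=
  ∀ (Q : Type u) [Group Q] [Finite Q] (V : Type v) [AddCommGroup V] [Module (ZMod r) V]
    [Module.Finite (ZMod r) V] (ρ : Representation (ZMod r) Q V),
    IsPGroup 2 Q → Function.Injective ρ → Module.finrank (ZMod r) V = m → Nat.card Q ≤ b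

variable {r : ℕ} [Fact r.Prime]

section Invariant

variable {Q : Type u} [Group Q] {V : Type v} [AddCommGroup V] [Module (ZMod r) V]
  (ρ : Representation (ZMod r) Q V)

/-- the representation of `Q ⧸ K` on `W`, `K` the kernel of the action on `W` -/
noncomputable def quotRep (W : Submodule (ZMod r) V) (hW : ∀ g : Q, W ≤ W.comap (ρ g)) :
    Representation (ZMod r) (Q ⧸ (ρ.subrepresentation W hW).ker) W :=
  QuotientGroup.lift (ρ.subrepresentation W hW).ker (ρ.subrepresentation W hW) le_rfl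

theorem quotRep_injective (W : Submodule (ZMod r) V) (hW : ∀ g : Q, W ≤ W.comap (ρ g)) :
    Function.Injective (quotRep ρ W hW) := by
  rw [injective_iff_map_eq_one]
  intro q hq
  induction q using QuotientGroup.induction_on with
  | H g =>
    have : (ρ.subrepresentation W hW) g = 1 := hq
    exact (QuotientGroup.eq_one_iff g).mpr (MonoidHom.mem_ker.mpr this)

/-- the representation of the kernel `K` of the action on `W` on the quotient `V ⧸ W` -/
noncomputable def kerRep (W : Submodule (ZMod r) V) (hW : ∀ g : Q, W ≤ W.comap (ρ g)) :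
    Representation (ZMod r) (ρ.subrepresentation W hW).ker (V ⧸ W) :=
  (ρ.quotient W hW).comp (ρ.subrepresentation W hW).ker.subtype

theorem kerRep_injective (hr : r ≠ 2) (hQ : IsPGroup 2 Q) (hρ : Function.Injective ρ)
    (W : Submodule (ZMod r) V) (hW : ∀ g : Q, W ≤ W.comap (ρ g)) :
    Function.Injective (kerRep ρ W hW) := by
  rw [injective_iff_map_eq_one]
  intro k hk
  have h1 : (ρ.subrepresentation W hW) (k : Q) = 1 := MonoidHom.mem_ker.mp k.2
  have h2 : (ρ.quotient W hW) (k : Q) = 1 := hk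
  exact Subtype.ext (eq_one_of_sub_of_quot hr hQ ρ hρ W hW (k : Q) h1 h2)

variable [Finite Q] [Module.Finite (ZMod r) V]

theorem i2_le_of_invariant (hr : r ≠ 2) (hQ : IsPGroup 2 Q) (hρ : Function.Injective ρ)
    (W : Submodule (ZMod r) V) (hW : ∀ g : Q, W ≤ W.comap (ρ g)) {b1 b2 : ℕ}
    (h1 : Bound.{u, v} r (Module.finrank (ZMod r) W) b1)
    (h2 : Bound.{u, v} r (Module.finrank (ZMod r) (V ⧸ W)) b2) : i2 Q ≤ b2 * b1 := by
  set K := (ρ.subrepresentation W hW).ker with hK
  have hle := i2_le_mul K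
  have hb1 : i2 (Q ⧸ K) ≤ b1 :=
    h1 (Q ⧸ K) W (quotRep ρ W hW) (hQ.to_quotient K) (quotRep_injective ρ W hW) rfl
  have hb2 : i2 K ≤ b2 :=
    h2 K (V ⧸ W) (kerRep ρ W hW) (hQ.to_subgroup K) (kerRep_injective ρ hr hQ hρ W hW) rfl
  calc i2 Q ≤ i2 K * i2 (Q ⧸ K) := hle
    _ ≤ b2 * b1 := Nat.mul_le_mul hb2 hb1

theorem card_le_of_invariant (hr : r ≠ 2) (hQ : IsPGroup 2 Q) (hρ : Function.Injective ρ)
    (W : Submodule (ZMod r) V) (hW : ∀ g : Q, W ≤ W.comap (ρ g)) {b1 b2 : ℕ}
    (h1 : CardBound.{u, v} r (Module.finrank (ZMod r) W) b1)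
    (h2 : CardBound.{u, v} r (Module.finrank (ZMod r) (V ⧸ W)) b2) : Nat.card Q ≤ b1 * b2 := by
  set K := (ρ.subrepresentation W hW).ker with hK
  have hb1 : Nat.card (Q ⧸ K) ≤ b1 :=
    h1 (Q ⧸ K) W (quotRep ρ W hW) (hQ.to_quotient K) (quotRep_injective ρ W hW) rfl
  have hb2 : Nat.card K ≤ b2 :=
    h2 K (V ⧸ W) (kerRep ρ W hW) (hQ.to_subgroup K) (kerRep_injective ρ hr hQ hρ W hW) rfl
  rw [Subgroup.card_eq_card_quotient_mul_card_subgroup K]
  exact Nat.mul_le_mul hb1 hb2

end Invariant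

/-- dimension `0`: the group is trivial -/
theorem cardBound_zero : CardBound.{u, v} r 0 1 := by
  intro Q _ _ V _ _ _ ρ _ hρ h0
  have hV : Subsingleton V := Module.finrank_zero_iff.mp h0
  have hsub : Subsingleton Q := by
    refine ⟨fun a b => hρ ?_⟩
    apply LinearMap.ext
    intro x
    exact Subsingleton.elim _ _
  exact le_of_eq (Nat.card_unique)

theorem bound_zero : Bound.{u, v} r 0 1 := by
  intro Q _ _ V _ _ _ ρ hQ hρ h0
  exact le_trans i2_le_card (cardBound_zero Q V ρ hQ hρ h0)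

/-- dimension `1`: the group is cyclic of order dividing `r - 1` -/
theorem cardBound_one : CardBound.{u, v} r 1 (r - 1) := by
  intro Q _ _ V _ _ _ ρ _ hρ h1
  obtain ⟨χ, hχ⟩ := exists_injective_units_of_finrank_one ρ hρ h1
  have h : Nat.card (ZMod r)ˣ = r - 1 := by rw [Nat.card_eq_fintype_card, ZMod.card_units]
  exact h ▸ Nat.card_le_card_of_injective χ hχ

theorem bound_one : Bound.{u, v} r 1 2 := by
  intro Q _ _ V _ _ _ ρ _ hρ h1
  obtain ⟨χ, hχ⟩ := exists_injective_units_of_finrank_one ρ hρ h1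
  have hcyc : IsCyclic Q :=
    isCyclic_of_injective_ringHom ((Units.coeHom (ZMod r)).comp χ)
      (Units.val_injective.comp hχ)
  exact i2_le_two_of_isCyclic

section Step

variable {Q : Type u} [Group Q] [Finite Q] {V : Type v} [AddCommGroup V] [Module (ZMod r) V]
  [Module.Finite (ZMod r) V] (ρ : Representation (ZMod r) Q V)

theorem two_ne_zero_zmod (hr : r ≠ 2) : (2 : ZMod r) ≠ 0 := by
  intro h
  have h2 : ((2 : ℕ) : ZMod r) = 0 := by exact_mod_cast h
  rw [ZMod.natCast_eq_zero_iff] at h2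
  have hp : r.Prime := Fact.out
  have := (Nat.prime_dvd_prime_iff_eq hp Nat.prime_two).mp h2
  exact hr this

/-- the structure obtained in the irreducible case with a noncyclic normal abelian subgroup -/
theorem exists_half (hr : r ≠ 2) (hQ : IsPGroup 2 Q) (hρ : Function.Injective ρ)
    (hirr : Irred ρ)
    (hnc : ¬ ∀ A : Subgroup Q, A.Normal → IsMulCommutative A → IsCyclic A) :
    ∃ (a x : Q) (W : Submodule (ZMod r) V),
      x * a ≠ a * x ∧ (Subgroup.centralizer ({a} : Set Q)).index = 2 ∧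
      (∀ g : Subgroup.centralizer ({a} : Set Q),
        W ≤ W.comap ((ρ.comp (Subgroup.centralizer ({a} : Set Q)).subtype) g)) ∧
      2 * Module.finrank (ZMod r) W = Module.finrank (ZMod r) V := by
  push Not at hnc
  obtain ⟨A, hAn, hAc, hAnc⟩ := hnc
  have huniq : ∀ c c' : Q, c ∈ Subgroup.center Q → c' ∈ Subgroup.center Q → c ^ 2 = 1 →
      c' ^ 2 = 1 → c ≠ 1 → c' ≠ 1 → c = c' := by
    intro c c' hc hc' hc2 hc'2 hc1 hc'1
    apply hρ
    apply LinearMap.ext
    intro v
    rw [central_involution_eq_neg ρ hρ hirr c hc hc2 hc1 v,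
      central_involution_eq_neg ρ hρ hirr c' hc' hc'2 hc'1 v]
  obtain ⟨a, z, x, hzc, hz1, hz2, ha2, hx, hidx⟩ :=
    exists_noncentral_involution hQ A hAn hAc hAnc huniq
  have hzneg := central_involution_eq_neg ρ hρ hirr z hzc hz2 hz1
  refine ⟨a, x, LinearMap.ker (ρ a - 1), ?_, hidx, ?_, ?_⟩
  · intro h
    rw [h, mul_inv_cancel_right] at hx
    exact hz1 (mul_left_cancel (a := a) (by rw [mul_one]; exact hx.symm))
  · intro g
    exact fixed_invariant ρ a (g : Q) (Subgroup.mem_centralizer_singleton_iff.mp g.2)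
  · exact two_mul_finrank_fixed (two_ne_zero_zmod hr) ρ a z x ha2 hzneg hx

theorem step (hr : r ≠ 2) (hQ : IsPGroup 2 Q) (hρ : Function.Injective ρ) (hirr : Irred ρ)
    (b : ℕ → ℕ) (n : ℕ) (hn : Module.finrank (ZMod r) V = n) (hn0 : 0 < n)
    (IH : ∀ m < n, Bound.{u, v} r m (b m)) :
    i2 Q ≤ 8 ∨ ∃ m, n = 2 * m ∧ i2 Q ≤ 2 * (b m * b m) := by
  by_cases hcyc : ∀ A : Subgroup Q, A.Normal → IsMulCommutative A → IsCyclic A
  · exact Or.inl (i2_le_of_normal_abelian_cyclic hQ hcyc).1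
  · right
    obtain ⟨a, x, W, -, hidx, hW, hdim⟩ := exists_half ρ hr hQ hρ hirr hcyc
    set M := Subgroup.centralizer ({a} : Set Q) with hM
    set m := Module.finrank (ZMod r) W with hm
    have hnm : n = 2 * m := by rw [← hn, hdim]
    have hmn : m < n := by omega
    have hquot : Module.finrank (ZMod r) (V ⧸ W) = m := by
      have := Submodule.finrank_quotient_add_finrank W
      omega
    refine ⟨m, hnm, ?_⟩
    have hρM : Function.Injective (ρ.comp M.subtype) := hρ.comp M.subtype_injective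
    have hiM : i2 M ≤ b m * b m :=
      i2_le_of_invariant (ρ.comp M.subtype) hr (hQ.to_subgroup M) hρM W hW
        (IH m hmn) (hquot ▸ IH m hmn)
    calc i2 Q ≤ 2 * i2 M := i2_le_two_mul_of_index_two M hidx
      _ ≤ 2 * (b m * b m) := Nat.mul_le_mul_left 2 hiM

end Step

/-- the main induction -/
theorem bound_main (hr : r ≠ 2) (f : ℕ → ℕ) (hf1 : 1 ≤ f 1)
    (hadd : ∀ a b, 1 ≤ a → 1 ≤ b → f a + f b ≤ f (a + b))
    (hA : ∀ m, 2 ≤ m → 1 + 2 * f m ≤ f (2 * m)) (hB : ∀ n, 3 ≤ n → 3 ≤ f n)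
    (h2 : ∀ (Q : Type u) [Group Q] [Finite Q] (V : Type v) [AddCommGroup V] [Module (ZMod r) V]
      [Module.Finite (ZMod r) V] (ρ : Representation (ZMod r) Q V),
      IsPGroup 2 Q → Function.Injective ρ → Irred ρ → Module.finrank (ZMod r) V = 2 →
      i2 Q ≤ 2 ^ f 2) :
    ∀ n, Bound.{u, v} r n (2 ^ f n) := by
  intro n
  induction n using Nat.strong_induction_on with
  | _ n IH =>
  intro Q _ _ V _ _ _ ρ hQ hρ hn
  rcases Nat.eq_zero_or_pos n with h0 | hpos
  · subst h0
    exact le_trans (bound_zero Q V ρ hQ hρ hn) Nat.one_le_two_pow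
  by_cases hirr : Irred ρ
  · -- irreducible
    rcases Nat.lt_or_ge n 2 with hlt | hge
    · have h1 : n = 1 := by omega
      subst h1
      calc i2 Q ≤ 2 := bound_one Q V ρ hQ hρ hn
        _ = 2 ^ 1 := (pow_one 2).symm
        _ ≤ 2 ^ f 1 := Nat.pow_le_pow_right (by norm_num) hf1
    rcases Nat.lt_or_ge n 3 with hlt3 | hge3
    · have h2' : n = 2 := by omega
      subst h2'
      exact h2 Q V ρ hQ hρ hirr hn
    rcases step ρ hr hQ hρ hirr (fun m => 2 ^ f m) n hn hpos IH with h8 | ⟨m, hnm, hm⟩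
    · calc i2 Q ≤ 8 := h8
        _ = 2 ^ 3 := by norm_num
        _ ≤ 2 ^ f n := Nat.pow_le_pow_right (by norm_num) (hB n hge3)
    · have hm2 : 2 ≤ m := by omega
      calc i2 Q ≤ 2 * (2 ^ f m * 2 ^ f m) := hm
        _ = 2 ^ (1 + 2 * f m) := by ring
        _ ≤ 2 ^ f (2 * m) := Nat.pow_le_pow_right (by norm_num) (hA m hm2)
        _ = 2 ^ f n := by rw [hnm]
  · -- reducible
    unfold Irred at hirr
    push Not at hirr
    obtain ⟨W, hW, hWbot, hWtop⟩ := hirr
    have hwlt : Module.finrank (ZMod r) W < n := hn ▸ Submodule.finrank_lt hWtop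
    have hwpos : 0 < Module.finrank (ZMod r) W := by
      rw [Nat.pos_iff_ne_zero]
      intro h
      exact hWbot (Submodule.finrank_eq_zero.mp h)
    have hquot : Module.finrank (ZMod r) (V ⧸ W) + Module.finrank (ZMod r) W = n := by
      rw [← hn]; exact Submodule.finrank_quotient_add_finrank W
    set w := Module.finrank (ZMod r) W with hw
    set q := Module.finrank (ZMod r) (V ⧸ W) with hq
    have hqlt : q < n := by omega
    have hqpos : 1 ≤ q := by omega
    have := i2_le_of_invariant ρ hr hQ hρ W hW (IH w hwlt) (IH q hqlt)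
    calc i2 Q ≤ 2 ^ f q * 2 ^ f w := this
      _ = 2 ^ (f q + f w) := (pow_add 2 _ _).symm
      _ ≤ 2 ^ f (q + w) := Nat.pow_le_pow_right (by norm_num) (hadd q w hqpos hwpos)
      _ = 2 ^ f n := by rw [hquot]

end Cfsg.Agent.Helper34.FratLin
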