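import Mathlib
import Cfsg.Agent.Helper34.FratLinDefs
import Cfsg.Agent.Helper76.FratLinF1
import Cfsg.Agent.Helper68.FratLinF2
import Cfsg.Agent.Helper20.FratLinF3
import Cfsg.Agent.Helper24.FratLinF4
import Cfsg.Agent.Helper12.FratLinF5
import Cfsg.Agent.Helper4.FratLinF68
import Cfsg.Agent.Helper24.FratLinARITH
import Cfsg.Agent.Helper34.FratLinF9
import Cfsg.Agent.Helper34.FratLinMain

/-!
The two-dimensional irreducible cases and the final bound for S4188 (helper34).
-/

set_option autoImplicit false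

namespace Cfsg.Agent.Helper34.FratLin

open Cfsg.Agent.Helper76.FratLin Cfsg.Agent.Helper68.FratLin Cfsg.Agent.Helper20.FratLin
  Cfsg.Agent.Helper24.FratLin Cfsg.Agent.Helper12.FratLin Cfsg.Agent.Helper4.FratLin

universe u v

section H2

variable {r : ℕ} [Fact r.Prime]

/-- irreducible, dimension `2`, any odd `r`: `i2 Q ≤ 8` -/
theorem h2_five (hr : r ≠ 2) (Q : Type u) [Group Q] [Finite Q] (V : Type v) [AddCommGroup V]
    [Module (ZMod r) V] [Module.Finite (ZMod r) V] (ρ : Representation (ZMod r) Q V)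
    (hQ : IsPGroup 2 Q) (hρ : Function.Injective ρ) (hirr : Irred ρ)
    (h2 : Module.finrank (ZMod r) V = 2) : i2 Q ≤ 2 ^ f5 2 := by
  have IH : ∀ m < 2, Bound.{u, v} r m ((fun m => if m = 0 then 1 else 2) m) := by
    intro m hm
    interval_cases m
    · simpa using bound_zero.{u, v} (r := r)
    · simpa using bound_one.{u, v} (r := r)
  have h8 : 2 ^ f5 2 = 8 := by simp [f5]
  rw [h8]
  rcases step ρ hr hQ hρ hirr (fun m => if m = 0 then 1 else 2) 2 h2 (by norm_num) IH with
    h | ⟨m, hm, h⟩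
  · exact h
  · have hm1 : m = 1 := by omega
    subst hm1
    simpa using h

end H2

/-- irreducible, dimension `2`, `r = 3`: `i2 Q ≤ 4` -/
theorem h2_three [Fact (Nat.Prime 3)] (Q : Type u) [Group Q] [Finite Q] (V : Type v)
    [AddCommGroup V] [Module (ZMod 3) V] [Module.Finite (ZMod 3) V]
    (ρ : Representation (ZMod 3) Q V)
    (hQ : IsPGroup 2 Q) (hρ : Function.Injective ρ) (hirr : Irred ρ)
    (h2 : Module.finrank (ZMod 3) V = 2) : i2 Q ≤ 2 ^ f3 2 := by
  have h4 : 2 ^ f3 2 = 4 := by simp [f3]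
  rw [h4]
  have h48 : Nat.card Q ∣ 48 := card_dvd_of_faithful_dim_two_three ρ hρ h2
  have : Fact (Nat.Prime 2) := ⟨Nat.prime_two⟩
  obtain ⟨k, hk⟩ := hQ.exists_card_eq
  have hk4 : k ≤ 4 := by
    by_contra hlt
    push Not at hlt
    have h32 : 2 ^ 5 ∣ Nat.card Q := hk ▸ Nat.pow_dvd_pow 2 hlt
    have : 2 ^ 5 ∣ 48 := dvd_trans h32 h48
    norm_num at this
  have hcard : Nat.card Q ≤ 16 := by
    rw [hk]
    calc 2 ^ k ≤ 2 ^ 4 := Nat.pow_le_pow_right (by norm_num) hk4
      _ = 16 := by norm_num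
  have h32' : (3 : ℕ) ≠ 2 := by norm_num
  by_cases hcyc : ∀ A : Subgroup Q, A.Normal → IsMulCommutative A → IsCyclic A
  · exact (i2_le_of_normal_abelian_cyclic hQ hcyc).2 hcard
  · obtain ⟨a, x, W, hxa, hidx, hW, hdim⟩ := exists_half ρ h32' hQ hρ hirr hcyc
    set M := Subgroup.centralizer ({a} : Set Q) with hM
    have hw1 : Module.finrank (ZMod 3) W = 1 := by omega
    have hq1 : Module.finrank (ZMod 3) (V ⧸ W) = 1 := by
      have := Submodule.finrank_quotient_add_finrank W
      omega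
    have hρM : Function.Injective (ρ.comp M.subtype) := hρ.comp M.subtype_injective
    have hb : CardBound.{u, v} 3 1 2 := by
      have := cardBound_one.{u, v} (r := 3)
      simpa using this
    have hMc : Nat.card M ≤ 2 * 2 :=
      card_le_of_invariant (ρ.comp M.subtype) h32' (hQ.to_subgroup M) hρM W hW
        (hw1 ▸ hb) (hq1 ▸ hb)
    have hQc : Nat.card Q = Nat.card M * 2 := by
      rw [← hidx, Subgroup.card_mul_index]
    have hnc : ¬ ∀ a b : Q, a * b = b * a := fun h => hxa (h x a)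
    have := two_mul_i2_le_card_of_not_comm hnc
    omega

/-- the final bound: S4188 -/
theorem index_frattini_le {G : Type u} [Group G] [Finite G] (N P : Subgroup G) (hN : N.Normal)
    (hNab : IsMulCommutative ↥N) (hNodd : Odd (Nat.card ↥N)) (hP : IsPGroup 2 ↥P)
    (hdisj : N ⊓ P = ⊥) (hprod : N ⊔ P = ⊤)
    (hmin : N ≠ ⊥ ∧ ∀ M : Subgroup G, M.Normal → M ≠ ⊥ → N ≤ M) :
    (frattini ↥P).index ≤ Nat.card ↥N - 1 := by
  obtain ⟨r, hrp, V, iV, iM, iF, ρ, hr2, hρ, hcard⟩ :=
    exists_faithful_rep N P hN hNab hNodd hdisj hprod hmin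
  have : Module.Finite (ZMod r) V := Module.Finite.of_finite
  set n := Module.finrank (ZMod r) V with hn
  have hVcard : Nat.card V = r ^ n := by
    rw [Module.natCard_eq_pow_finrank (K := ZMod r) (V := V), Nat.card_zmod]
  have hN1 : 1 < Nat.card ↥N := by
    rw [Subgroup.one_lt_card_iff_ne_bot]
    exact hmin.1
  have hn1 : 1 ≤ n := by
    rw [hcard, hVcard] at hN1
    by_contra h
    have : n = 0 := by omega
    rw [this, pow_zero] at hN1
    exact lt_irrefl _ hN1
  have hfr : (frattini ↥P).index ≤ i2 ↥P := index_frattini_le_i2 hP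
  rw [hcard, hVcard]
  refine le_trans hfr ?_
  by_cases h3 : r = 3
  · subst h3
    have hb := bound_main.{u, u} (r := 3) hr2 f3 (le_of_eq f3_one.symm) f3_add f3_A f3_B
      (fun Q _ _ V _ _ _ ρ hQ hρ hirr h2 => h2_three Q V ρ hQ hρ hirr h2) n
    exact le_trans (hb ↥P V ρ hP hρ rfl) (two_pow_f3_le n hn1)
  · have hr5 : 5 ≤ r := by
      have hp : r.Prime := hrp.out
      have h2le := hp.two_le
      have h4 : r ≠ 4 := by
        intro h4
        rw [h4] at hp
        norm_num at hp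
      omega
    have hb := bound_main.{u, u} (r := r) hr2 f5 (le_of_eq f5_one.symm) f5_add
      (fun m hm => f5_A m (by omega)) (fun n hn => f5_B n (by omega))
      (fun Q _ _ V _ _ _ ρ hQ hρ hirr h2 => h2_five hr2 Q V ρ hQ hρ hirr h2) n
    exact le_trans (hb ↥P V ρ hP hρ rfl) (two_pow_f5_le r n hr5 hn1)

end Cfsg.Agent.Helper34.FratLin
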