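import Mathlib
import Cfsg.Agent.Helper34.Gaschutz

set_option autoImplicit false

namespace Cfsg.Agent.Helper34

open scoped IsMulCommutative

section Crossed

variable {G : Type*} [Group G] (K : Subgroup G) [K.Normal] [IsMulCommutative K]

/-- crossed homomorphisms `G → K` for the conjugation action of `G` on the abelian normal
subgroup `K` -/
def IsCrossed (c : G → ↥K) : Prop :=
  ∀ g g' : G, c (g * g') = c g * MulAut.conjNormal g (c g')

omit [IsMulCommutative K] in
theorem isCrossed_one : IsCrossed K (fun _ => 1) := by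
  intro g g'
  simp

theorem IsCrossed.mul {c₁ c₂ : G → ↥K} (h1 : IsCrossed K c₁) (h2 : IsCrossed K c₂) :
    IsCrossed K (fun g => c₁ g * c₂ g) := by
  intro g g'
  simp only
  rw [h1 g g', h2 g g', map_mul]
  exact mul_mul_mul_comm _ _ _ _

theorem IsCrossed.inv {c : G → ↥K} (h : IsCrossed K c) : IsCrossed K (fun g => (c g)⁻¹) := by
  intro g g'
  simp only
  rw [h g g', mul_inv, map_inv]

omit [IsMulCommutative K] in
theorem IsCrossed.map_one {c : G → ↥K} (h : IsCrossed K c) : c 1 = 1 := by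
  have := h 1 1
  rw [mul_one, _root_.map_one, MulAut.one_apply] at this
  exact left_eq_mul.mp this

/-- the exponents `m` such that some crossed homomorphism restricts to the `m`-th power map on `K` -/
def crossedExponents : AddSubgroup ℤ where
  carrier := {m | ∃ c : G → ↥K, IsCrossed K c ∧ ∀ k : ↥K, c (k : G) = k ^ m}
  zero_mem' := ⟨fun _ => 1, isCrossed_one K, fun k => (zpow_zero k).symm⟩
  add_mem' := by
    rintro a b ⟨c₁, h1, h1'⟩ ⟨c₂, h2, h2'⟩
    exact ⟨fun g => c₁ g * c₂ g, h1.mul K h2, fun k => by simp only; rw [h1', h2', zpow_add]⟩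
  neg_mem' := by
    rintro a ⟨c, h, h'⟩
    exact ⟨fun g => (c g)⁻¹, h.inv K, fun k => by simp only; rw [h', zpow_neg]⟩

theorem mem_crossedExponents (m : ℤ) :
    m ∈ crossedExponents K ↔ ∃ c : G → ↥K, IsCrossed K c ∧ ∀ k : ↥K, c (k : G) = k ^ m := Iff.rfl

/-- a crossed homomorphism restricting to the identity on `K` gives a complement of `K` -/
theorem exists_complement_of_one_mem (h : (1 : ℤ) ∈ crossedExponents K) :
    ∃ H : Subgroup G, Subgroup.IsComplement' K H := by
  obtain ⟨c, hc, hck⟩ := h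
  have hck' : ∀ k : ↥K, c (k : G) = k := fun k => by rw [hck k, zpow_one]
  have hone := hc.map_one K
  let H : Subgroup G :=
    { carrier := {g | c g = 1}
      mul_mem' := by
        intro a b ha hb
        simp only [Set.mem_ofPred_eq] at ha hb ⊢
        rw [hc, ha, hb, _root_.map_one, mul_one]
      one_mem' := hone
      inv_mem' := by
        intro a ha
        simp only [Set.mem_ofPred_eq] at ha ⊢
        have := hc a a⁻¹
        rw [mul_inv_cancel, hone, ha, one_mul] at this
        have h2 : MulAut.conjNormal a (c a⁻¹) = MulAut.conjNormal a 1 := by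
          rw [_root_.map_one]; exact this.symm
        exact (MulAut.conjNormal a).injective h2 }
  have hmemH : ∀ g : G, g ∈ H ↔ c g = 1 := fun g => Iff.rfl
  refine ⟨H, Subgroup.isComplement'_of_disjoint_and_mul_eq_univ ?_ ?_⟩
  · rw [Subgroup.disjoint_def]
    intro x hxK hxH
    rw [hmemH] at hxH
    have h1 := hck' ⟨x, hxK⟩
    simp only at h1
    rw [hxH] at h1
    exact (congrArg Subtype.val h1).symm
  · rw [Set.eq_univ_iff_forall]
    intro g
    set k : ↥K := c g with hk
    refine ⟨(k : G), k.2, (k : G)⁻¹ * g, ?_, by group⟩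
    show (k : G)⁻¹ * g ∈ H
    rw [hmemH, hc]
    have h1 : c ((k : G)⁻¹) = k⁻¹ := by
      have := hck' k⁻¹
      simpa using this
    have h2 : MulAut.conjNormal ((k : G)⁻¹) (c g) = c g := by
      apply Subtype.ext
      rw [MulAut.conjNormal_apply]
      have hcm := mul_comm (k⁻¹) (c g)
      have hc' := congrArg Subtype.val hcm
      simp only [Subgroup.coe_mul, Subgroup.coe_inv] at hc'
      rw [hc']
      group
    rw [h1, h2, ← hk, inv_mul_cancel]

/-- the averaging construction: the index of a subgroup `U ≥ K` in which `K` has a complement is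
an achievable exponent -/
theorem index_mem_crossedExponents [Finite G] (U A : Subgroup G) (hKU : K ≤ U) (hAK : A ⊓ K = ⊥)
    (hKA : K ⊔ A = U) : (U.index : ℤ) ∈ crossedExponents K := by
  classical
  let _ : Fintype (G ⧸ U) := Fintype.ofFinite _
  refine ⟨Gasch.cFun K U A, Gasch.cFun_mul K U A hAK hKA, fun k => ?_⟩
  rw [Gasch.cFun_of_mem K U A hKU hAK k, zpow_natCast]

end Crossed

/-- an additive subgroup of `ℤ` containing, for every prime `p ∣ n`, a divisor of `n` prime to `p`,
contains `1` -/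
theorem one_mem_of_forall_prime (M : AddSubgroup ℤ) (n : ℕ) (hn : n ≠ 1)
    (h : ∀ p : ℕ, p.Prime → p ∣ n → ∃ m : ℕ, (m : ℤ) ∈ M ∧ m ∣ n ∧ ¬ p ∣ m) : (1 : ℤ) ∈ M := by
  obtain ⟨d, hd⟩ := Int.subgroup_cyclic M
  have hdvd : ∀ m : ℕ, (m : ℤ) ∈ M → d.natAbs ∣ m := by
    intro m hm
    rw [hd, AddSubgroup.mem_closure_singleton] at hm
    obtain ⟨k, hk⟩ := hm
    have : d ∣ (m : ℤ) := ⟨k, by rw [← hk]; simp [mul_comm]⟩
    exact Int.natAbs_dvd_natAbs.mpr this |>.trans (by simp)
  by_cases he : d.natAbs = 1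
  · have hdM : d ∈ M := by rw [hd]; exact AddSubgroup.subset_closure rfl
    rcases Int.natAbs_eq d with h1 | h1
    · rw [he] at h1
      rw [h1] at hdM
      exact_mod_cast hdM
    · rw [he] at h1
      rw [h1] at hdM
      have := M.neg_mem hdM
      simpa using this
  · exfalso
    obtain ⟨q, hq, hqd⟩ := Nat.exists_prime_and_dvd he
    obtain ⟨p₀, hp₀, hp₀n⟩ := Nat.exists_prime_and_dvd hn
    obtain ⟨m₀, hm₀M, hm₀n, -⟩ := h p₀ hp₀ hp₀n
    have hqn : q ∣ n := (hqd.trans (hdvd m₀ hm₀M)).trans hm₀n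
    obtain ⟨m, hmM, -, hqm⟩ := h q hq hqn
    exact hqm (hqd.trans (hdvd m hmM))

/-- **Gaschütz's theorem, general form**: an abelian normal subgroup `A` has a complement in `G`
as soon as, for every prime `p` dividing its index, it has a complement in the preimage of some
Sylow `p`-subgroup of `G ⧸ A`. -/
theorem exists_complement_of_sylow_complements {G : Type*} [Group G] [Finite G] (A : Subgroup G)
    [A.Normal] [IsMulCommutative A]
    (h : ∀ p : ℕ, p.Prime → p ∣ A.index → ∃ (S : Sylow p (G ⧸ A)) (K : Subgroup G),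
      K ⊓ A = ⊥ ∧ K ⊔ A = (S : Subgroup (G ⧸ A)).comap (QuotientGroup.mk' A)) :
    ∃ H : Subgroup G, Subgroup.IsComplement' A H := by
  by_cases hA1 : A.index = 1
  · have hAtop : A = ⊤ := Subgroup.index_eq_one.mp hA1
    exact ⟨⊥, hAtop ▸ Subgroup.isComplement'_top_bot⟩
  apply exists_complement_of_one_mem
  apply one_mem_of_forall_prime _ A.index hA1
  intro p hp hpA
  obtain ⟨S, K, hKA, hKAU⟩ := h p hp hpA
  have : Fact p.Prime := ⟨hp⟩
  set U : Subgroup G := (S : Subgroup (G ⧸ A)).comap (QuotientGroup.mk' A) with hU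
  have hAU : A ≤ U := by
    rw [← hKAU]; exact le_sup_right
  have hidx : U.index = (S : Subgroup (G ⧸ A)).index :=
    Subgroup.index_comap_of_surjective _ (QuotientGroup.mk'_surjective A)
  refine ⟨U.index, ?_, Subgroup.index_dvd_of_le hAU, ?_⟩
  · exact index_mem_crossedExponents A U K hAU hKA (by rw [sup_comm]; exact hKAU)
  · rw [hidx]
    exact S.not_dvd_index

/-- the converse direction: a complement of `A` in `G` gives complements of `A` in the preimages
of Sylow subgroups of `G ⧸ A` -/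
theorem exists_sylow_complement_of_complement {G : Type*} [Group G] [Finite G] (A : Subgroup G)
    [A.Normal] (K : Subgroup G) (hK : K.IsComplement' A) (p : ℕ) [Fact p.Prime] :
    ∃ (S : Sylow p (G ⧸ A)) (K' : Subgroup G),
      K' ⊓ A = ⊥ ∧ K' ⊔ A = (S : Subgroup (G ⧸ A)).comap (QuotientGroup.mk' A) := by
  have hdisj : K ⊓ A = ⊥ := disjoint_iff.mp hK.disjoint
  have htop : K ⊔ A = ⊤ := hK.sup_eq_top
  let f : ↥K →* G ⧸ A := (QuotientGroup.mk' A).comp K.subtype
  have hfinj : Function.Injective f := by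
    rw [injective_iff_map_eq_one]
    intro x hx
    have hxA : (x : G) ∈ A := (QuotientGroup.eq_one_iff _).mp hx
    have : (x : G) ∈ K ⊓ A := ⟨x.2, hxA⟩
    rw [hdisj, Subgroup.mem_bot] at this
    exact Subtype.ext this
  have hfsurj : Function.Surjective f := by
    intro q
    obtain ⟨g, rfl⟩ := QuotientGroup.mk_surjective q
    have hg : g ∈ ((K ⊔ A : Subgroup G) : Set G) := by rw [htop]; trivial
    rw [Subgroup.mul_normal] at hg
    obtain ⟨k, hk, a, ha, rfl⟩ := hg
    refine ⟨⟨k, hk⟩, ?_⟩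
    show ((k : G) : G ⧸ A) = ((k * a : G) : G ⧸ A)
    rw [QuotientGroup.mk_mul, (QuotientGroup.eq_one_iff a).mpr ha, mul_one]
  have hcard : Nat.card ↥K = Nat.card (G ⧸ A) :=
    Nat.card_congr (Equiv.ofBijective f ⟨hfinj, hfsurj⟩)
  let Q : Sylow p ↥K := default
  have hQcard : Nat.card ↥((Q : Subgroup ↥K).map f) = p ^ (Nat.card (G ⧸ A)).factorization p := by
    rw [Subgroup.card_map_of_injective hfinj, Q.card_eq_multiplicity, hcard]
  refine ⟨Sylow.ofCard _ hQcard, (Q : Subgroup ↥K).map K.subtype, ?_, ?_⟩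
  · rw [eq_bot_iff]
    rintro x ⟨⟨y, _, rfl⟩, hxA⟩
    have : ((y : G)) ∈ K ⊓ A := ⟨y.2, hxA⟩
    rw [hdisj] at this
    exact this
  · rw [Sylow.coe_ofCard]
    have : (Q : Subgroup ↥K).map f = ((Q : Subgroup ↥K).map K.subtype).map (QuotientGroup.mk' A) := by
      rw [Subgroup.map_map]
    rw [this, QuotientGroup.comap_map_mk', sup_comm]

end Cfsg.Agent.Helper34
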