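import Mathlib

set_option autoImplicit false

namespace Cfsg.Agent.Helper34

/-- If `e` is conjugate to `z` and the normal subgroup `N` meets `C(z)` trivially then it meets `C(e)` trivially. -/
theorem inf_centralizer_conj_eq_bot {H : Type*} [Group H] (z e : H) (N : Subgroup H) [hNn : N.Normal]
    (h : N ⊓ Subgroup.centralizer ({z} : Set H) = ⊥) (hc : IsConj z e) :
    N ⊓ Subgroup.centralizer ({e} : Set H) = ⊥ := by
  rw [isConj_iff] at hc
  obtain ⟨g, hg⟩ := hc
  rw [eq_bot_iff]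
  intro n hn
  rw [Subgroup.mem_inf, Subgroup.mem_centralizer_singleton_iff] at hn
  obtain ⟨hnN, hne⟩ := hn
  have h1 : g⁻¹ * n * g ∈ N ⊓ Subgroup.centralizer ({z} : Set H) := by
    rw [Subgroup.mem_inf, Subgroup.mem_centralizer_singleton_iff]
    refine ⟨?_, ?_⟩
    · have := hNn.conj_mem n hnN g⁻¹
      simpa using this
    · subst hg
      have h2 : n * (g * z * g⁻¹) = g * z * g⁻¹ * n := by simpa [mul_assoc] using hne
      have h3 : g⁻¹ * (n * (g * z * g⁻¹)) * g = g⁻¹ * (g * z * g⁻¹ * n) * g := by rw [h2]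
      simpa [mul_assoc] using h3
  rw [h, Subgroup.mem_bot] at h1
  have h2 : g * (g⁻¹ * n * g) * g⁻¹ = g * 1 * g⁻¹ := by rw [h1]
  simpa [mul_assoc] using h2

/-- An involution acting without nontrivial fixed points on a finite normal subgroup inverts it. -/
theorem conj_eq_inv_of_inf_centralizer_eq_bot {H : Type*} [Group H] [Finite H] (e : H) (he : e * e = 1)
    (N : Subgroup H) [hNn : N.Normal]
    (h : N ⊓ Subgroup.centralizer ({e} : Set H) = ⊥) (m : H) (hm : m ∈ N) : e * m * e⁻¹ = m⁻¹ := by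
  have heinv : e⁻¹ = e := inv_eq_of_mul_eq_one_right he
  -- the map n ↦ n⁻¹ * (e n e⁻¹) on N
  let f : N → N := fun n => ⟨(n : H)⁻¹ * (e * n * e⁻¹), N.mul_mem (N.inv_mem n.2) (hNn.conj_mem n n.2 e)⟩
  have hinj : Function.Injective f := by
    intro a b hab
    have hab' : (a : H)⁻¹ * (e * a * e⁻¹) = (b : H)⁻¹ * (e * b * e⁻¹) := congrArg Subtype.val hab
    have h1 : (b : H) * (a : H)⁻¹ ∈ N ⊓ Subgroup.centralizer ({e} : Set H) := by
      rw [Subgroup.mem_inf, Subgroup.mem_centralizer_singleton_iff]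
      refine ⟨N.mul_mem b.2 (N.inv_mem a.2), ?_⟩
      -- from hab' : b a⁻¹ = e b e⁻¹ (e a e⁻¹)⁻¹ = e (b a⁻¹) e⁻¹
      have h2 : (b : H) * (a : H)⁻¹ = e * ((b : H) * (a : H)⁻¹) * e⁻¹ := by
        have h3 : (b : H) * ((a : H)⁻¹ * (e * a * e⁻¹)) * (e * a * e⁻¹)⁻¹
            = (b : H) * ((b : H)⁻¹ * (e * b * e⁻¹)) * (e * a * e⁻¹)⁻¹ := by rw [hab']
        have h4 : (b : H) * ((a : H)⁻¹ * (e * a * e⁻¹)) * (e * a * e⁻¹)⁻¹ = (b : H) * (a : H)⁻¹ := by
          group
        have h5 : (b : H) * ((b : H)⁻¹ * (e * b * e⁻¹)) * (e * a * e⁻¹)⁻¹ = e * ((b : H) * (a : H)⁻¹) * e⁻¹ := by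
          group
        exact h4.symm.trans (h3.trans h5)
      calc (b : H) * (a : H)⁻¹ * e = e * ((b : H) * (a : H)⁻¹) * e⁻¹ * e := by rw [← h2]
        _ = e * ((b : H) * (a : H)⁻¹) := by group
    rw [h, Subgroup.mem_bot] at h1
    have : (b : H) = a := by
      have := mul_inv_eq_one.mp h1
      exact this
    exact Subtype.ext this.symm
  have hsurj : Function.Surjective f := Finite.surjective_of_injective hinj
  obtain ⟨n, hn⟩ := hsurj ⟨m, hm⟩
  have hn' : (n : H)⁻¹ * (e * n * e⁻¹) = m := congrArg Subtype.val hn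
  rw [← hn', heinv]
  have h6 : e * ((n : H)⁻¹ * (e * n * e)) * e = e * (n : H)⁻¹ * e * n * (e * e) := by group
  have h7 : ((n : H)⁻¹ * (e * n * e))⁻¹ = e⁻¹ * (n : H)⁻¹ * e⁻¹ * n := by group
  rw [h6, h7, he, heinv, mul_one]

/-- The key lemma: under the involution-centralizer data, every proper normal subgroup is trivial. -/
theorem normal_eq_bot_of_involution_data {H : Type*} [Group H] [Finite H] (z : H) (hz : orderOf z = 2)
    (hN : ∀ N : Subgroup H, N.Normal → N ≠ ⊤ → N ⊓ Subgroup.centralizer ({z} : Set H) = ⊥)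
    (E : Subgroup H) (hE : IsKleinFour ↥E) (hzE : z ∈ E) (hc : ∀ e ∈ E, e ≠ 1 → IsConj z e)
    (N : Subgroup H) [hNn : N.Normal] (hNtop : N ≠ ⊤) : N = ⊥ := by
  have hz1 : z ≠ 1 := by
    intro h
    rw [h, orderOf_one] at hz
    omega
  have hzz : z * z = 1 := by
    have := pow_orderOf_eq_one z
    rw [hz, pow_two] at this
    exact this
  -- all elements of E square to one
  have hEsq : ∀ e ∈ E, e * e = 1 := by
    intro e he
    have h1 : (⟨e, he⟩ : E) ^ 2 = 1 := by
      have := Monoid.pow_exponent_eq_one (⟨e, he⟩ : E)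
      rwa [hE.exponent_two] at this
    have h2 : ((⟨e, he⟩ : E) ^ 2 : E).1 = (1 : E).1 := by rw [h1]
    simpa [pow_two] using h2
  -- another element b of E, b ≠ 1, b ≠ z
  have hcard : Nat.card E = 4 := hE.card_four
  obtain ⟨b, hbE, hb1, hbz⟩ : ∃ b ∈ E, b ≠ 1 ∧ b ≠ z := by
    by_contra hcon
    push Not at hcon
    have hsub : ∀ x : E, x = 1 ∨ x = ⟨z, hzE⟩ := by
      intro x
      by_cases hx : (x : H) = 1
      · left; exact Subtype.ext hx
      · right; exact Subtype.ext (hcon x x.2 hx)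
    classical
    have hfin : Fintype E := Fintype.ofFinite E
    have : Nat.card E ≤ 2 := by
      rw [Nat.card_eq_fintype_card]
      calc Fintype.card E = (Finset.univ : Finset E).card := Finset.card_univ.symm
        _ ≤ ({1, ⟨z, hzE⟩} : Finset E).card := by
            apply Finset.card_le_card
            intro x _
            rcases hsub x with h | h
            · simp [h]
            · simp [h]
        _ ≤ 2 := Finset.card_le_two
    omega
  have hzb1 : z * b ≠ 1 := by
    intro h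
    have : b = z⁻¹ := (inv_eq_of_mul_eq_one_right h).symm
    rw [inv_eq_of_mul_eq_one_right hzz] at this
    exact hbz this
  have hzbE : z * b ∈ E := E.mul_mem hzE hbE
  have hNz := hN N hNn hNtop
  have hNb := inf_centralizer_conj_eq_bot z b N hNz (hc b hbE hb1)
  have hNzb := inf_centralizer_conj_eq_bot z (z * b) N hNz (hc (z * b) hzbE hzb1)
  rw [eq_bot_iff]
  intro m hm
  have h1 : b * m * b⁻¹ = m⁻¹ := conj_eq_inv_of_inf_centralizer_eq_bot b (hEsq b hbE) N hNb m hm
  have h2 : z * m⁻¹ * z⁻¹ = (m⁻¹)⁻¹ :=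
    conj_eq_inv_of_inf_centralizer_eq_bot z hzz N hNz m⁻¹ (N.inv_mem hm)
  have h3 : m ∈ N ⊓ Subgroup.centralizer ({z * b} : Set H) := by
    rw [Subgroup.mem_inf, Subgroup.mem_centralizer_singleton_iff]
    refine ⟨hm, ?_⟩
    have h4 : (z * b) * m * (z * b)⁻¹ = m := by
      calc (z * b) * m * (z * b)⁻¹ = z * (b * m * b⁻¹) * z⁻¹ := by group
        _ = z * m⁻¹ * z⁻¹ := by rw [h1]
        _ = m := by rw [h2, inv_inv]
    calc m * (z * b) = ((z * b) * m * (z * b)⁻¹) * (z * b) := by rw [h4]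
      _ = z * b * m := by group
  rw [hNzb] at h3
  exact h3

end Cfsg.Agent.Helper34
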