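import Cfsg.Agent.Helper33.KInfElement

/-!
# The refined case analysis behind Glauberman's cubic/quadratic element

A refinement of `Helper33.exists_cubic_quadratic` keeping track of *which* kind of subgroup `B ≰ T`
the K-sequence produces: a member of a lower-star family over a subgroup containing `A`, a subgroup
acting quadratically on `A`, or a test subgroup of class two normalized by `A`.
-/

set_option autoImplicit false
set_option linter.style.haveILetI false

open scoped commutatorElement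

universe u

namespace Cfsg.Agent.Helper34.KQ

open Cfsg.Agent.Helper33

section PGroup

variable {P : Type*} [Group P]

theorem exists_refined (T A : Subgroup P) [hA : A.Normal]
    (hA2 : ⁅A, A⁆ ≤ Subgroup.centralizer (A : Set P))
    (hTA : ⁅T, A⁆ ≤ A ⊓ Subgroup.centralizer (A : Set P))
    (h : (∃ n, ¬ Cfsg.kSeqEven P n ≤ T) ∨ (∃ n, ¬ Cfsg.kSeqOdd P (n + 1) ≤ T)) :
    ∃ B : Subgroup P, ¬ B ≤ T ∧
      ((∃ R : Subgroup P, A ≤ R ∧ B ∈ Cfsg.kLowerStarFamily R) ∨
        ⁅⁅A, B⁆, B⁆ = ⊥ ∨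
        (B ∈ Cfsg.classTwoSubgroups P ∧ A ≤ Subgroup.normalizer (B : Set P) ∧
          ⁅A, ⁅B, B⁆⁆ = ⊥ ∧ ⁅⁅A ⊓ Subgroup.centralizer (A : Set P), B⁆, B⁆ = ⊥)) := by
  classical
  have hA2' : A ∈ Cfsg.classTwoSubgroups P := hA2
  by_cases hE : ∃ n, ¬ Cfsg.kSeqEven P n ≤ T
  · obtain ⟨n, hn⟩ : ∃ n, n = Nat.find hE := ⟨_, rfl⟩
    have hnT : ¬ Cfsg.kSeqEven P n ≤ T := hn ▸ Nat.find_spec hE
    have hmin : ∀ m, m < n → Cfsg.kSeqEven P m ≤ T := by
      intro m hm
      by_contra hcon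
      have := Nat.find_min' hE hcon
      omega
    have hAQ : A ≤ Cfsg.kSeqOdd P n := by
      cases n with
      | zero => rw [kSeqOdd_zero]; exact le_top
      | succ m =>
        rw [kSeqOdd_succ]
        apply le_sSup
        refine ⟨hA2', ?_⟩
        calc ⁅A, Cfsg.kSeqEven P m⁆ ≤ ⁅A, T⁆ := Subgroup.commutator_mono le_rfl (hmin m (by omega))
          _ = ⁅T, A⁆ := Subgroup.commutator_comm _ _
          _ ≤ A ⊓ Subgroup.centralizer (A : Set P) := hTA
    have hex : ∃ B ∈ Cfsg.kLowerStarFamily (Cfsg.kSeqOdd P n), ¬ B ≤ T := by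
      by_contra hcon
      push Not at hcon
      exact hnT (sSup_le hcon)
    obtain ⟨B, hB, hBT⟩ := hex
    exact ⟨B, hBT, Or.inl ⟨_, hAQ, hB⟩⟩
  · push Not at hE
    obtain ⟨n, hn⟩ := h.resolve_left (by
      rintro ⟨n, hn⟩
      exact hn (hE n))
    rw [kSeqOdd_succ] at hn
    have hex : ∃ B ∈ Cfsg.kUpperStarFamily (Cfsg.kSeqEven P n), ¬ B ≤ T := by
      by_contra hcon
      push Not at hcon
      exact hn (sSup_le hcon)
    obtain ⟨B, ⟨hB2, hBK⟩, hBT⟩ := hex
    by_cases hAmem : A ∈ Cfsg.kLowerStarFamily (Cfsg.kSeqOdd P n)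
    · have hAK : A ≤ Cfsg.kSeqEven P n := le_sSup hAmem
      refine ⟨B, hBT, Or.inr (Or.inl ?_)⟩
      apply quadratic_of_commutator_le_center
      exact (Subgroup.commutator_mono le_rfl hAK).trans hBK
    · have hex : ∃ A₁ ∈ Cfsg.classTwoSubgroups P, A ≤ Subgroup.normalizer (A₁ : Set P) ∧
          ⁅A, ⁅A₁, A₁⁆⁆ = ⊥ ∧
          ⁅⁅A ⊓ Subgroup.centralizer (A : Set P), A₁⁆, A₁⁆ = ⊥ ∧
          ¬ ⁅A, A₁⁆ ≤ A ⊓ Subgroup.centralizer (A : Set P) := by
        by_contra hcon
        push Not at hcon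
        apply hAmem
        refine ⟨hA2', ?_, ?_⟩
        · rw [Subgroup.normalizer_eq_top_iff.mpr hA]; exact le_top
        · intro A₁ h1 _ h3 h4 h5
          exact hcon A₁ h1 h3 h4 h5
      obtain ⟨A₁, h1, h3, h4, h5, h6⟩ := hex
      refine ⟨A₁, ?_, Or.inr (Or.inr ⟨h1, h3, h4, h5⟩)⟩
      intro hA₁T
      apply h6
      calc ⁅A, A₁⁆ ≤ ⁅A, T⁆ := Subgroup.commutator_mono le_rfl hA₁T
        _ = ⁅T, A⁆ := Subgroup.commutator_comm _ _
        _ ≤ A ⊓ Subgroup.centralizer (A : Set P) := hTA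

end PGroup

section Group

variable {G : Type u} [Group G] [Finite G] {p : ℕ} [hp : Fact p.Prime]

/-- The refined case analysis, transported into `G`. -/
theorem exists_refined_in_group (S : Sylow p G) (A : Subgroup G)
    (hAT : A ≤ Cfsg.pCore p G) (hAn : A.Normal)
    (hA2 : ⁅A, A⁆ ≤ Subgroup.centralizer ((A : Subgroup G) : Set G))
    (hA3 : ⁅Cfsg.pCore p G, A⁆ ≤ A ⊓ Subgroup.centralizer ((A : Subgroup G) : Set G))
    (hK : ¬ (Cfsg.inducedFunctor Cfsg.kInfLower (S : Subgroup G)).Normal ∨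
      ¬ (Cfsg.inducedFunctor Cfsg.kInfUpper (S : Subgroup G)).Normal) :
    ∃ B : Subgroup G, B ≤ (S : Subgroup G) ∧ ¬ B ≤ Cfsg.pCore p G ∧
      ((∃ R : Subgroup G, A ≤ R ∧ B ∈ Cfsg.kLowerStarFamily R) ∨
        ⁅⁅A, B⁆, B⁆ = ⊥ ∨
        (B ∈ Cfsg.classTwoSubgroups G ∧ A ≤ Subgroup.normalizer (B : Set G) ∧
          ⁅A, ⁅B, B⁆⁆ = ⊥ ∧
          ⁅⁅A ⊓ Subgroup.centralizer ((A : Subgroup G) : Set G), B⁆, B⁆ = ⊥)) := by
  have hTS : Cfsg.pCore p G ≤ (S : Subgroup G) := pCore_le_sylow S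
  have hAS : A ≤ (S : Subgroup G) := hAT.trans hTS
  have hinj : Function.Injective (S : Subgroup G).subtype := Subgroup.subtype_injective _
  obtain ⟨A', hA'⟩ : ∃ A' : Subgroup ↥(S : Subgroup G), A' = A.subgroupOf (S : Subgroup G) :=
    ⟨_, rfl⟩
  obtain ⟨T', hT'⟩ : ∃ T' : Subgroup ↥(S : Subgroup G),
    T' = (Cfsg.pCore p G).subgroupOf (S : Subgroup G) := ⟨_, rfl⟩
  have hA'map : A'.map (S : Subgroup G).subtype = A := by
    rw [hA']; exact Subgroup.map_subgroupOf_eq_of_le hAS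
  have hT'map : T'.map (S : Subgroup G).subtype = Cfsg.pCore p G := by
    rw [hT']; exact Subgroup.map_subgroupOf_eq_of_le hTS
  haveI hA'n : A'.Normal := by
    rw [hA']; exact Subgroup.Normal.subgroupOf hAn _
  have hZmap : (A' ⊓ Subgroup.centralizer (A' : Set ↥(S : Subgroup G))).map
      (S : Subgroup G).subtype = A ⊓ Subgroup.centralizer ((A : Subgroup G) : Set G) := by
    rw [map_inf_centralizer _ hinj, hA'map]
  have hA2' : ⁅A', A'⁆ ≤ Subgroup.centralizer (A' : Set ↥(S : Subgroup G)) := by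
    rw [← map_le_centralizer_map_iff _ hinj, Subgroup.map_commutator, hA'map]
    exact hA2
  have hTA' : ⁅T', A'⁆ ≤ A' ⊓ Subgroup.centralizer (A' : Set ↥(S : Subgroup G)) := by
    rw [← Subgroup.map_le_map_iff_of_injective hinj, Subgroup.map_commutator, hA'map, hT'map, hZmap]
    exact hA3
  have hseq := exists_kSeq_not_le_pCore S hK
  rw [← hT'] at hseq
  obtain ⟨B, hBT, hcase⟩ := exists_refined T' A' hA2' hTA' hseq
  refine ⟨B.map (S : Subgroup G).subtype, Subgroup.map_subtype_le B, ?_, ?_⟩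
  · intro hle
    apply hBT
    rw [hT']
    exact Subgroup.map_le_iff_le_comap.mp hle
  · rcases hcase with ⟨R, hAR, hBR⟩ | hq | ⟨h1, h3, h4, h5⟩
    · left
      refine ⟨R.map (S : Subgroup G).subtype, ?_, (map_mem_lowerStar_iff _ hinj R B).mpr hBR⟩
      rw [← hA'map]
      exact Subgroup.map_mono hAR
    · right; left
      have := congrArg (Subgroup.map (S : Subgroup G).subtype) hq
      rw [Subgroup.map_commutator, Subgroup.map_commutator, hA'map, Subgroup.map_bot] at this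
      exact this
    · right; right
      refine ⟨(map_mem_classTwo_iff _ hinj B).mpr h1, ?_, ?_, ?_⟩
      · rw [← hA'map]
        exact (map_le_normalizer_map_iff _ hinj A' B).mpr h3
      · have := congrArg (Subgroup.map (S : Subgroup G).subtype) h4
        rw [Subgroup.map_commutator, Subgroup.map_commutator, hA'map, Subgroup.map_bot] at this
        exact this
      · have := congrArg (Subgroup.map (S : Subgroup G).subtype) h5
        rw [Subgroup.map_commutator, Subgroup.map_commutator, hZmap, Subgroup.map_bot] at this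
        exact this

end Group

end Cfsg.Agent.Helper34.KQ
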