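import Cfsg.Agent.Helper34.KInfQuadStable
import Cfsg.Agent.Helper33.KInfTransfer
import Cfsg.Agent.Helper33.SingletonControl
import Cfsg.Agent.Helper33.Sections
import Cfsg.Agent.Helper48.ZJClosedA
import Cfsg.Agent.S1994

/-!
# K-infinity controls strong fusion when all sections are `p`-stable

* `exists_not_isNormalizerPStable`: `C_G(O_p(G)) ≤ O_p(G)` and a K-infinity subgroup not normal give
  a quotient of `G` that is not `p`-stable in the normalizer form;
* `controlsStrongFusion_of_sections_pStable`: a functor `W` that is normal in every constrained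
  group all of whose quotients are `p`-stable controls strong fusion in every group all of whose
  sections are `p`-stable;
* `kInfLower_controlsStrongFusion`, `kInfUpper_controlsStrongFusion`.
-/

set_option autoImplicit false
set_option linter.style.haveILetI false

open scoped commutatorElement

universe u

namespace Cfsg.Agent.Helper34.KQ

open Cfsg.Agent.Helper33

/-- **Glauberman.**  If `C_G(O_p(G)) ≤ O_p(G)` and a K-infinity subgroup of a Sylow `p`-subgroup is
not normal in `G`, then some quotient of `G` is not `p`-stable in the normalizer form. -/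
theorem exists_not_isNormalizerPStable {G : Type u} [Group G] [Finite G] {p : ℕ} [Fact p.Prime]
    (S : Sylow p G)
    (hCT : Subgroup.centralizer ((Cfsg.pCore p G : Subgroup G) : Set G) ≤ Cfsg.pCore p G)
    (hK : ¬ (Cfsg.inducedFunctor Cfsg.kInfLower (S : Subgroup G)).Normal ∨
      ¬ (Cfsg.inducedFunctor Cfsg.kInfUpper (S : Subgroup G)).Normal) :
    ∃ (N : Subgroup G) (_ : N.Normal), ¬ Cfsg.IsNormalizerPStable p (G ⧸ N) := by
  obtain ⟨A, hAT, hAn, hA2, hA3, hA4⟩ := exists_critical_pCore (G := G) (p := p)
  obtain ⟨g', -, -, -, -, U, V, hUV, hUA, h3, h4⟩ :=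
    exists_quadratic_chief_element S A hAT hAn hA2 hA3 hA4 hCT hK
  have hUp : IsPGroup p U := Cfsg.Agent.Helper33.pCore_isPGroup.to_le (hUA.trans hAT)
  exact ⟨V, hUV.2.2.1, not_isNormalizerPStable_of_chief (hVn := hUV.2.2.1) hUV hUp g' h3 h4⟩

theorem isoInvariant_isNormalizerPStable (p : ℕ) :
    IsoInvariant (fun (X : Type u) [Group X] => Cfsg.IsNormalizerPStable p X) := by
  intro X Y _ _ φ hX
  exact Cfsg.Agent.Helper48.isNormalizerPStable_of_injective φ.symm.toMonoidHom φ.symm.injective hX

/-- A functor which is normal in every constrained group all of whose quotients are `p`-stable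
controls strong fusion in every group all of whose sections are `p`-stable. -/
theorem controlsStrongFusion_of_sections_pStable {G : Type u} [Group G] [Finite G] {p : ℕ}
    [Fact p.Prime] (W : ∀ (Q : Type u) [Group Q], Subgroup Q) (hW : Cfsg.IsCharPFunctor.{u} p W)
    (hWn : ∀ (X : Type u) [Group X] [Finite X] (T : Sylow p X),
      Subgroup.centralizer ((Cfsg.pCore p X : Subgroup X) : Set X) ≤ Cfsg.pCore p X →
      (∀ (N : Subgroup X) [N.Normal], Cfsg.IsNormalizerPStable p (X ⧸ N)) →
      (Cfsg.inducedFunctor W (T : Subgroup X)).Normal)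
    (hst : ∀ (K R : Subgroup G) [hR : (R.subgroupOf K).Normal],
      Cfsg.IsNormalizerPStable p (↥K ⧸ R.subgroupOf K))
    (S : Sylow p G) : Cfsg.ControlsStrongFusion p (Cfsg.inducedFunctor W (S : Subgroup G)) := by
  have hΦ := isoInvariant_isNormalizerPStable.{u} p
  have hSP : SectionProp (fun (X : Type u) [Group X] => Cfsg.IsNormalizerPStable p X) G :=
    fun K R _ => hst K R
  obtain ⟨𝓦, h𝓦def⟩ : ∃ 𝓦 : Set (∀ (Q : Type u) [Group Q], Subgroup Q), 𝓦 = {W} := ⟨_, rfl⟩
  have h𝓦 : ∀ W' ∈ 𝓦, Cfsg.IsCharPFunctor.{u} p W' := by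
    rw [h𝓦def]
    intro W' hW'
    rw [Set.mem_singleton_iff] at hW'
    rw [hW']
    exact hW
  have hfam := Cfsg.Agent.S1994.result (G := G) (p := p) 𝓦 h𝓦 (by
    intro K R hR hcon
    rw [h𝓦def, Set.image_singleton]
    obtain ⟨T⟩ : Nonempty (Sylow p (↥K ⧸ R.subgroupOf K)) := inferInstance
    apply familyControls_singleton_of_normal _ T
    apply hWn _ T hcon
    intro N hN
    exact (((hSP.subgroup hΦ K).quotient hΦ (R.subgroupOf K)).quotient hΦ N).self hΦ)
  rw [h𝓦def, Set.image_singleton] at hfam
  exact controlsStrongFusion_of_familyControls_singleton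
    (isConjugacyFunctor_inducedFunctor hW G) hfam S

variable {G : Type u} [Group G] [Finite G] {p : ℕ} [Fact p.Prime]

/-- If all sections of `G` are `p`-stable in the normalizer form, the lower K-infinity subgroup of
every Sylow `p`-subgroup controls strong fusion in `G`. -/
theorem kInfLower_controlsStrongFusion
    (hst : ∀ (K R : Subgroup G) [hR : (R.subgroupOf K).Normal],
      Cfsg.IsNormalizerPStable p (↥K ⧸ R.subgroupOf K))
    (S : Sylow p G) :
    Cfsg.ControlsStrongFusion p (Cfsg.inducedFunctor Cfsg.kInfLower (S : Subgroup G)) := by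
  apply controlsStrongFusion_of_sections_pStable
    (fun (Q : Type u) [Group Q] => Cfsg.kInfLower Q) (isCharPFunctor_kInfLower p) _ hst S
  intro X _ _ T hcon hall
  by_contra hn
  obtain ⟨N, hN, hnot⟩ := exists_not_isNormalizerPStable T hcon (Or.inl hn)
  exact hnot (hall N)

/-- The same for the upper K-infinity subgroup. -/
theorem kInfUpper_controlsStrongFusion
    (hst : ∀ (K R : Subgroup G) [hR : (R.subgroupOf K).Normal],
      Cfsg.IsNormalizerPStable p (↥K ⧸ R.subgroupOf K))
    (S : Sylow p G) :
    Cfsg.ControlsStrongFusion p (Cfsg.inducedFunctor Cfsg.kInfUpper (S : Subgroup G)) := by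
  apply controlsStrongFusion_of_sections_pStable
    (fun (Q : Type u) [Group Q] => Cfsg.kInfUpper Q) (isCharPFunctor_kInfUpper p) _ hst S
  intro X _ _ T hcon hall
  by_contra hn
  obtain ⟨N, hN, hnot⟩ := exists_not_isNormalizerPStable T hcon (Or.inr hn)
  exact hnot (hall N)

end Cfsg.Agent.Helper34.KQ
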