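import Mathlib
import Cfsg.Prelude.Def_LocalEven
import Cfsg.Prelude.Def_Solvable
import Cfsg.Agent.Helper33.PCore
import Cfsg.Agent.Helper33.CritDegree

/-!
# Group-level lemmas for the quadratic clause of Glauberman's K-infinity theorem

* `comm_eq_one_of_coprime`: coprime action, elementwise;
* `chiefKer M`: the elements acting trivially on every chief factor below `M`;
* `mem_centralizer_of_mem_chiefKer`: elements of order prime to `p` in `chiefKer M` centralize the
  normal `p`-subgroup `M`;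
* `exists_normalizing_of_pQuot`: normalizer growth above a normal subgroup with `p`-group quotient;
* `quad_chief_of_quad_above`: quadratic action on `Z` and on the chief factors above `Z` gives
  quadratic action on all chief factors.
-/

set_option autoImplicit false
set_option linter.style.haveILetI false

open scoped commutatorElement

namespace Cfsg.Agent.Helper34.KQ

variable {G : Type*} [Group G]

/-- Coprime action, elementwise: if `[z, x]` is a `p`-element commuting with the `p'`-element `x`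
then `[z, x] = 1`. -/
theorem comm_eq_one_of_coprime {p : ℕ} {z x : G} (hw : ∃ k : ℕ, ⁅z, x⁆ ^ (p ^ k) = 1)
    (hx : (orderOf x).Coprime p) (hcomm : Commute ⁅z, x⁆ x) : ⁅z, x⁆ = 1 := by
  obtain ⟨k, hk⟩ := hw
  have e : z * x * z⁻¹ = ⁅z, x⁆ * x := by rw [commutatorElement_def]; group
  have h1 : (z * x * z⁻¹) ^ orderOf x = 1 := by
    rw [conj_pow, pow_orderOf_eq_one, mul_one, mul_inv_cancel]
  rw [e, hcomm.mul_pow, pow_orderOf_eq_one, mul_one] at h1
  have h2 : orderOf ⁅z, x⁆ ∣ orderOf x := orderOf_dvd_of_pow_eq_one h1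
  have h3 : orderOf ⁅z, x⁆ ∣ p ^ k := orderOf_dvd_of_pow_eq_one hk
  have h4 : orderOf ⁅z, x⁆ ∣ Nat.gcd (orderOf x) (p ^ k) := Nat.dvd_gcd h2 h3
  rw [Nat.Coprime.gcd_eq_one (Nat.Coprime.pow_right k hx)] at h4
  exact orderOf_eq_one_iff.mp (Nat.dvd_one.mp h4)

/-- Every element of a finite group has a `p'`-part among its `p`-power powers. -/
theorem exists_pow_coprime [Finite G] (p : ℕ) [hp : Fact p.Prime] (y : G) :
    ∃ k : ℕ, (orderOf (y ^ (p ^ k))).Coprime p := by
  refine ⟨(orderOf y).factorization p, ?_⟩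
  have hpos : orderOf y ≠ 0 := (orderOf_pos y).ne'
  have hpk : p ^ (orderOf y).factorization p ≠ 0 := pow_ne_zero _ hp.out.ne_zero
  rw [orderOf_pow' y hpk, Nat.gcd_eq_right (Nat.ordProj_dvd (orderOf y) p)]
  exact (Nat.coprime_ordCompl hp.out hpos).symm

/-- An element of a `p`-subgroup of order prime to `p` is trivial. -/
theorem eq_one_of_isPGroup_of_coprime {p : ℕ} {P : Subgroup G} (hP : IsPGroup p P) {y : G}
    (hy : y ∈ P) (hyp : (orderOf y).Coprime p) : y = 1 := by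
  obtain ⟨k, hk⟩ := hP ⟨y, hy⟩
  have hk' : y ^ (p ^ k) = 1 := by
    have := congrArg Subtype.val hk
    simpa using this
  have h3 : orderOf y ∣ p ^ k := orderOf_dvd_of_pow_eq_one hk'
  have h4 : orderOf y ∣ Nat.gcd (orderOf y) (p ^ k) := Nat.dvd_gcd dvd_rfl h3
  rw [Nat.Coprime.gcd_eq_one (Nat.Coprime.pow_right k hyp)] at h4
  exact orderOf_eq_one_iff.mp (Nat.dvd_one.mp h4)

/-! ### The kernel of the action on the chief factors below `M` -/

/-- The elements of `G` acting trivially on every chief factor `U / V` of `G` with `U ≤ M`. -/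
def chiefKer (M : Subgroup G) : Subgroup G where
  carrier := {y | ∀ U V : Subgroup G, Cfsg.IsChiefFactor U V → U ≤ M → ∀ u ∈ U, ⁅u, y⁆ ∈ V}
  one_mem' := by
    intro U V _ _ u _
    rw [commutatorElement_one_right]
    exact V.one_mem
  mul_mem' := by
    intro y₁ y₂ h₁ h₂ U V hUV hUM u hu
    have e : ⁅u, y₁ * y₂⁆ = ⁅u, y₁⁆ * (y₁ * ⁅u, y₂⁆ * y₁⁻¹) := by
      simp only [commutatorElement_def]; group
    rw [e]
    exact V.mul_mem (h₁ U V hUV hUM u hu) (hUV.2.2.1.conj_mem _ (h₂ U V hUV hUM u hu) y₁)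
  inv_mem' := by
    intro y h U V hUV hUM u hu
    have e : ⁅u, y⁻¹⁆ = y⁻¹ * (⁅u, y⁆)⁻¹ * y⁻¹⁻¹ := by
      simp only [commutatorElement_def]; group
    rw [e]
    exact hUV.2.2.1.conj_mem _ (V.inv_mem (h U V hUV hUM u hu)) y⁻¹

theorem mem_chiefKer {M : Subgroup G} {y : G} :
    y ∈ chiefKer M ↔
      ∀ U V : Subgroup G, Cfsg.IsChiefFactor U V → U ≤ M → ∀ u ∈ U, ⁅u, y⁆ ∈ V := Iff.rfl

instance chiefKer_normal (M : Subgroup G) : (chiefKer M).Normal := by
  constructor
  intro y hy g U V hUV hUM u hu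
  have e : ⁅u, g * y * g⁻¹⁆ = g * ⁅g⁻¹ * u * g⁻¹⁻¹, y⁆ * g⁻¹ := by
    simp only [commutatorElement_def]; group
  rw [e]
  exact hUV.2.2.1.conj_mem _ (hy U V hUV hUM _ (hUV.2.1.conj_mem u hu g⁻¹)) g

theorem centralizer_le_chiefKer (M : Subgroup G) :
    Subgroup.centralizer (M : Set G) ≤ chiefKer M := by
  intro y hy U V _ hUM u hu
  have h1 : u * y = y * u := Subgroup.mem_centralizer_iff.mp hy u (hUM hu)
  have h2 : ⁅u, y⁆ = 1 := commutatorElement_eq_one_iff_mul_comm.mpr h1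
  rw [h2]
  exact V.one_mem

theorem chiefKer_mono {M M' : Subgroup G} (h : M ≤ M') : chiefKer M' ≤ chiefKer M :=
  fun _ hy U V hUV hUM u hu => hy U V hUV (hUM.trans h) u hu

/-- A maximal normal subgroup below a nontrivial normal subgroup. -/
theorem exists_isChiefFactor_below [Finite G] (X : Subgroup G) [hX : X.Normal] (hX0 : X ≠ ⊥) :
    ∃ Y : Subgroup G, Cfsg.IsChiefFactor X Y := by
  obtain ⟨Y, -, hYmax⟩ := Finite.exists_le_maximal
    (p := fun N : Subgroup G => N.Normal ∧ N < X) (a := ⊥)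
    ⟨inferInstance, bot_lt_iff_ne_bot.mpr hX0⟩
  obtain ⟨⟨hYn, hYX⟩, hmax⟩ := hYmax
  refine ⟨Y, hYX, hX, hYn, ?_⟩
  intro N hN hYN hNX
  by_cases h : N = X
  · exact Or.inr h
  · left
    exact le_antisymm (hmax ⟨hN, lt_of_le_of_ne hNX h⟩ hYN) hYN

/-- Elements of order prime to `p` acting trivially on all chief factors below the normal
`p`-subgroup `M` centralize `M`. -/
theorem mem_centralizer_of_mem_chiefKer [Finite G] {p : ℕ} [Fact p.Prime] (M : Subgroup G)
    [hMn : M.Normal] (hM : IsPGroup p M) {y : G} (hy : y ∈ chiefKer M)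
    (hyp : (orderOf y).Coprime p) : y ∈ Subgroup.centralizer (M : Set G) := by
  by_contra hcon
  have hMbad : ¬ ∀ x ∈ M, ⁅x, y⁆ = 1 := by
    intro hall
    apply hcon
    rw [Subgroup.mem_centralizer_iff]
    intro m hm
    exact commutatorElement_eq_one_iff_mul_comm.mp (hall m hm)
  obtain ⟨X, -, hXmin⟩ := Finite.exists_le_minimal
    (p := fun N : Subgroup G => N.Normal ∧ N ≤ M ∧ ¬ ∀ x ∈ N, ⁅x, y⁆ = 1) (a := M)
    ⟨hMn, le_rfl, hMbad⟩
  obtain ⟨⟨hXn, hXM, hXbad⟩, hmin⟩ := hXmin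
  have hX0 : X ≠ ⊥ := by
    rintro rfl
    apply hXbad
    intro x hx
    rw [Subgroup.mem_bot] at hx
    rw [hx, commutatorElement_one_left]
  haveI := hXn
  obtain ⟨Y, hXY⟩ := exists_isChiefFactor_below X hX0
  have hYgood : ∀ x ∈ Y, ⁅x, y⁆ = 1 := by
    by_contra hYbad
    have := hmin ⟨hXY.2.2.1, hXY.1.le.trans hXM, hYbad⟩ hXY.1.le
    exact absurd this (not_le_of_gt hXY.1)
  apply hXbad
  intro x hx
  have hw : ⁅x, y⁆ ∈ Y := hy X Y hXY hXM x hx
  have hwM : ⁅x, y⁆ ∈ M := by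
    have h1 : y * x⁻¹ * y⁻¹ ∈ M := hMn.conj_mem _ (M.inv_mem (hXM hx)) y
    have e : ⁅x, y⁆ = x * (y * x⁻¹ * y⁻¹) := by rw [commutatorElement_def]; group
    rw [e]
    exact M.mul_mem (hXM hx) h1
  apply comm_eq_one_of_coprime (p := p) _ hyp
  · exact commutatorElement_eq_one_iff_commute.mp (hYgood _ hw)
  · obtain ⟨k, hk⟩ := hM ⟨⁅x, y⁆, hwM⟩
    refine ⟨k, ?_⟩
    have := congrArg Subtype.val hk
    simpa using this

/-- If the only element of order prime to `p` centralizing the normal `p`-subgroup `M` is `1`, then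
the kernel on the chief factors below `M` lies in `O_p(G)`. -/
theorem chiefKer_le_pCore [Finite G] {p : ℕ} [Fact p.Prime] (M : Subgroup G) [M.Normal]
    (hM : IsPGroup p M)
    (hCM : ∀ y : G, (orderOf y).Coprime p → y ∈ Subgroup.centralizer (M : Set G) → y = 1) :
    chiefKer M ≤ Cfsg.pCore p G := by
  apply Cfsg.Agent.Helper33.le_pCore
  intro y
  obtain ⟨k, hk⟩ := exists_pow_coprime p (y : G)
  refine ⟨k, ?_⟩
  apply Subtype.ext
  have h1 : (y : G) ^ (p ^ k) ∈ chiefKer M := (chiefKer M).pow_mem y.2 _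
  have h2 := hCM _ hk (mem_centralizer_of_mem_chiefKer M hM h1 hk)
  simpa using h2

/-- For a critical-type subgroup `A` of `O_p(G)` and `C_G(O_p(G)) ≤ O_p(G)`: an element of order
prime to `p` centralizing `A` is trivial. -/
theorem eq_one_of_coprime_of_mem_centralizer [Finite G] {p : ℕ} [Fact p.Prime] (A : Subgroup G)
    [hAn : A.Normal]
    (hA4 : Cfsg.pCore p G ⊓ Subgroup.centralizer ((A : Subgroup G) : Set G) =
      A ⊓ Subgroup.centralizer ((A : Subgroup G) : Set G))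
    (hCT : Subgroup.centralizer ((Cfsg.pCore p G : Subgroup G) : Set G) ≤ Cfsg.pCore p G)
    {y : G} (hyp : (orderOf y).Coprime p) (hy : y ∈ Subgroup.centralizer (A : Set G)) :
    y = 1 := by
  have hTn : (Cfsg.pCore p G).Normal := Cfsg.Agent.Helper33.pCore_normal p
  have hTp : IsPGroup p (Cfsg.pCore p G) := Cfsg.Agent.Helper33.pCore_isPGroup
  have hyc : ∀ a ∈ A, y * a * y⁻¹ = a := by
    intro a ha
    have := Subgroup.mem_centralizer_iff.mp hy a ha
    rw [← this]; group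
  have hyT : y ∈ Subgroup.centralizer ((Cfsg.pCore p G : Subgroup G) : Set G) := by
    rw [Subgroup.mem_centralizer_iff]
    intro x hx
    -- `c = [x⁻¹, y]` lies in `C_T(A) = Z(A)`
    have hcT : ⁅x⁻¹, y⁆ ∈ Cfsg.pCore p G := by
      have h1 : y * x * y⁻¹ ∈ Cfsg.pCore p G := hTn.conj_mem _ hx y
      have e : ⁅x⁻¹, y⁆ = x⁻¹ * (y * x * y⁻¹) := by rw [commutatorElement_def]; group
      rw [e]
      exact (Cfsg.pCore p G).mul_mem ((Cfsg.pCore p G).inv_mem hx) h1
    have hcC : ⁅x⁻¹, y⁆ ∈ Subgroup.centralizer (A : Set G) := by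
      rw [Subgroup.mem_centralizer_iff]
      intro h hh
      have h1 : x * h * x⁻¹ ∈ A := hAn.conj_mem _ hh x
      have h2 := hyc _ h1
      have h3 := hyc h hh
      -- (y x y⁻¹) h (y x y⁻¹)⁻¹ = x h x⁻¹
      have h4 : (y * x * y⁻¹) * h * (y * x * y⁻¹)⁻¹ = x * h * x⁻¹ := by
        calc (y * x * y⁻¹) * h * (y * x * y⁻¹)⁻¹
            = y * (x * (y⁻¹ * (y * h * y⁻¹) * y) * x⁻¹) * y⁻¹ := by rw [h3]; group
          _ = y * (x * h * x⁻¹) * y⁻¹ := by group
          _ = x * h * x⁻¹ := h2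
      have e : ⁅x⁻¹, y⁆ = x⁻¹ * (y * x * y⁻¹) := by rw [commutatorElement_def]; group
      rw [e]
      calc h * (x⁻¹ * (y * x * y⁻¹))
          = x⁻¹ * (x * h * x⁻¹) * (y * x * y⁻¹) := by group
        _ = x⁻¹ * ((y * x * y⁻¹) * h * (y * x * y⁻¹)⁻¹) * (y * x * y⁻¹) := by rw [h4]
        _ = x⁻¹ * (y * x * y⁻¹) * h := by group
    have hcA : ⁅x⁻¹, y⁆ ∈ A := by
      have : ⁅x⁻¹, y⁆ ∈ A ⊓ Subgroup.centralizer ((A : Subgroup G) : Set G) := by
        rw [← hA4]; exact ⟨hcT, hcC⟩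
      exact this.1
    have hcomm : Commute ⁅x⁻¹, y⁆ y := (Subgroup.mem_centralizer_iff.mp hy _ hcA)
    have hone : ⁅x⁻¹, y⁆ = 1 := by
      apply comm_eq_one_of_coprime (p := p) _ hyp hcomm
      obtain ⟨k, hk⟩ := hTp ⟨⁅x⁻¹, y⁆, hcT⟩
      refine ⟨k, ?_⟩
      have := congrArg Subtype.val hk
      simpa using this
    have h5 : x⁻¹ * y = y * x⁻¹ := commutatorElement_eq_one_iff_mul_comm.mp hone
    calc x * y = x * (y * x⁻¹) * x := by group
      _ = x * (x⁻¹ * y) * x := by rw [h5]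
      _ = y * x := by group
  exact eq_one_of_isPGroup_of_coprime hTp (hCT hyT) hyp

/-! ### Normalizer growth above a normal subgroup with `p`-group quotient -/

theorem exists_mem_normalizer_not_mem {H : Type*} [Group H] [Finite H] {p : ℕ} [Fact p.Prime]
    {P Q : Subgroup H} (hP : IsPGroup p P) (hQP : Q < P) :
    ∃ x ∈ P, x ∈ Subgroup.normalizer (Q : Set H) ∧ x ∉ Q := by
  haveI : Group.IsNilpotent P := hP.isNilpotent
  have hlt : Q.subgroupOf P < ⊤ := by
    rw [lt_top_iff_ne_top, Ne, Subgroup.subgroupOf_eq_top]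
    exact not_le_of_gt hQP
  have h1 := Group.normalizerCondition_of_isNilpotent (G := P) (Q.subgroupOf P) hlt
  rw [← Subgroup.subgroupOf_normalizer_eq hQP.le] at h1
  obtain ⟨s, hs1, hs2⟩ := SetLike.exists_of_lt h1
  exact ⟨s, s.2, Subgroup.mem_subgroupOf.mp hs1, fun h => hs2 (Subgroup.mem_subgroupOf.mpr h)⟩

/-- If `N / G₀` is a `p`-group, every subgroup `Γ` with `G₀ ≤ Γ < N` is normal in a strictly larger
subgroup of `N`. -/
theorem exists_normalizing_of_pQuot [Finite G] {p : ℕ} [Fact p.Prime] (G₀ N Γ : Subgroup G)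
    [hG₀ : G₀.Normal] (hG₀Γ : G₀ ≤ Γ) (hΓN : Γ < N)
    (hpq : ∀ y ∈ N, ∃ k : ℕ, y ^ (p ^ k) ∈ G₀) :
    ∃ Γ' : Subgroup G, Γ < Γ' ∧ Γ' ≤ N ∧ Γ' ≤ Subgroup.normalizer (Γ : Set G) := by
  obtain ⟨π, hπ⟩ : ∃ π : G →* G ⧸ G₀, π = QuotientGroup.mk' G₀ := ⟨_, rfl⟩
  have hker : π.ker = G₀ := by rw [hπ]; exact QuotientGroup.ker_mk' G₀
  have hcomap : (Γ.map π).comap π = Γ := by
    rw [Subgroup.comap_map_eq, hker, sup_eq_left.mpr hG₀Γ]
  have hNp : IsPGroup p (N.map π) := by
    rintro ⟨_, y, hy, rfl⟩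
    obtain ⟨k, hk⟩ := hpq y hy
    refine ⟨k, Subtype.ext ?_⟩
    show (π y) ^ (p ^ k) = 1
    rw [← map_pow, ← MonoidHom.mem_ker, hker]
    exact hk
  have hlt : Γ.map π < N.map π := by
    refine lt_of_le_of_ne (Subgroup.map_mono hΓN.le) ?_
    intro heq
    have : N ≤ Γ := by
      calc N ≤ (N.map π).comap π := Subgroup.le_comap_map π N
        _ = (Γ.map π).comap π := by rw [heq]
        _ = Γ := hcomap
    exact absurd this (not_le_of_gt hΓN)
  obtain ⟨xq, hxN, hxn, hxΓ⟩ := exists_mem_normalizer_not_mem hNp hlt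
  obtain ⟨x, hxN', rfl⟩ := hxN
  refine ⟨(Subgroup.normalizer ((Γ.map π : Subgroup (G ⧸ G₀)) : Set (G ⧸ G₀))).comap π ⊓ N, ?_,
    inf_le_right, ?_⟩
  · refine lt_of_le_of_ne (le_inf ?_ hΓN.le) ?_
    · intro γ hγ
      exact Subgroup.mem_comap.mpr (Subgroup.le_normalizer ⟨γ, hγ, rfl⟩)
    · intro heq
      apply hxΓ
      have : x ∈ Γ := by
        rw [heq]; exact ⟨Subgroup.mem_comap.mpr hxn, hxN'⟩
      exact ⟨x, this, rfl⟩
  · calc (Subgroup.normalizer ((Γ.map π : Subgroup (G ⧸ G₀)) : Set (G ⧸ G₀))).comap π ⊓ N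
        ≤ (Subgroup.normalizer ((Γ.map π : Subgroup (G ⧸ G₀)) : Set (G ⧸ G₀))).comap π :=
          inf_le_left
      _ ≤ Subgroup.normalizer (((Γ.map π).comap π : Subgroup G) : Set G) :=
          Subgroup.le_normalizer_comap π
      _ = Subgroup.normalizer (Γ : Set G) := by rw [hcomap]

/-! ### From the chief factors above `Z` to all chief factors -/

/-- If `B` acts quadratically on `Z` and on every chief factor `U / V` with `Z ≤ V`, `U ≤ A`, then it
acts quadratically on every chief factor below `A`. -/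
theorem quad_chief_of_quad_above (A Z B : Subgroup G) [hZn : Z.Normal]
    (hqZ : ⁅⁅Z, B⁆, B⁆ = ⊥)
    (hqV : ∀ U V : Subgroup G, Cfsg.IsChiefFactor U V → Z ≤ V → U ≤ A → ⁅⁅U, B⁆, B⁆ ≤ V)
    (hZA : Z ≤ A) :
    ∀ U V : Subgroup G, Cfsg.IsChiefFactor U V → U ≤ A → ⁅⁅U, B⁆, B⁆ ≤ V := by
  intro U V hUV hUA
  obtain ⟨hlt, hUn, hVn, hmax⟩ := hUV
  haveI := hUn
  haveI := hVn
  have hNn : ((U ⊓ Z) ⊔ V).Normal := inferInstance
  rcases hmax _ hNn le_sup_right (sup_le inf_le_left hlt.le) with hN | hN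
  · have hUZV : U ⊓ Z ≤ V := by
      rw [← hN]; exact le_sup_left
    have hmod : ∀ x, x ∈ V ⊔ Z → x ∈ U → x ∈ V := by
      intro x hx hxU
      rw [← SetLike.mem_coe, Subgroup.mul_normal] at hx
      obtain ⟨v, hv, z, hz, rfl⟩ := hx
      have hzU : z ∈ U := by
        have e : z = v⁻¹ * (v * z) := by group
        rw [e]
        exact U.mul_mem (U.inv_mem (hlt.le hv)) hxU
      exact V.mul_mem hv (hUZV ⟨hzU, hz⟩)
    have hchief : Cfsg.IsChiefFactor (U ⊔ Z) (V ⊔ Z) := by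
      refine ⟨?_, inferInstance, inferInstance, ?_⟩
      · refine lt_of_le_of_ne (sup_le_sup_right hlt.le Z) ?_
        intro heq
        have : U ≤ V := fun u hu =>
          hmod u (by rw [heq]; exact (le_sup_left : U ≤ U ⊔ Z) hu) hu
        exact absurd this (not_le_of_gt hlt)
      · intro N' hN' h1 h2
        haveI := hN'
        rcases hmax (N' ⊓ U) inferInstance (le_inf (le_sup_left.trans h1) hlt.le) inf_le_right
          with h3 | h3
        · left
          apply le_antisymm _ h1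
          intro x hx
          have hx' := h2 hx
          rw [← SetLike.mem_coe, Subgroup.mul_normal] at hx'
          obtain ⟨u, hu, z, hz, rfl⟩ := hx'
          have huN : u ∈ N' := by
            have e : u = (u * z) * z⁻¹ := by group
            rw [e]
            exact N'.mul_mem hx (N'.inv_mem (h1 ((le_sup_right : Z ≤ V ⊔ Z) hz)))
          have huV : u ∈ V := by
            rw [← h3]; exact ⟨huN, hu⟩
          exact Subgroup.mul_mem_sup huV hz
        · right
          apply le_antisymm h2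
          apply sup_le
          · rw [← h3]; exact inf_le_left
          · exact le_sup_right.trans h1
    have h4 := hqV _ _ hchief le_sup_right (sup_le hUA hZA)
    intro x hx
    apply hmod x
    · exact h4 (Subgroup.commutator_mono (Subgroup.commutator_mono le_sup_left le_rfl) le_rfl hx)
    · exact ((Subgroup.commutator_mono (Subgroup.commutator_le_left U B) le_rfl).trans
        (Subgroup.commutator_le_left U B)) hx
  · calc ⁅⁅U, B⁆, B⁆ = ⁅⁅(U ⊓ Z) ⊔ V, B⁆, B⁆ := by rw [hN]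
      _ ≤ ⁅⁅U ⊓ Z, B⁆ ⊔ V, B⁆ :=
          Subgroup.commutator_mono
            (Cfsg.Agent.Helper33.commutator_sup_le_of_normal _ _ _) le_rfl
      _ ≤ ⁅⁅U ⊓ Z, B⁆, B⁆ ⊔ V := Cfsg.Agent.Helper33.commutator_sup_le_of_normal _ _ _
      _ ≤ ⁅⁅Z, B⁆, B⁆ ⊔ V :=
          sup_le_sup_right
            (Subgroup.commutator_mono (Subgroup.commutator_mono inf_le_right le_rfl) le_rfl) V
      _ = V := by rw [hqZ, bot_sup_eq]

end Cfsg.Agent.Helper34.KQ
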