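import Cfsg.Agent.Helper34.KInfQuadSec
import Cfsg.Agent.Helper34.KInfQuadCases

/-!
# Glauberman's K-infinity theorem: the quadratic clause

If `C_G(O_p(G)) ≤ O_p(G)` and a K-infinity subgroup of the Sylow `p`-subgroup `S` is not normal in
`G`, then for a critical-type subgroup `A` of `O_p(G)` some `g ∈ S` outside `O_p(G)` acts cubically on
`A`, quadratically on `Z(A)`, and quadratically and nontrivially on some chief factor of `G` inside
`A` (`exists_quadratic_chief_element`).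
-/

set_option autoImplicit false
set_option linter.style.haveILetI false

open scoped commutatorElement

universe u

namespace Cfsg.Agent.Helper34.KQ

open Cfsg.Agent.Helper33

section CommCent

variable {G : Type*} [Group G]

/-- The elements of `A` (of class at most two) all of whose commutators with `A` centralize `B`. -/
def commCentSub (A B : Subgroup G) (hA2 : ⁅A, A⁆ ≤ Subgroup.centralizer (A : Set G)) :
    Subgroup G where
  carrier := {a | a ∈ A ∧ ∀ a' ∈ A, ⁅a, a'⁆ ∈ Subgroup.centralizer (B : Set G)}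
  one_mem' := ⟨A.one_mem, fun a' _ => by
    rw [commutatorElement_one_left]; exact Subgroup.one_mem _⟩
  mul_mem' := by
    rintro a₁ a₂ ⟨h1, h1'⟩ ⟨h2, h2'⟩
    refine ⟨A.mul_mem h1 h2, fun a' ha' => ?_⟩
    have hw : ⁅a₂, a'⁆ ∈ Subgroup.centralizer (A : Set G) :=
      hA2 (Subgroup.commutator_mem_commutator h2 ha')
    have hc : a₁ * ⁅a₂, a'⁆ * a₁⁻¹ = ⁅a₂, a'⁆ := by
      rw [Subgroup.mem_centralizer_iff.mp hw a₁ h1, mul_inv_cancel_right]
    have e : ⁅a₁ * a₂, a'⁆ = (a₁ * ⁅a₂, a'⁆ * a₁⁻¹) * ⁅a₁, a'⁆ := by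
      simp only [commutatorElement_def]; group
    rw [e, hc]
    exact Subgroup.mul_mem _ (h2' a' ha') (h1' a' ha')
  inv_mem' := by
    rintro a ⟨h, h'⟩
    refine ⟨A.inv_mem h, fun a' ha' => ?_⟩
    have hw : (⁅a, a'⁆)⁻¹ ∈ Subgroup.centralizer (A : Set G) :=
      Subgroup.inv_mem _ (hA2 (Subgroup.commutator_mem_commutator h ha'))
    have hc : a⁻¹ * (⁅a, a'⁆)⁻¹ * a⁻¹⁻¹ = (⁅a, a'⁆)⁻¹ := by
      rw [Subgroup.mem_centralizer_iff.mp hw a⁻¹ (A.inv_mem h), mul_inv_cancel_right]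
    have e : ⁅a⁻¹, a'⁆ = a⁻¹ * (⁅a, a'⁆)⁻¹ * a⁻¹⁻¹ := by
      simp only [commutatorElement_def]; group
    rw [e, hc]
    exact Subgroup.inv_mem _ (h' a' ha')

theorem commCentSub_le (A B : Subgroup G) (hA2 : ⁅A, A⁆ ≤ Subgroup.centralizer (A : Set G)) :
    commCentSub A B hA2 ≤ A := fun _ h => h.1

/-- `Z(B) ∩ A ≤ A_B` when `A` is normal and normalizes `B`. -/
theorem inf_le_commCentSub (A B : Subgroup G) [hAn : A.Normal]
    (hA2 : ⁅A, A⁆ ≤ Subgroup.centralizer (A : Set G))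
    (hAB : A ≤ Subgroup.normalizer (B : Set G)) :
    (B ⊓ Subgroup.centralizer (B : Set G)) ⊓ A ≤ commCentSub A B hA2 := by
  rintro u ⟨⟨-, huc⟩, huA⟩
  refine ⟨huA, fun a' ha' => ?_⟩
  rw [Subgroup.mem_centralizer_iff]
  intro b hb
  -- `c = [b, a']` lies in `A ∩ B`
  have hcA : ⁅b, a'⁆ ∈ A := Subgroup.commutator_le_right B A (Subgroup.commutator_mem_commutator hb ha')
  have hcB : ⁅b, a'⁆ ∈ B := by
    have h1 : ⁅a', b⁆ ∈ B :=
      (Subgroup.le_normalizer_iff_commutator_le_right.mp hAB)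
        (Subgroup.commutator_mem_commutator ha' hb)
    rw [← commutatorElement_inv]
    exact B.inv_mem h1
  have hbu : b * u = u * b := Subgroup.mem_centralizer_iff.mp huc b hb
  have hcu : ⁅b, a'⁆ * u = u * ⁅b, a'⁆ := Subgroup.mem_centralizer_iff.mp huc _ hcB
  have hw : ⁅u, a'⁆ ∈ Subgroup.centralizer (A : Set G) :=
    hA2 (Subgroup.commutator_mem_commutator huA ha')
  have hcw : ⁅b, a'⁆ * ⁅u, a'⁆ = ⁅u, a'⁆ * ⁅b, a'⁆ := Subgroup.mem_centralizer_iff.mp hw _ hcA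
  have hbu' : b * u * b⁻¹ = u := by rw [hbu, mul_inv_cancel_right]
  have hba : b * a' * b⁻¹ = ⁅b, a'⁆ * a' := by rw [commutatorElement_def]; group
  have key : b * ⁅u, a'⁆ * b⁻¹ = ⁅u, a'⁆ := by
    calc b * ⁅u, a'⁆ * b⁻¹
        = (b * u * b⁻¹) * (b * a' * b⁻¹) * (b * u * b⁻¹)⁻¹ * (b * a' * b⁻¹)⁻¹ := by
          rw [commutatorElement_def]; group
      _ = u * (⁅b, a'⁆ * a') * u⁻¹ * (⁅b, a'⁆ * a')⁻¹ := by rw [hbu', hba]
      _ = (u * ⁅b, a'⁆) * a' * u⁻¹ * a'⁻¹ * (⁅b, a'⁆)⁻¹ := by group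
      _ = (⁅b, a'⁆ * u) * a' * u⁻¹ * a'⁻¹ * (⁅b, a'⁆)⁻¹ := by rw [hcu]
      _ = (⁅b, a'⁆ * ⁅u, a'⁆) * (⁅b, a'⁆)⁻¹ := by
          rw [commutatorElement_def u a']; group
      _ = ⁅u, a'⁆ := by rw [hcw, mul_inv_cancel_right]
  calc b * ⁅u, a'⁆ = (b * ⁅u, a'⁆ * b⁻¹) * b := by group
    _ = ⁅u, a'⁆ * b := by rw [key]

theorem conj_mem_commCentSub (A B : Subgroup G) [hAn : A.Normal]
    (hA2 : ⁅A, A⁆ ≤ Subgroup.centralizer (A : Set G)) {y : G}
    (hy : ∀ a ∈ commCentSub A B hA2, ∀ a'' ∈ A, y * ⁅a, a''⁆ = ⁅a, a''⁆ * y) :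
    ∀ a ∈ commCentSub A B hA2, y * a * y⁻¹ ∈ commCentSub A B hA2 := by
  intro a ha
  refine ⟨hAn.conj_mem a ha.1 y, fun a' ha' => ?_⟩
  have ha'' : y⁻¹ * a' * y ∈ A := by
    have := hAn.conj_mem a' ha' y⁻¹
    rwa [inv_inv] at this
  have e : ⁅y * a * y⁻¹, a'⁆ = y * ⁅a, y⁻¹ * a' * y⁆ * y⁻¹ := by
    simp only [commutatorElement_def]; group
  rw [e, hy a ha _ ha'', mul_inv_cancel_right]
  exact ha.2 _ ha''

theorem le_normalizer_commCentSub (A B : Subgroup G) [hAn : A.Normal]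
    (hA2 : ⁅A, A⁆ ≤ Subgroup.centralizer (A : Set G)) (K : Subgroup G)
    (hK : ∀ y ∈ K, ∀ a ∈ commCentSub A B hA2, ∀ a'' ∈ A, y * ⁅a, a''⁆ = ⁅a, a''⁆ * y) :
    K ≤ Subgroup.normalizer ((commCentSub A B hA2 : Subgroup G) : Set G) := by
  intro y hy
  rw [Subgroup.mem_normalizer_iff]
  intro h
  constructor
  · exact conj_mem_commCentSub A B hA2 (hK y hy) h
  · intro hh
    have := conj_mem_commCentSub A B hA2 (hK y⁻¹ (K.inv_mem hy)) _ hh
    have e : y⁻¹ * (y * h * y⁻¹) * y⁻¹⁻¹ = h := by group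
    rwa [e] at this

end CommCent

section Main

variable {G : Type u} [Group G] [Finite G] {p : ℕ} [hp : Fact p.Prime]

/-- The conclusion: an element of `S` outside `O_p(G)`, cubic on `A`, quadratic on `Z(A)`, and
quadratic and nontrivial on a chief factor inside `A`. -/
def QConcl (S : Sylow p G) (A : Subgroup G) : Prop :=
  ∃ g : G, g ∈ (S : Subgroup G) ∧ g ∉ Cfsg.pCore p G ∧
    Cfsg.iterCommutator A (Subgroup.zpowers g) 3 ≤
      A ⊓ Subgroup.centralizer ((A : Subgroup G) : Set G) ∧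
    ⁅⁅A ⊓ Subgroup.centralizer ((A : Subgroup G) : Set G), Subgroup.zpowers g⁆,
      Subgroup.zpowers g⁆ = ⊥ ∧
    ∃ U V : Subgroup G, Cfsg.IsChiefFactor U V ∧ U ≤ A ∧
      ⁅⁅U, Subgroup.zpowers g⁆, Subgroup.zpowers g⁆ ≤ V ∧ ¬ ⁅U, Subgroup.zpowers g⁆ ≤ V

theorem qconcl_of_quad_above (S : Sylow p G) (A : Subgroup G) (hAT : A ≤ Cfsg.pCore p G)
    [hAn : A.Normal]
    (hA4 : Cfsg.pCore p G ⊓ Subgroup.centralizer ((A : Subgroup G) : Set G) =
      A ⊓ Subgroup.centralizer ((A : Subgroup G) : Set G))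
    (hCT : Subgroup.centralizer ((Cfsg.pCore p G : Subgroup G) : Set G) ≤ Cfsg.pCore p G)
    (B₁ : Subgroup G) (hB₁S : B₁ ≤ (S : Subgroup G)) (hB₁T : ¬ B₁ ≤ Cfsg.pCore p G)
    (hcub : ⁅⁅⁅A, B₁⁆, B₁⁆, B₁⁆ = ⊥)
    (hqZ : ⁅⁅A ⊓ Subgroup.centralizer ((A : Subgroup G) : Set G), B₁⁆, B₁⁆ = ⊥)
    (hqV : ∀ U V : Subgroup G, Cfsg.IsChiefFactor U V →
      A ⊓ Subgroup.centralizer ((A : Subgroup G) : Set G) ≤ V → U ≤ A → ⁅⁅U, B₁⁆, B₁⁆ ≤ V) :
    QConcl S A := by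
  have hTp : IsPGroup p (Cfsg.pCore p G) := Cfsg.Agent.Helper33.pCore_isPGroup
  have hAp : IsPGroup p A := hTp.to_le hAT
  have hq := quad_chief_of_quad_above A (A ⊓ Subgroup.centralizer ((A : Subgroup G) : Set G)) B₁
    hqZ hqV inf_le_left
  obtain ⟨g, hgB, hgT⟩ := SetLike.not_le_iff_exists.mp hB₁T
  have hker : chiefKer A ≤ Cfsg.pCore p G :=
    chiefKer_le_pCore A hAp
      (fun y hyp hy => eq_one_of_coprime_of_mem_centralizer A hA4 hCT hyp hy)
  have hgk : g ∉ chiefKer A := fun h => hgT (hker h)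
  rw [mem_chiefKer] at hgk
  push Not at hgk
  obtain ⟨U, V, hUV, hUA, u, hu, huV⟩ := hgk
  have hgB' : Subgroup.zpowers g ≤ B₁ := by
    rw [Subgroup.zpowers_le]; exact hgB
  refine ⟨g, hB₁S hgB, hgT, ?_, ?_, U, V, hUV, hUA, ?_, ?_⟩
  · show ⁅⁅⁅A, Subgroup.zpowers g⁆, Subgroup.zpowers g⁆, Subgroup.zpowers g⁆ ≤ _
    calc ⁅⁅⁅A, Subgroup.zpowers g⁆, Subgroup.zpowers g⁆, Subgroup.zpowers g⁆
        ≤ ⁅⁅⁅A, B₁⁆, B₁⁆, B₁⁆ :=
          Subgroup.commutator_mono (Subgroup.commutator_mono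
            (Subgroup.commutator_mono le_rfl hgB') hgB') hgB'
      _ = ⊥ := hcub
      _ ≤ _ := bot_le
  · apply le_bot_iff.mp
    rw [← hqZ]
    exact Subgroup.commutator_mono (Subgroup.commutator_mono le_rfl hgB') hgB'
  · exact (Subgroup.commutator_mono (Subgroup.commutator_mono le_rfl hgB') hgB').trans
      (hq U V hUV hUA)
  · intro hle
    exact huV (hle (Subgroup.commutator_mem_commutator hu (Subgroup.mem_zpowers g)))

theorem qconcl_of_quad (S : Sylow p G) (A : Subgroup G) (hAT : A ≤ Cfsg.pCore p G)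
    [hAn : A.Normal]
    (hA4 : Cfsg.pCore p G ⊓ Subgroup.centralizer ((A : Subgroup G) : Set G) =
      A ⊓ Subgroup.centralizer ((A : Subgroup G) : Set G))
    (hCT : Subgroup.centralizer ((Cfsg.pCore p G : Subgroup G) : Set G) ≤ Cfsg.pCore p G)
    (B₁ : Subgroup G) (hB₁S : B₁ ≤ (S : Subgroup G)) (hB₁T : ¬ B₁ ≤ Cfsg.pCore p G)
    (hquad : ⁅⁅A, B₁⁆, B₁⁆ = ⊥) : QConcl S A := by
  apply qconcl_of_quad_above S A hAT hA4 hCT B₁ hB₁S hB₁T
  · rw [hquad]; exact Subgroup.commutator_bot_left B₁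
  · apply le_bot_iff.mp
    rw [← hquad]
    exact Subgroup.commutator_mono (Subgroup.commutator_mono inf_le_left le_rfl) le_rfl
  · intro U V _ _ hUA
    calc ⁅⁅U, B₁⁆, B₁⁆ ≤ ⁅⁅A, B₁⁆, B₁⁆ :=
          Subgroup.commutator_mono (Subgroup.commutator_mono hUA le_rfl) le_rfl
      _ = ⊥ := hquad
      _ ≤ V := bot_le

theorem qconcl_of_test (S : Sylow p G) (A : Subgroup G) (hAT : A ≤ Cfsg.pCore p G)
    [hAn : A.Normal]
    (hA4 : Cfsg.pCore p G ⊓ Subgroup.centralizer ((A : Subgroup G) : Set G) =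
      A ⊓ Subgroup.centralizer ((A : Subgroup G) : Set G))
    (hCT : Subgroup.centralizer ((Cfsg.pCore p G : Subgroup G) : Set G) ≤ Cfsg.pCore p G)
    (B : Subgroup G) (hBS : B ≤ (S : Subgroup G)) (hBT : ¬ B ≤ Cfsg.pCore p G)
    (hB2 : B ∈ Cfsg.classTwoSubgroups G) (hAB : A ≤ Subgroup.normalizer (B : Set G))
    (hABB : ⁅A, ⁅B, B⁆⁆ = ⊥)
    (hqZ : ⁅⁅A ⊓ Subgroup.centralizer ((A : Subgroup G) : Set G), B⁆, B⁆ = ⊥) :
    QConcl S A := by
  apply qconcl_of_quad_above S A hAT hA4 hCT B hBS hBT (cubic_of_classTwo A B hB2 hAB) hqZ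
  have h1 : ⁅A, B⁆ ≤ B := Subgroup.le_normalizer_iff_commutator_le_right.mp hAB
  have h2 : ⁅B, B⁆ ≤ Subgroup.centralizer ((A : Subgroup G) : Set G) := by
    rw [← Subgroup.commutator_eq_bot_iff_le_centralizer, Subgroup.commutator_comm]
    exact hABB
  have h3 : ⁅⁅A, B⁆, B⁆ ≤ A :=
    (Subgroup.commutator_mono (Subgroup.commutator_le_left A B) le_rfl).trans
      (Subgroup.commutator_le_left A B)
  have h4 : ⁅⁅A, B⁆, B⁆ ≤ A ⊓ Subgroup.centralizer ((A : Subgroup G) : Set G) :=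
    le_inf h3 ((Subgroup.commutator_mono h1 le_rfl).trans h2)
  intro U V _ hZV hUA
  exact ((Subgroup.commutator_mono (Subgroup.commutator_mono hUA le_rfl) le_rfl).trans h4).trans hZV

theorem qconcl_of_lower (S : Sylow p G) (A : Subgroup G) (hAT : A ≤ Cfsg.pCore p G)
    [hAn : A.Normal]
    (hA2 : ⁅A, A⁆ ≤ Subgroup.centralizer ((A : Subgroup G) : Set G))
    (hA3 : ⁅Cfsg.pCore p G, A⁆ ≤ A ⊓ Subgroup.centralizer ((A : Subgroup G) : Set G))
    (hA4 : Cfsg.pCore p G ⊓ Subgroup.centralizer ((A : Subgroup G) : Set G) =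
      A ⊓ Subgroup.centralizer ((A : Subgroup G) : Set G))
    (hCT : Subgroup.centralizer ((Cfsg.pCore p G : Subgroup G) : Set G) ≤ Cfsg.pCore p G)
    (B R : Subgroup G) (hBS : B ≤ (S : Subgroup G)) (hBT : ¬ B ≤ Cfsg.pCore p G)
    (hAR : A ≤ R) (hBR : B ∈ Cfsg.kLowerStarFamily R) : QConcl S A := by
  obtain ⟨hB2, hRB, hstar⟩ := hBR
  obtain ⟨Z, hZ⟩ : ∃ Z : Subgroup G,
    Z = A ⊓ Subgroup.centralizer ((A : Subgroup G) : Set G) := ⟨_, rfl⟩
  haveI hZn : Z.Normal := by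
    rw [hZ]; infer_instance
  have hZA : Z ≤ A := hZ ▸ inf_le_left
  have hZc : Z ≤ Subgroup.centralizer ((A : Subgroup G) : Set G) := hZ ▸ inf_le_right
  have hZZ : ⁅Z, Z⁆ = ⊥ :=
    Subgroup.commutator_eq_bot_iff_le_centralizer.mpr
      (hZc.trans (Subgroup.centralizer_le (by exact_mod_cast hZA)))
  have hAB : A ≤ Subgroup.normalizer (B : Set G) := hAR.trans hRB
  have hAAZ : ⁅A, A⁆ ≤ Z := by
    rw [hZ]; exact le_inf (Subgroup.commutator_le_left A A) hA2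
  have hcub := cubic_of_classTwo A B hB2 hAB
  have hTn : (Cfsg.pCore p G).Normal := Cfsg.Agent.Helper33.pCore_normal p
  have hTp : IsPGroup p (Cfsg.pCore p G) := Cfsg.Agent.Helper33.pCore_isPGroup
  -- `B` is quadratic on `Z`
  have hBZ : ⁅B, Z⁆ ≤ B ⊓ Subgroup.centralizer (B : Set G) := by
    apply hstar Z _ (hZA.trans hAR) _ _ _
    · show ⁅Z, Z⁆ ≤ Subgroup.centralizer (Z : Set G)
      rw [hZZ]; exact bot_le
    · rw [Subgroup.normalizer_eq_top_iff.mpr hZn]; exact le_top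
    · rw [hZZ]; exact Subgroup.commutator_bot_right B
    · have h1 : ⁅B ⊓ Subgroup.centralizer (B : Set G), Z⁆ ≤ Z := Subgroup.commutator_le_right _ _
      exact le_bot_iff.mp ((Subgroup.commutator_mono h1 le_rfl).trans hZZ.le)
  have hqZ : ⁅⁅Z, B⁆, B⁆ = ⊥ := quadratic_of_commutator_le_center Z B hBZ
  by_cases hZBT : B ⊓ Subgroup.centralizer (B : Set G) ≤ Cfsg.pCore p G
  swap
  · -- the centre of `B` is not inside `O_p(G)`: it acts quadratically on `A`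
    apply qconcl_of_quad S A hAT hA4 hCT (B ⊓ Subgroup.centralizer (B : Set G))
      (inf_le_left.trans hBS) hZBT
    have h1 : ⁅A, B ⊓ Subgroup.centralizer (B : Set G)⁆ ≤ B :=
      (Subgroup.commutator_mono le_rfl inf_le_left).trans
        (Subgroup.le_normalizer_iff_commutator_le_right.mp hAB)
    have h2 : ⁅B, B ⊓ Subgroup.centralizer (B : Set G)⁆ = ⊥ := by
      rw [Subgroup.commutator_comm]
      exact Subgroup.commutator_eq_bot_iff_le_centralizer.mpr inf_le_right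
    exact le_bot_iff.mp ((Subgroup.commutator_mono h1 le_rfl).trans h2.le)
  by_cases hBN : B ≤ chiefKer Z
  swap
  · -- `B` moves a chief factor inside `Z`
    obtain ⟨g, hgB, hgN⟩ := SetLike.not_le_iff_exists.mp hBN
    rw [mem_chiefKer] at hgN
    push Not at hgN
    obtain ⟨U, V, hUV, hUZ, u, hu, huV⟩ := hgN
    have hgT : g ∉ Cfsg.pCore p G := by
      intro hgT
      apply huV
      have h1 : ⁅g, u⁆ ∈ V :=
        (commutator_le_of_isChiefFactor (Cfsg.pCore p G) hTp hUV)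
          (Subgroup.commutator_mem_commutator hgT hu)
      rw [← commutatorElement_inv g u]
      exact V.inv_mem h1
    have hgB' : Subgroup.zpowers g ≤ B := by
      rw [Subgroup.zpowers_le]; exact hgB
    refine ⟨g, hBS hgB, hgT, ?_, ?_, U, V, hUV, hUZ.trans hZA, ?_, ?_⟩
    · show ⁅⁅⁅A, Subgroup.zpowers g⁆, Subgroup.zpowers g⁆, Subgroup.zpowers g⁆ ≤ _
      calc ⁅⁅⁅A, Subgroup.zpowers g⁆, Subgroup.zpowers g⁆, Subgroup.zpowers g⁆
          ≤ ⁅⁅⁅A, B⁆, B⁆, B⁆ :=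
            Subgroup.commutator_mono (Subgroup.commutator_mono
              (Subgroup.commutator_mono le_rfl hgB') hgB') hgB'
        _ = ⊥ := hcub
        _ ≤ _ := bot_le
    · rw [← hZ]
      apply le_bot_iff.mp
      rw [← hqZ]
      exact Subgroup.commutator_mono (Subgroup.commutator_mono le_rfl hgB') hgB'
    · calc ⁅⁅U, Subgroup.zpowers g⁆, Subgroup.zpowers g⁆ ≤ ⁅⁅Z, B⁆, B⁆ :=
            Subgroup.commutator_mono (Subgroup.commutator_mono hUZ hgB') hgB'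
        _ = ⊥ := hqZ
        _ ≤ V := bot_le
    · intro hle
      exact huV (hle (Subgroup.commutator_mem_commutator hu (Subgroup.mem_zpowers g)))
  -- main case: `Z(B) ≤ O_p(G)` and `B` is trivial on the chief factors inside `Z`
  have hZp : IsPGroup p Z := hTp.to_le (hZA.trans hAT)
  have hpq : ∀ y ∈ chiefKer Z, ∃ k : ℕ, y ^ (p ^ k) ∈ Subgroup.centralizer (Z : Set G) := by
    intro y hy
    obtain ⟨k, hk⟩ := exists_pow_coprime p y
    exact ⟨k, mem_centralizer_of_mem_chiefKer Z hZp ((chiefKer Z).pow_mem hy _) hk⟩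
  obtain ⟨D, hD⟩ : ∃ D : Subgroup G, D = commCentSub A B hA2 := ⟨_, rfl⟩
  have hDA : D ≤ A := hD ▸ commCentSub_le A B hA2
  have hBD : B ≤ Subgroup.normalizer (D : Set G) := by
    rw [hD]
    apply le_normalizer_commCentSub
    intro y hy a ha a'' ha''
    exact Subgroup.mem_centralizer_iff.mp (ha.2 a'' ha'') y hy
  have hG₀D : Subgroup.centralizer (Z : Set G) ≤ Subgroup.normalizer (D : Set G) := by
    rw [hD]
    apply le_normalizer_commCentSub
    intro y hy a ha a'' ha''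
    exact (Subgroup.mem_centralizer_iff.mp hy _
      (hAAZ (Subgroup.commutator_mem_commutator ha.1 ha''))).symm
  have hBDc : ⁅B, D⁆ ≤ B ⊓ Subgroup.centralizer (B : Set G) := by
    apply hstar D _ (hDA.trans hAR) hBD _ _
    · show ⁅D, D⁆ ≤ Subgroup.centralizer (D : Set G)
      exact (Subgroup.commutator_mono hDA hDA).trans
        (hA2.trans (Subgroup.centralizer_le (by exact_mod_cast hDA)))
    · rw [Subgroup.commutator_comm, Subgroup.commutator_eq_bot_iff_le_centralizer,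
        Subgroup.commutator_le]
      intro a ha a' ha'
      rw [hD] at ha
      exact ha.2 a' (hDA ha')
    · have h1 : ⁅B ⊓ Subgroup.centralizer (B : Set G), D⁆ ≤ Z := by
        calc ⁅B ⊓ Subgroup.centralizer (B : Set G), D⁆ ≤ ⁅Cfsg.pCore p G, A⁆ :=
              Subgroup.commutator_mono hZBT hDA
          _ ≤ A ⊓ Subgroup.centralizer ((A : Subgroup G) : Set G) := hA3
          _ = Z := hZ.symm
      have h2 : ⁅Z, D⁆ = ⊥ :=
        Subgroup.commutator_eq_bot_iff_le_centralizer.mpr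
          (hZc.trans (Subgroup.centralizer_le (by exact_mod_cast hDA)))
      exact le_bot_iff.mp ((Subgroup.commutator_mono h1 le_rfl).trans h2.le)
  have h1 : ∀ a ∈ D, ∀ b ∈ B, ∀ b' ∈ B, ⁅b', ⁅b, a⁆⁆ = 1 := by
    intro a ha b hb b' hb'
    have hc : ⁅b, a⁆ ∈ Subgroup.centralizer (B : Set G) :=
      (hBDc (Subgroup.commutator_mem_commutator hb ha)).2
    exact commutatorElement_eq_one_iff_mul_comm.mpr (Subgroup.mem_centralizer_iff.mp hc b' hb')
  have h2 : ∀ a ∈ A, ∀ b ∈ B, ∀ b' ∈ B, ⁅b', ⁅b, a⁆⁆ ∈ D := by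
    intro a ha b hb b' hb'
    have hcB : ⁅b, a⁆ ∈ B := by
      have h3 : ⁅a, b⁆ ∈ B :=
        (Subgroup.le_normalizer_iff_commutator_le_right.mp hAB)
          (Subgroup.commutator_mem_commutator ha hb)
      rw [← commutatorElement_inv a b]
      exact B.inv_mem h3
    have hcA : ⁅b, a⁆ ∈ A :=
      Subgroup.commutator_le_right B A (Subgroup.commutator_mem_commutator hb ha)
    rw [hD]
    apply inf_le_commCentSub A B hA2 hAB
    refine ⟨⟨?_, ?_⟩, ?_⟩
    · rw [commutatorElement_def]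
      exact B.mul_mem (B.mul_mem (B.mul_mem hb' hcB) (B.inv_mem hb')) (B.inv_mem hcB)
    · exact hB2 (Subgroup.commutator_mem_commutator hb' hcB)
    · exact Subgroup.commutator_le_right B A (Subgroup.commutator_mem_commutator hb' hcA)
  have hqV := quad_above_of_data A Z hAAZ (Subgroup.centralizer (Z : Set G)) (chiefKer Z) B D
    (centralizer_le_chiefKer Z) hBN hpq (sup_le hG₀D hBD) h1 h2
  subst hZ
  exact qconcl_of_quad_above S A hAT hA4 hCT B hBS hBT hcub hqZ hqV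

/-- **Glauberman's quadratic element.**  `A ≤ O_p(G)` normal in `G` of class at most two with
`[O_p(G), A] ≤ Z(A)` and `C_{O_p(G)}(A) = Z(A)`, and `C_G(O_p(G)) ≤ O_p(G)`.  If a K-infinity subgroup
of the Sylow `p`-subgroup `S` is not normal in `G`, then some `g ∈ S` outside `O_p(G)` acts cubically
on `A`, quadratically on `Z(A)`, and quadratically and nontrivially on a chief factor inside `A`. -/
theorem exists_quadratic_chief_element (S : Sylow p G) (A : Subgroup G)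
    (hAT : A ≤ Cfsg.pCore p G) (hAn : A.Normal)
    (hA2 : ⁅A, A⁆ ≤ Subgroup.centralizer ((A : Subgroup G) : Set G))
    (hA3 : ⁅Cfsg.pCore p G, A⁆ ≤ A ⊓ Subgroup.centralizer ((A : Subgroup G) : Set G))
    (hA4 : Cfsg.pCore p G ⊓ Subgroup.centralizer ((A : Subgroup G) : Set G) =
      A ⊓ Subgroup.centralizer ((A : Subgroup G) : Set G))
    (hCT : Subgroup.centralizer ((Cfsg.pCore p G : Subgroup G) : Set G) ≤ Cfsg.pCore p G)
    (hK : ¬ (Cfsg.inducedFunctor Cfsg.kInfLower (S : Subgroup G)).Normal ∨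
      ¬ (Cfsg.inducedFunctor Cfsg.kInfUpper (S : Subgroup G)).Normal) :
    QConcl S A := by
  haveI := hAn
  obtain ⟨B, hBS, hBT, hcase⟩ := exists_refined_in_group S A hAT hAn hA2 hA3 hK
  rcases hcase with ⟨R, hAR, hBR⟩ | hq | ⟨h1, h3, h4, h5⟩
  · exact qconcl_of_lower S A hAT hA2 hA3 hA4 hCT B R hBS hBT hAR hBR
  · exact qconcl_of_quad S A hAT hA4 hCT B hBS hBT hq
  · exact qconcl_of_test S A hAT hA4 hCT B hBS hBT h1 h3 h4 h5

end Main

end Cfsg.Agent.Helper34.KQ
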