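import Mathlib

/-!
# Quadratic action on irreducible sections: the Clifford step

Abstract lemmas (no K-infinity here).  A group `Γ₀` acts on a group `V` through a homomorphism
`ρ : Γ₀ →* MulAut V`; inside `V` sits an abelian invariant subgroup `Ab`.  For a subgroup `B` of `Γ₀`
we study the sections `X / Y` of `Ab` that are irreducible under a subgroup `Γ` and on which `B`
acts quadratically.  The main results:

* `QMod.base`: a sufficient condition for `B` to be quadratic on every `Γ`-irreducible section;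
* `QMod.clifford`: quadraticity on all irreducible sections passes from a normal subgroup `Γ` of
  `Γ'` to `Γ'`;
* `QMod.chain`: the same along a chain of successively normal subgroups.
-/

set_option autoImplicit false

namespace Cfsg.Agent.Helper34.QMod

open Pointwise

variable {Γ₀ V : Type*} [Group Γ₀] [Group V] (ρ : Γ₀ →* MulAut V)

/-- The commutator map `v ↦ (b • v) v⁻¹`. -/
def cm (b : Γ₀) (v : V) : V := ρ b • v * v⁻¹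

/-- `Ab` is abelian and invariant under the whole acting group. -/
def AbInv (Ab : Subgroup V) : Prop :=
  (∀ x ∈ Ab, ∀ y ∈ Ab, x * y = y * x) ∧ ∀ (g : Γ₀), ∀ v ∈ Ab, ρ g • v ∈ Ab

/-- `W` is invariant under the subgroup `Γ`. -/
def Inv (Γ : Subgroup Γ₀) (W : Subgroup V) : Prop := ∀ γ ∈ Γ, ∀ v ∈ W, ρ γ • v ∈ W

/-- `X / Y` is an irreducible `Γ`-section of `Ab`. -/
def IrrSec (Ab : Subgroup V) (Γ : Subgroup Γ₀) (X Y : Subgroup V) : Prop :=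
  Y < X ∧ X ≤ Ab ∧ Inv ρ Γ X ∧ Inv ρ Γ Y ∧
    ∀ W : Subgroup V, Inv ρ Γ W → Y ≤ W → W ≤ X → W = Y ∨ W = X

/-- `B` acts quadratically on the section `X / Y`. -/
def QuadSec (B : Subgroup Γ₀) (X Y : Subgroup V) : Prop :=
  ∀ v ∈ X, ∀ b ∈ B, ∀ b' ∈ B, cm ρ b' (cm ρ b v) ∈ Y

variable {ρ}

theorem cm_one (b : Γ₀) : cm ρ b (1 : V) = 1 := by
  unfold cm
  rw [smul_one, inv_one, mul_one]

theorem cm_mem {Ab : Subgroup V} (h : AbInv ρ Ab) (b : Γ₀) {v : V} (hv : v ∈ Ab) :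
    cm ρ b v ∈ Ab :=
  Ab.mul_mem (h.2 b v hv) (Ab.inv_mem hv)

theorem cm_mul {Ab : Subgroup V} (h : AbInv ρ Ab) (b : Γ₀) {v w : V} (hv : v ∈ Ab)
    (hw : w ∈ Ab) : cm ρ b (v * w) = cm ρ b v * cm ρ b w := by
  unfold cm
  rw [smul_mul', mul_inv_rev]
  have h1 : (ρ b • w * w⁻¹) * v⁻¹ = v⁻¹ * (ρ b • w * w⁻¹) :=
    h.1 _ (Ab.mul_mem (h.2 b w hw) (Ab.inv_mem hw)) _ (Ab.inv_mem hv)
  calc ρ b • v * ρ b • w * (w⁻¹ * v⁻¹) = ρ b • v * ((ρ b • w * w⁻¹) * v⁻¹) := by group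
    _ = ρ b • v * (v⁻¹ * (ρ b • w * w⁻¹)) := by rw [h1]
    _ = ρ b • v * v⁻¹ * (ρ b • w * w⁻¹) := by group

theorem cm_inv {Ab : Subgroup V} (h : AbInv ρ Ab) (b : Γ₀) {v : V} (hv : v ∈ Ab) :
    cm ρ b v⁻¹ = (cm ρ b v)⁻¹ := by
  have h1 := cm_mul h b hv (Ab.inv_mem hv)
  rw [mul_inv_cancel, cm_one] at h1
  exact (inv_eq_of_mul_eq_one_right h1.symm).symm

theorem cm_mem_of_inv {Γ : Subgroup Γ₀} {W : Subgroup V} (hW : Inv ρ Γ W) {b : Γ₀} (hb : b ∈ Γ)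
    {v : V} (hv : v ∈ W) : cm ρ b v ∈ W :=
  W.mul_mem (hW b hb v hv) (W.inv_mem hv)

/-- The largest subgroup of `Ab` on which `B` is quadratic modulo `Y`. -/
def quadSub {Ab : Subgroup V} (h : AbInv ρ Ab) (B : Subgroup Γ₀) (Y : Subgroup V) :
    Subgroup V where
  carrier := {v | v ∈ Ab ∧ ∀ b ∈ B, ∀ b' ∈ B, cm ρ b' (cm ρ b v) ∈ Y}
  one_mem' := ⟨Ab.one_mem, fun b _ b' _ => by rw [cm_one, cm_one]; exact Y.one_mem⟩
  mul_mem' := by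
    rintro v w ⟨hv, hv'⟩ ⟨hw, hw'⟩
    refine ⟨Ab.mul_mem hv hw, fun b hb b' hb' => ?_⟩
    rw [cm_mul h b hv hw, cm_mul h b' (cm_mem h b hv) (cm_mem h b hw)]
    exact Y.mul_mem (hv' b hb b' hb') (hw' b hb b' hb')
  inv_mem' := by
    rintro v ⟨hv, hv'⟩
    refine ⟨Ab.inv_mem hv, fun b hb b' hb' => ?_⟩
    rw [cm_inv h b hv, cm_inv h b' (cm_mem h b hv)]
    exact Y.inv_mem (hv' b hb b' hb')

theorem quadSec_iff {Ab : Subgroup V} (h : AbInv ρ Ab) (B : Subgroup Γ₀) {X : Subgroup V}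
    (Y : Subgroup V) (hX : X ≤ Ab) : QuadSec ρ B X Y ↔ X ≤ quadSub h B Y := by
  constructor
  · intro hq v hv
    exact ⟨hX hv, hq v hv⟩
  · intro hle v hv
    exact (hle hv).2

theorem inv_sup {Γ : Subgroup Γ₀} {W₁ W₂ : Subgroup V} (h₁ : Inv ρ Γ W₁) (h₂ : Inv ρ Γ W₂) :
    Inv ρ Γ (W₁ ⊔ W₂) := by
  intro γ hγ v hv
  have hle : W₁ ⊔ W₂ ≤ (W₁ ⊔ W₂).comap (ρ γ).toMonoidHom := by
    apply sup_le
    · intro x hx
      exact Subgroup.mem_comap.mpr ((le_sup_left : W₁ ≤ W₁ ⊔ W₂) (h₁ γ hγ x hx))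
    · intro x hx
      exact Subgroup.mem_comap.mpr ((le_sup_right : W₂ ≤ W₁ ⊔ W₂) (h₂ γ hγ x hx))
  exact Subgroup.mem_comap.mp (hle hv)

theorem inv_inf {Γ : Subgroup Γ₀} {W₁ W₂ : Subgroup V} (h₁ : Inv ρ Γ W₁) (h₂ : Inv ρ Γ W₂) :
    Inv ρ Γ (W₁ ⊓ W₂) := by
  intro γ hγ v hv
  exact ⟨h₁ γ hγ v hv.1, h₂ γ hγ v hv.2⟩

/-- **Base step.**  If a `Γ`-invariant subgroup `D` is centralized twice by `B` and receives all
double commutators of `Ab` with `B`, then `B` is quadratic on every irreducible `Γ`-section. -/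
theorem base {Ab D : Subgroup V} (h : AbInv ρ Ab) {Γ B : Subgroup Γ₀} (hBΓ : B ≤ Γ)
    (hDinv : Inv ρ Γ D)
    (hD1 : ∀ v ∈ D, v ∈ Ab → ∀ b ∈ B, ∀ b' ∈ B, cm ρ b' (cm ρ b v) = 1)
    (hD2 : ∀ v ∈ Ab, ∀ b ∈ B, ∀ b' ∈ B, cm ρ b' (cm ρ b v) ∈ D) :
    ∀ X Y, IrrSec ρ Ab Γ X Y → QuadSec ρ B X Y := by
  rintro X Y ⟨hlt, hXA, hXi, hYi, hirr⟩
  have hWi : Inv ρ Γ ((X ⊓ D) ⊔ Y) := inv_sup (inv_inf hXi hDinv) hYi
  rcases hirr _ hWi le_sup_right (sup_le inf_le_left hlt.le) with hW | hW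
  · have hXD : X ⊓ D ≤ Y := by
      rw [← hW]; exact le_sup_left
    intro v hv b hb b' hb'
    apply hXD
    exact ⟨cm_mem_of_inv hXi (hBΓ hb') (cm_mem_of_inv hXi (hBΓ hb) hv),
      hD2 v (hXA hv) b hb b' hb'⟩
  · rw [quadSec_iff h B Y hXA]
    calc X = (X ⊓ D) ⊔ Y := hW.symm
      _ ≤ quadSub h B Y := by
        apply sup_le
        · intro v hv
          refine ⟨hXA hv.1, fun b hb b' hb' => ?_⟩
          rw [hD1 v hv.2 (hXA hv.1) b hb b' hb']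
          exact Y.one_mem
        · intro v hv
          exact ⟨hXA (hlt.le hv), fun b hb b' hb' =>
            cm_mem_of_inv hYi (hBΓ hb') (cm_mem_of_inv hYi (hBΓ hb) hv)⟩

theorem smul_eq_of_inv {Γ : Subgroup Γ₀} {W : Subgroup V} (hW : Inv ρ Γ W) {γ : Γ₀} (hγ : γ ∈ Γ) :
    ρ γ • W = W := by
  apply le_antisymm
  · intro v hv
    obtain ⟨w, hw, rfl⟩ := (Subgroup.mem_smul_pointwise_iff_exists _ _ _).mp hv
    exact hW γ hγ w hw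
  · intro v hv
    rw [Subgroup.mem_pointwise_smul_iff_inv_smul_mem, ← map_inv]
    exact hW γ⁻¹ (Γ.inv_mem hγ) v hv

theorem inv_smul {Γ : Subgroup Γ₀} {W : Subgroup V} (hW : Inv ρ Γ W) {γ : Γ₀}
    (hγ : ∀ δ ∈ Γ, γ⁻¹ * δ * γ ∈ Γ) : Inv ρ Γ (ρ γ • W) := by
  intro δ hδ v hv
  obtain ⟨w, hw, rfl⟩ := (Subgroup.mem_smul_pointwise_iff_exists _ _ _).mp hv
  have h1 : ρ δ • ρ γ • w = ρ γ • (ρ (γ⁻¹ * δ * γ) • w) := by
    rw [← mul_smul, ← mul_smul, ← map_mul, ← map_mul]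
    congr 2
    group
  rw [h1]
  exact Subgroup.smul_mem_pointwise_smul _ _ _ (hW _ (hγ δ hδ) w hw)

/-- **Clifford step.**  If `Γ` is normalized by `Γ'` and `B` is quadratic on all irreducible
`Γ`-sections, then it is quadratic on all irreducible `Γ'`-sections. -/
theorem clifford [Finite V] {Ab : Subgroup V} (h : AbInv ρ Ab) {Γ Γ' B : Subgroup Γ₀}
    (hΓΓ' : Γ ≤ Γ') (hnorm : ∀ γ ∈ Γ', ∀ δ ∈ Γ, γ⁻¹ * δ * γ ∈ Γ)
    (hq : ∀ X Y, IrrSec ρ Ab Γ X Y → QuadSec ρ B X Y) :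
    ∀ X Y, IrrSec ρ Ab Γ' X Y → QuadSec ρ B X Y := by
  rintro X Y ⟨hlt, hXA, hXi, hYi, hirr⟩
  have hXiΓ : Inv ρ Γ X := fun γ hγ => hXi γ (hΓΓ' hγ)
  have hYiΓ : Inv ρ Γ Y := fun γ hγ => hYi γ (hΓΓ' hγ)
  obtain ⟨X₁, -, hX₁min⟩ := Finite.exists_le_minimal
    (p := fun W : Subgroup V => Inv ρ Γ W ∧ Y < W ∧ W ≤ X) (a := X) ⟨hXiΓ, hlt, le_rfl⟩
  obtain ⟨⟨hX₁i, hYX₁, hX₁X⟩, hmin⟩ := hX₁min
  have hnorm' : ∀ γ ∈ Γ', ∀ δ ∈ Γ, γ * δ * γ⁻¹ ∈ Γ := by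
    intro γ hγ δ hδ
    have := hnorm γ⁻¹ (Γ'.inv_mem hγ) δ hδ
    rwa [inv_inv] at this
  -- translates of `X₁` are irreducible sections over `Y`
  have htr : ∀ γ ∈ Γ', IrrSec ρ Ab Γ (ρ γ • X₁) Y := by
    intro γ hγ
    have hYγ : ρ γ • Y = Y := smul_eq_of_inv hYi hγ
    have hYγ' : (ρ γ)⁻¹ • Y = Y := by
      rw [← map_inv]; exact smul_eq_of_inv hYi (Γ'.inv_mem hγ)
    refine ⟨?_, ?_, inv_smul hX₁i (hnorm γ hγ), hYiΓ, ?_⟩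
    · rw [lt_iff_le_and_ne]
      constructor
      · rw [← hYγ]
        exact Subgroup.pointwise_smul_le_pointwise_smul_iff.mpr hYX₁.le
      · intro heq
        have h2 : X₁ = Y := by
          have h3 : ρ γ • Y = ρ γ • X₁ := by rw [hYγ]; exact heq
          exact (smul_left_cancel (ρ γ) h3).symm
        exact hYX₁.ne h2.symm
    · intro v hv
      obtain ⟨w, hw, rfl⟩ := (Subgroup.mem_smul_pointwise_iff_exists _ _ _).mp hv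
      exact h.2 γ w (hXA (hX₁X hw))
    · intro W hWi hYW hWX
      have hW'i : Inv ρ Γ ((ρ γ)⁻¹ • W) := by
        rw [← map_inv]
        apply inv_smul hWi
        intro δ hδ
        rw [inv_inv]
        exact hnorm' γ hγ δ hδ
      have hYW' : Y ≤ (ρ γ)⁻¹ • W := by
        rw [← hYγ']
        exact Subgroup.pointwise_smul_le_pointwise_smul_iff.mpr hYW
      have hW'X : (ρ γ)⁻¹ • W ≤ X₁ := by
        have := Subgroup.pointwise_smul_le_pointwise_smul_iff (a := (ρ γ)⁻¹).mpr hWX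
        rwa [inv_smul_smul] at this
      by_cases hcase : (ρ γ)⁻¹ • W = Y
      · left
        have h4 : W = ρ γ • ((ρ γ)⁻¹ • W) := by rw [smul_inv_smul]
        rw [h4, hcase, hYγ]
      · right
        have hlt' : Y < (ρ γ)⁻¹ • W := lt_of_le_of_ne hYW' (Ne.symm hcase)
        have h5 : X₁ ≤ (ρ γ)⁻¹ • W := hmin ⟨hW'i, hlt', hW'X.trans hX₁X⟩ hW'X
        have h6 : (ρ γ)⁻¹ • W = X₁ := le_antisymm hW'X h5
        rw [← h6, smul_inv_smul]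
  have hle : ∀ γ : Γ', ρ (γ : Γ₀) • X₁ ≤ quadSub h B Y := by
    intro γ
    have h1 := htr γ γ.2
    exact (quadSec_iff h B Y h1.2.1).mp (hq _ _ h1)
  have hX'q : (⨆ γ : Γ', ρ (γ : Γ₀) • X₁) ≤ quadSub h B Y := iSup_le hle
  have hX'i : Inv ρ Γ' (⨆ γ : Γ', ρ (γ : Γ₀) • X₁) := by
    intro δ hδ v hv
    have hle2 : (⨆ γ : Γ', ρ (γ : Γ₀) • X₁) ≤
        (⨆ γ : Γ', ρ (γ : Γ₀) • X₁).comap (ρ δ).toMonoidHom := by
      apply iSup_le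
      intro γ x hx
      obtain ⟨w, hw, rfl⟩ := (Subgroup.mem_smul_pointwise_iff_exists _ _ _).mp hx
      refine Subgroup.mem_comap.mpr ?_
      show ρ δ • ρ (γ : Γ₀) • w ∈ _
      rw [← mul_smul, ← map_mul]
      have h7 : ρ (δ * (γ : Γ₀)) • w ∈ ρ ((⟨δ * γ, Γ'.mul_mem hδ γ.2⟩ : Γ') : Γ₀) • X₁ :=
        Subgroup.smul_mem_pointwise_smul _ _ _ hw
      exact (le_iSup (fun γ : Γ' => ρ (γ : Γ₀) • X₁) ⟨δ * γ, Γ'.mul_mem hδ γ.2⟩) h7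
    exact Subgroup.mem_comap.mp (hle2 hv)
  have hX₁X' : X₁ ≤ ⨆ γ : Γ', ρ (γ : Γ₀) • X₁ := by
    have h8 : X₁ = ρ ((1 : Γ') : Γ₀) • X₁ := by
      rw [Subgroup.coe_one, map_one, one_smul]
    calc X₁ = ρ ((1 : Γ') : Γ₀) • X₁ := h8
      _ ≤ _ := le_iSup (fun γ : Γ' => ρ (γ : Γ₀) • X₁) 1
  have hX'X : (⨆ γ : Γ', ρ (γ : Γ₀) • X₁) ≤ X := by
    apply iSup_le
    intro γ
    calc ρ (γ : Γ₀) • X₁ ≤ ρ (γ : Γ₀) • X :=
          Subgroup.pointwise_smul_le_pointwise_smul_iff.mpr hX₁X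
      _ = X := smul_eq_of_inv hXi γ.2
  rcases hirr _ hX'i (hYX₁.le.trans hX₁X') hX'X with h1 | h1
  · exfalso
    exact absurd (hX₁X'.trans h1.le) (not_le_of_gt hYX₁)
  · rw [quadSec_iff h B Y hXA, ← h1]
    exact hX'q

/-- **Chain.**  Quadraticity on irreducible sections climbs from `Γ₁` to `N` if every intermediate
subgroup is normal in a strictly larger one. -/
theorem chain [Finite Γ₀] [Finite V] {Ab : Subgroup V} (h : AbInv ρ Ab) {B Γ₁ N : Subgroup Γ₀}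
    (hΓ₁N : Γ₁ ≤ N)
    (hgrow : ∀ Γ : Subgroup Γ₀, Γ₁ ≤ Γ → Γ < N →
      ∃ Γ' : Subgroup Γ₀, Γ < Γ' ∧ Γ' ≤ N ∧ Γ' ≤ Subgroup.normalizer (Γ : Set Γ₀))
    (hq : ∀ X Y, IrrSec ρ Ab Γ₁ X Y → QuadSec ρ B X Y) :
    ∀ X Y, IrrSec ρ Ab N X Y → QuadSec ρ B X Y := by
  obtain ⟨Γ, -, hΓmax⟩ := Finite.exists_le_maximal
    (p := fun Γ : Subgroup Γ₀ => Γ₁ ≤ Γ ∧ Γ ≤ N ∧ ∀ X Y, IrrSec ρ Ab Γ X Y → QuadSec ρ B X Y)
    (a := Γ₁) ⟨le_rfl, hΓ₁N, hq⟩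
  obtain ⟨⟨h1, h2, h3⟩, hmax⟩ := hΓmax
  by_cases hΓN : Γ = N
  · rw [← hΓN]; exact h3
  · exfalso
    obtain ⟨Γ', hlt, hΓ'N, hΓ'n⟩ := hgrow Γ h1 (lt_of_le_of_ne h2 hΓN)
    have hcl : ∀ X Y, IrrSec ρ Ab Γ' X Y → QuadSec ρ B X Y := by
      apply clifford h hlt.le _ h3
      intro γ hγ δ hδ
      have hγn : γ⁻¹ ∈ Subgroup.normalizer (Γ : Set Γ₀) := Subgroup.inv_mem _ (hΓ'n hγ)
      have := (Subgroup.mem_normalizer_iff.mp hγn δ).mp hδ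
      rwa [inv_inv] at this
    have := hmax ⟨h1.trans hlt.le, hΓ'N, hcl⟩ hlt.le
    exact absurd this (not_le_of_gt hlt)

end Cfsg.Agent.Helper34.QMod
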