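import Cfsg.Agent.Helper34.KInfQuadMod
import Cfsg.Agent.Helper34.KInfQuadGrp

/-!
# Quadratic action on the chief factors above `Z`

Instantiation of the abstract Clifford chain (`QMod`) with `V = G ⧸ Z`, acted on by `G` through
conjugation, and `Ab = A Z / Z`.  The outcome `quad_above_of_data` is stated purely in `G`.
-/

set_option autoImplicit false
set_option linter.style.haveILetI false

open scoped commutatorElement

namespace Cfsg.Agent.Helper34.KQ

variable {G : Type*} [Group G]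

/-- Conjugation action of `G` on `G ⧸ Z`. -/
def quotRho (Z : Subgroup G) [Z.Normal] : G →* MulAut (G ⧸ Z) :=
  (MulAut.conj : (G ⧸ Z) →* MulAut (G ⧸ Z)).comp (QuotientGroup.mk' Z)

theorem quotRho_smul_mk (Z : Subgroup G) [Z.Normal] (g a : G) :
    quotRho Z g • (QuotientGroup.mk' Z a) = QuotientGroup.mk' Z (g * a * g⁻¹) := by
  show (QuotientGroup.mk' Z g) * (QuotientGroup.mk' Z a) * (QuotientGroup.mk' Z g)⁻¹ = _
  rw [map_mul, map_mul, map_inv]

theorem cm_mk (Z : Subgroup G) [Z.Normal] (b a : G) :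
    QMod.cm (quotRho Z) b (QuotientGroup.mk' Z a) = QuotientGroup.mk' Z ⁅b, a⁆ := by
  unfold QMod.cm
  rw [quotRho_smul_mk, ← map_inv, ← map_mul, commutatorElement_def]

theorem abInv_map (Z A : Subgroup G) [Z.Normal] [hA : A.Normal] (hAA : ⁅A, A⁆ ≤ Z) :
    QMod.AbInv (quotRho Z) (A.map (QuotientGroup.mk' Z)) := by
  constructor
  · rintro _ ⟨a, ha, rfl⟩ _ ⟨a', ha', rfl⟩
    rw [← map_mul, ← map_mul]
    show (QuotientGroup.mk (a * a') : G ⧸ Z) = QuotientGroup.mk (a' * a)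
    rw [QuotientGroup.eq]
    have e : (a * a')⁻¹ * (a' * a) = ⁅a'⁻¹, a⁻¹⁆ := by rw [commutatorElement_def]; group
    rw [e]
    exact hAA (Subgroup.commutator_mem_commutator (A.inv_mem ha') (A.inv_mem ha))
  · rintro g _ ⟨a, ha, rfl⟩
    rw [quotRho_smul_mk]
    exact ⟨_, hA.conj_mem a ha g, rfl⟩

theorem inv_map (Z : Subgroup G) [Z.Normal] {Γ X : Subgroup G}
    (hΓX : Γ ≤ Subgroup.normalizer (X : Set G)) :
    QMod.Inv (quotRho Z) Γ (X.map (QuotientGroup.mk' Z)) := by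
  rintro γ hγ _ ⟨x, hx, rfl⟩
  rw [quotRho_smul_mk]
  exact ⟨_, (Subgroup.mem_normalizer_iff.mp (hΓX hγ) x).mp hx, rfl⟩

theorem le_normalizer_comap (Z : Subgroup G) [Z.Normal] {Γ : Subgroup G} {W : Subgroup (G ⧸ Z)}
    (hW : QMod.Inv (quotRho Z) Γ W) :
    Γ ≤ Subgroup.normalizer ((W.comap (QuotientGroup.mk' Z) : Subgroup G) : Set G) := by
  intro γ hγ
  rw [Subgroup.mem_normalizer_iff]
  intro h
  constructor
  · intro hh
    have := hW γ hγ _ (Subgroup.mem_comap.mp hh)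
    rw [quotRho_smul_mk] at this
    exact Subgroup.mem_comap.mpr this
  · intro hh
    have := hW γ⁻¹ (Γ.inv_mem hγ) _ (Subgroup.mem_comap.mp hh)
    rw [quotRho_smul_mk] at this
    have e : γ⁻¹ * (γ * h * γ⁻¹) * γ⁻¹⁻¹ = h := by group
    rw [e] at this
    exact Subgroup.mem_comap.mpr this

/-- A chief factor above `Z` inside `A` gives an irreducible section of `A / Z` for the whole
group. -/
theorem irrSec_of_chief (Z A : Subgroup G) [Z.Normal] {U V₀ : Subgroup G}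
    (hUV : Cfsg.IsChiefFactor U V₀) (hZV : Z ≤ V₀) (hUA : U ≤ A) :
    QMod.IrrSec (quotRho Z) (A.map (QuotientGroup.mk' Z)) ⊤
      (U.map (QuotientGroup.mk' Z)) (V₀.map (QuotientGroup.mk' Z)) := by
  obtain ⟨hlt, hUn, hVn, hmax⟩ := hUV
  have hker : (QuotientGroup.mk' Z).ker = Z := QuotientGroup.ker_mk' Z
  have hcomapU : (U.map (QuotientGroup.mk' Z)).comap (QuotientGroup.mk' Z) = U := by
    rw [Subgroup.comap_map_eq, hker, sup_eq_left.mpr (hZV.trans hlt.le)]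
  have hcomapV : (V₀.map (QuotientGroup.mk' Z)).comap (QuotientGroup.mk' Z) = V₀ := by
    rw [Subgroup.comap_map_eq, hker, sup_eq_left.mpr hZV]
  refine ⟨?_, Subgroup.map_mono hUA, ?_, ?_, ?_⟩
  · refine lt_of_le_of_ne (Subgroup.map_mono hlt.le) ?_
    intro heq
    have : U ≤ V₀ := by
      rw [← hcomapU, ← heq, hcomapV]
    exact absurd this (not_le_of_gt hlt)
  · apply inv_map
    rw [Subgroup.normalizer_eq_top_iff.mpr hUn]
  · apply inv_map
    rw [Subgroup.normalizer_eq_top_iff.mpr hVn]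
  · intro W hWi hVW hWU
    have hNn : (W.comap (QuotientGroup.mk' Z)).Normal := by
      rw [← Subgroup.normalizer_eq_top_iff]
      exact top_le_iff.mp (le_normalizer_comap Z hWi)
    have h1 : V₀ ≤ W.comap (QuotientGroup.mk' Z) := Subgroup.map_le_iff_le_comap.mp hVW
    have h2 : W.comap (QuotientGroup.mk' Z) ≤ U := by
      rw [← hcomapU]
      exact Subgroup.comap_mono hWU
    have hW : W = (W.comap (QuotientGroup.mk' Z)).map (QuotientGroup.mk' Z) :=
      (Subgroup.map_comap_eq_self_of_surjective (QuotientGroup.mk'_surjective Z) W).symm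
    rcases hmax _ hNn h1 h2 with h3 | h3
    · left; rw [hW, h3]
    · right; rw [hW, h3]

/-- Double commutator bound from elements, modulo a normal subgroup. -/
theorem comm_comm_le_of_forall (U B V₀ : Subgroup G) [hV : V₀.Normal]
    (h : ∀ u ∈ U, ∀ b ∈ B, ∀ b' ∈ B, ⁅b', ⁅b, u⁆⁆ ∈ V₀) : ⁅⁅U, B⁆, B⁆ ≤ V₀ := by
  rw [Subgroup.commutator_comm ⁅U, B⁆ B, Subgroup.commutator_comm U B]
  have h1 : ⁅B, U⁆ ≤ (Subgroup.centralizer
      ((B.map (QuotientGroup.mk' V₀) : Subgroup (G ⧸ V₀)) : Set (G ⧸ V₀))).comap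
      (QuotientGroup.mk' V₀) := by
    rw [Subgroup.commutator_le]
    intro b hb u hu
    rw [Subgroup.mem_comap, Subgroup.mem_centralizer_iff]
    rintro _ ⟨b', hb', rfl⟩
    have h2 : (QuotientGroup.mk' V₀) ⁅b', ⁅b, u⁆⁆ = 1 :=
      (QuotientGroup.eq_one_iff _).mpr (h u hu b hb b' hb')
    rw [map_commutatorElement] at h2
    exact commutatorElement_eq_one_iff_mul_comm.mp h2
  rw [Subgroup.commutator_le]
  intro b' hb' w hw
  have h2 := Subgroup.mem_centralizer_iff.mp (Subgroup.mem_comap.mp (h1 hw))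
    (QuotientGroup.mk' V₀ b') ⟨b', hb', rfl⟩
  have h3 : (QuotientGroup.mk' V₀) ⁅b', w⁆ = 1 := by
    rw [map_commutatorElement]
    exact commutatorElement_eq_one_iff_mul_comm.mpr h2
  exact (QuotientGroup.eq_one_iff _).mp h3

/-- Quadraticity on the section attached to a chief factor above `Z`, read in `G`. -/
theorem quad_of_quadSec (Z : Subgroup G) [Z.Normal] {U V₀ B : Subgroup G} [hV : V₀.Normal]
    (hZV : Z ≤ V₀)
    (hq : QMod.QuadSec (quotRho Z) B (U.map (QuotientGroup.mk' Z))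
      (V₀.map (QuotientGroup.mk' Z))) : ⁅⁅U, B⁆, B⁆ ≤ V₀ := by
  apply comm_comm_le_of_forall
  intro u hu b hb b' hb'
  have h1 := hq _ ⟨u, hu, rfl⟩ b hb b' hb'
  rw [cm_mk, cm_mk] at h1
  have h2 : ⁅b', ⁅b, u⁆⁆ ∈ (V₀.map (QuotientGroup.mk' Z)).comap (QuotientGroup.mk' Z) :=
    Subgroup.mem_comap.mpr h1
  rw [Subgroup.comap_map_eq, QuotientGroup.ker_mk', sup_eq_left.mpr hZV] at h2
  exact h2

/-- **Quadratic action on the chief factors above `Z`.**  `G₀ ≤ N` normal subgroups with `N / G₀` a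
`p`-group, `B ≤ N`, and `D` a subgroup normalized by `G₀ B` which `B` centralizes twice and which
receives all double commutators of `A` with `B`.  Then `B` acts quadratically on every chief factor
`U / V` of `G` with `Z ≤ V` and `U ≤ A`. -/
theorem quad_above_of_data [Finite G] {p : ℕ} [Fact p.Prime] (A Z : Subgroup G) [hAn : A.Normal]
    [hZn : Z.Normal] (hAA : ⁅A, A⁆ ≤ Z)
    (G₀ N B D : Subgroup G) [hG₀ : G₀.Normal] [hN : N.Normal] (hG₀N : G₀ ≤ N) (hBN : B ≤ N)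
    (hpq : ∀ y ∈ N, ∃ k : ℕ, y ^ (p ^ k) ∈ G₀)
    (hD : G₀ ⊔ B ≤ Subgroup.normalizer (D : Set G))
    (h1 : ∀ a ∈ D, ∀ b ∈ B, ∀ b' ∈ B, ⁅b', ⁅b, a⁆⁆ = 1)
    (h2 : ∀ a ∈ A, ∀ b ∈ B, ∀ b' ∈ B, ⁅b', ⁅b, a⁆⁆ ∈ D) :
    ∀ U V : Subgroup G, Cfsg.IsChiefFactor U V → Z ≤ V → U ≤ A → ⁅⁅U, B⁆, B⁆ ≤ V := by
  have hAb := abInv_map Z A hAA
  -- base
  have hbase : ∀ X Y, QMod.IrrSec (quotRho Z) (A.map (QuotientGroup.mk' Z)) (G₀ ⊔ B) X Y →
      QMod.QuadSec (quotRho Z) B X Y := by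
    apply QMod.base hAb (D := D.map (QuotientGroup.mk' Z)) le_sup_right (inv_map Z hD)
    · rintro _ ⟨a, ha, rfl⟩ _ b hb b' hb'
      rw [cm_mk, cm_mk, h1 a ha b hb b' hb', map_one]
    · rintro _ ⟨a, ha, rfl⟩ b hb b' hb'
      rw [cm_mk, cm_mk]
      exact ⟨_, h2 a ha b hb b' hb', rfl⟩
  -- chain up to `N`
  have hchain : ∀ X Y, QMod.IrrSec (quotRho Z) (A.map (QuotientGroup.mk' Z)) N X Y →
      QMod.QuadSec (quotRho Z) B X Y := by
    apply QMod.chain hAb (sup_le hG₀N hBN) _ hbase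
    intro Γ hΓ₁Γ hΓN
    exact exists_normalizing_of_pQuot G₀ N Γ (le_sup_left.trans hΓ₁Γ) hΓN hpq
  -- Clifford step up to `G`
  have htop : ∀ X Y, QMod.IrrSec (quotRho Z) (A.map (QuotientGroup.mk' Z)) ⊤ X Y →
      QMod.QuadSec (quotRho Z) B X Y := by
    apply QMod.clifford hAb le_top _ hchain
    intro γ _ δ hδ
    have := hN.conj_mem δ hδ γ⁻¹
    rwa [inv_inv] at this
  intro U V hUV hZV hUA
  haveI := hUV.2.2.1
  exact quad_of_quadSec Z hZV (htop _ _ (irrSec_of_chief Z A hUV hZV hUA))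

end Cfsg.Agent.Helper34.KQ
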