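import Mathlib

/-!
# An irreducible module of an abelian group is a field (helper34, for helper77's S4958)

`exists_field_of_irreducible` : if the abelian group `C` acts irreducibly on the nontrivial finite
elementary abelian `p`-group `U`, then `U` can be identified with the additive group of a finite field
`F` of characteristic `p` in such a way that `C` acts through multiplication by units of `F`.
-/

set_option autoImplicit false

universe u

namespace Cfsg.Agent.Helper34.KnorrField

theorem exists_field_of_irreducible {C : Type*} {U : Type u} [Group C] [Group U] [Finite U]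
    [MulDistribMulAction C U] (hC : ∀ a b : C, a * b = b * a) (hUc : ∀ a b : U, a * b = b * a)
    (p : ℕ) [Fact p.Prime] (hU : ∀ u : U, u ^ p = 1) (hU1 : ∃ u : U, u ≠ 1)
    (hirr : ∀ W : Subgroup U, (∀ c : C, ∀ w ∈ W, c • w ∈ W) → W = ⊥ ∨ W = ⊤) :
    ∃ (F : Type u) (_ : Field F) (_ : Fintype F) (_ : CharP F p) (e : U ≃ F) (ρ : C →* Fˣ),
      (∀ a b : U, e (a * b) = e a + e b) ∧ ∀ (c : C) (x : U), e (c • x) = (ρ c : F) * e x := by
  classical
  let _ : CommGroup U := { (inferInstance : Group U) with mul_comm := hUc }
  let a : C →* AddMonoid.End (Additive U) :=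
    { toFun := fun c => MonoidHom.toAdditive (MulDistribMulAction.toMonoidHom U c)
      map_one' := by
        ext x
        show Additive.ofMul ((1 : C) • Additive.toMul x) = x
        rw [one_smul]; rfl
      map_mul' := fun c d => by
        ext x
        show Additive.ofMul ((c * d) • Additive.toMul x) = Additive.ofMul (c • (d • Additive.toMul x))
        rw [mul_smul] }
  have ha : ∀ (c : C) (x : Additive U), a c x = Additive.ofMul (c • Additive.toMul x) := fun _ _ => rfl
  -- the commutative subring generated by the action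
  let R : Subring (AddMonoid.End (Additive U)) := Subring.closure (Set.range a)
  have hcomm : ∀ x ∈ Set.range a, ∀ y ∈ Set.range a, x * y = y * x := by
    rintro _ ⟨c, rfl⟩ _ ⟨d, rfl⟩
    rw [← map_mul, ← map_mul, hC c d]
  have hRcomm : IsMulCommutative ↥R := Subring.isMulCommutative_closure hcomm
  let _ : CommRing ↥R := { (inferInstance : Ring ↥R) with mul_comm := fun x y => hRcomm.is_comm.comm x y }
  have haR : ∀ c : C, a c ∈ R := fun c => Subring.subset_closure ⟨c, rfl⟩
  -- elements of R commute with the action
  have hRa : ∀ (r : ↥R) (c : C) (x : Additive U),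
      (r : AddMonoid.End (Additive U)) (a c x) = a c ((r : AddMonoid.End (Additive U)) x) := by
    intro r c x
    have h1 : r * ⟨a c, haR c⟩ = ⟨a c, haR c⟩ * r := mul_comm _ _
    have h2 : (r : AddMonoid.End (Additive U)) * a c = a c * (r : AddMonoid.End (Additive U)) := by
      have := congrArg Subtype.val h1
      simpa using this
    exact DFunLike.congr_fun h2 x
  -- Schur
  have hschur : ∀ r : ↥R, r = 0 ∨ Function.Injective (r : AddMonoid.End (Additive U)) := by
    intro r
    let K : Subgroup U :=
      { carrier := {u | (r : AddMonoid.End (Additive U)) (Additive.ofMul u) = 0}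
        one_mem' := by
          show (r : AddMonoid.End (Additive U)) (Additive.ofMul 1) = 0
          rw [ofMul_one, map_zero]
        mul_mem' := by
          intro x y hx hy
          show (r : AddMonoid.End (Additive U)) (Additive.ofMul (x * y)) = 0
          rw [ofMul_mul, map_add, hx, hy, add_zero]
        inv_mem' := by
          intro x hx
          show (r : AddMonoid.End (Additive U)) (Additive.ofMul x⁻¹) = 0
          rw [ofMul_inv, map_neg, hx, neg_zero] }
    have hK : ∀ c : C, ∀ w ∈ K, c • w ∈ K := by
      intro c w hw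
      show (r : AddMonoid.End (Additive U)) (Additive.ofMul (c • w)) = 0
      have h1 : Additive.ofMul (c • w) = a c (Additive.ofMul w) := rfl
      rw [h1, hRa, hw, map_zero]
    rcases hirr K hK with h | h
    · right
      rw [injective_iff_map_eq_zero]
      intro x hx
      have h1 : Additive.toMul x ∈ K := hx
      rw [h, Subgroup.mem_bot] at h1
      exact h1
    · left
      apply Subtype.ext
      ext x
      have h1 : Additive.toMul x ∈ K := by rw [h]; trivial
      exact h1
  have hbij : ∀ r : ↥R, r ≠ 0 → Function.Bijective (r : AddMonoid.End (Additive U)) := by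
    intro r hr
    have h1 := (hschur r).resolve_left hr
    exact ⟨h1, Finite.injective_iff_surjective.mp h1⟩
  obtain ⟨u₁, hu₁⟩ := hU1
  let u₀ : Additive U := Additive.ofMul u₁
  have hu₀ : u₀ ≠ 0 := hu₁
  have hnt : Nontrivial ↥R := by
    refine ⟨⟨0, 1, fun h => hu₀ ?_⟩⟩
    have h1 := congrArg (fun r : ↥R => (r : AddMonoid.End (Additive U)) u₀) h
    simpa using h1.symm
  have hnzd : NoZeroDivisors ↥R := by
    refine ⟨fun {r s} hrs => ?_⟩
    by_cases hs : s = 0
    · exact Or.inr hs
    · left
      apply Subtype.ext
      ext x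
      obtain ⟨y, rfl⟩ := (hbij s hs).2 x
      have h1 := congrArg (fun t : ↥R => (t : AddMonoid.End (Additive U)) y) hrs
      simpa using h1
  have hdom : IsDomain ↥R := NoZeroDivisors.to_isDomain _
  have hfinE : Finite (AddMonoid.End (Additive U)) :=
    Finite.of_injective (fun f : AddMonoid.End (Additive U) => (f : Additive U → Additive U))
      DFunLike.coe_injective
  have hfin : Finite ↥R := inferInstance
  let _ : Fintype ↥R := Fintype.ofFinite _
  let _ : Field ↥R := Fintype.fieldOfDomain ↥R
  -- characteristic p
  have hp0 : ((p : ℕ) : ↥R) = 0 := by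
    apply Subtype.ext
    ext x
    show ((p : ↥R) : AddMonoid.End (Additive U)) x = 0
    rw [Subring.coe_natCast, AddMonoid.End.natCast_apply]
    show Additive.ofMul ((Additive.toMul x) ^ p) = 0
    rw [hU]; rfl
  have hchar : CharP ↥R p := by
    obtain ⟨n, hn⟩ := CharP.exists ↥R
    have h1 : n ∣ p := (CharP.cast_eq_zero_iff ↥R n p).mp hp0
    rcases (Nat.dvd_prime (Fact.out : p.Prime)).mp h1 with h | h
    · subst h; exact absurd rfl (CharP.char_ne_one ↥R 1)
    · subst h; exact hn
  -- evaluation at u₀
  let φ : ↥R → Additive U := fun r => (r : AddMonoid.End (Additive U)) u₀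
  have hφadd : ∀ r s : ↥R, φ (r + s) = φ r + φ s := fun r s => rfl
  have hφinj : Function.Injective φ := by
    intro r s hrs
    by_contra hne
    have h1 : r - s ≠ 0 := sub_ne_zero.mpr hne
    have h2 := (hbij (r - s) h1).1
    have h3 : ((r - s : ↥R) : AddMonoid.End (Additive U)) u₀ = 0 := by
      show (r : AddMonoid.End (Additive U)) u₀ - (s : AddMonoid.End (Additive U)) u₀ = 0
      exact sub_eq_zero.mpr hrs
    exact hu₀ (h2 (h3.trans (map_zero _).symm))
  have hφsurj : Function.Surjective φ := by
    let W : Subgroup U :=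
      { carrier := {u | ∃ r : ↥R, φ r = Additive.ofMul u}
        one_mem' := ⟨0, rfl⟩
        mul_mem' := by
          rintro x y ⟨r, hr⟩ ⟨s, hs⟩
          exact ⟨r + s, by rw [hφadd, hr, hs]; rfl⟩
        inv_mem' := by
          rintro x ⟨r, hr⟩
          refine ⟨-r, ?_⟩
          show -((r : AddMonoid.End (Additive U)) u₀) = Additive.ofMul x⁻¹
          have hr' : (r : AddMonoid.End (Additive U)) u₀ = Additive.ofMul x := hr
          rw [hr']; rfl }
    have hW : ∀ c : C, ∀ w ∈ W, c • w ∈ W := by
      rintro c w ⟨r, hr⟩
      refine ⟨⟨a c, haR c⟩ * r, ?_⟩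
      show a c ((r : AddMonoid.End (Additive U)) u₀) = Additive.ofMul (c • w)
      have hr' : (r : AddMonoid.End (Additive U)) u₀ = Additive.ofMul w := hr
      rw [hr']; rfl
    rcases hirr W hW with h | h
    · exfalso
      have h1 : u₁ ∈ W := ⟨1, rfl⟩
      rw [h, Subgroup.mem_bot] at h1
      exact hu₁ h1
    · intro x
      have h1 : Additive.toMul x ∈ W := by rw [h]; trivial
      obtain ⟨r, hr⟩ := h1
      exact ⟨r, hr⟩
  let e₀ : ↥R ≃ Additive U := Equiv.ofBijective φ ⟨hφinj, hφsurj⟩
  let e : U ≃ ↥R := Additive.ofMul.trans e₀.symm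
  let aR : C →* ↥R :=
    { toFun := fun c => ⟨a c, haR c⟩
      map_one' := Subtype.ext (map_one a)
      map_mul' := fun c d => Subtype.ext (map_mul a c d) }
  refine ⟨↥R, inferInstance, inferInstance, hchar, e, aR.toHomUnits, ?_, ?_⟩
  · intro x y
    apply e₀.injective
    show e₀ (e₀.symm (Additive.ofMul (x * y))) =
      e₀ (e₀.symm (Additive.ofMul x) + e₀.symm (Additive.ofMul y))
    rw [Equiv.apply_symm_apply]
    show _ = φ (_ + _)
    rw [hφadd]
    show Additive.ofMul (x * y) = e₀ (e₀.symm (Additive.ofMul x)) + e₀ (e₀.symm (Additive.ofMul y))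
    rw [Equiv.apply_symm_apply, Equiv.apply_symm_apply]; rfl
  · intro c x
    apply e₀.injective
    show e₀ (e₀.symm (Additive.ofMul (c • x))) = e₀ (aR c * e₀.symm (Additive.ofMul x))
    rw [Equiv.apply_symm_apply]
    show Additive.ofMul (c • x) = a c (φ (e₀.symm (Additive.ofMul x)))
    have h1 : φ (e₀.symm (Additive.ofMul x)) = Additive.ofMul x := e₀.apply_symm_apply _
    rw [h1]; rfl

end Cfsg.Agent.Helper34.KnorrField
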