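import Mathlib
import Cfsg.Agent.Helper65.BrandtR1

/-!
# (K-R2) of S4648 (Külshammer): the corner version of Külshammer's lemma  (helper34)

The corner `e A e` of a symmetric algebra is a symmetric algebra (Mathlib's
`IsIdempotentElem.Corner`, with the `k`-algebra structure defined here); if it is split local with
radical `I` and its centre has dimension at most `4`, then (K-R1, taken as a hypothesis) it is
commutative.
-/

set_option autoImplicit false

namespace Cfsg.Agent.Helper34.KuelR2

open Module Cfsg.Agent.Helper78.Brandt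

universe u v

variable {k : Type u} [Field k] {A : Type v} [Ring A] [Algebra k A]
variable {e : A}

section corner

variable (he : IsIdempotentElem e)

theorem corner_left (x : he.Corner) : e * x.1 = x.1 :=
  ((Subsemigroup.mem_corner_iff he).mp x.2).1

theorem corner_right (x : he.Corner) : x.1 * e = x.1 :=
  ((Subsemigroup.mem_corner_iff he).mp x.2).2

theorem corner_val_mul (x y : he.Corner) : (x * y).1 = x.1 * y.1 := rfl

theorem corner_val_add (x y : he.Corner) : (x + y).1 = x.1 + y.1 := rfl

theorem corner_val_sub (x y : he.Corner) : (x - y).1 = x.1 - y.1 := rfl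

theorem corner_val_zero : (0 : he.Corner).1 = 0 := rfl

theorem corner_val_one : (1 : he.Corner).1 = e := rfl

/-- the element `e a e` of the corner -/
def cornerMk (a : A) : he.Corner := ⟨e * a * e, ⟨a, rfl⟩⟩

theorem cornerMk_val (a : A) : (cornerMk he a).1 = e * a * e := rfl

/-- scalar multiplication on the corner -/
instance cornerSMul : SMul k he.Corner :=
  ⟨fun c x => ⟨c • x.1, (Subsemigroup.mem_corner_iff he).mpr
    ⟨by rw [mul_smul_comm, corner_left], by rw [smul_mul_assoc, corner_right]⟩⟩⟩

theorem corner_val_smul (c : k) (x : he.Corner) : (c • x).1 = c • x.1 := rfl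

/-- the inclusion of the corner, as an additive map -/
def cornerValAdd : he.Corner →+ A where
  toFun := Subtype.val
  map_zero' := rfl
  map_add' _ _ := rfl

instance cornerModule : Module k he.Corner :=
  Function.Injective.module k (cornerValAdd he) Subtype.val_injective (fun _ _ => rfl)

instance cornerAlgebra : Algebra k he.Corner :=
  Algebra.ofModule
    (fun c x y => Subtype.ext (by
      rw [corner_val_mul, corner_val_smul, corner_val_smul, corner_val_mul, smul_mul_assoc]))
    (fun c x y => Subtype.ext (by
      rw [corner_val_mul, corner_val_smul, corner_val_smul, corner_val_mul, mul_smul_comm]))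

theorem corner_val_algebraMap (c : k) : (algebraMap k he.Corner c).1 = c • e := by
  rw [Algebra.algebraMap_eq_smul_one, corner_val_smul, corner_val_one]

/-- the inclusion of the corner, as a linear map -/
def cornerVal : he.Corner →ₗ[k] A where
  toFun := Subtype.val
  map_add' _ _ := rfl
  map_smul' _ _ := rfl

theorem cornerVal_apply (x : he.Corner) : cornerVal (k := k) he x = x.1 := rfl

theorem cornerVal_injective : Function.Injective (cornerVal (k := k) he) :=
  Subtype.val_injective

theorem range_cornerVal : LinearMap.range (cornerVal (k := k) he) = cornerSpace k e := by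
  ext x
  rw [LinearMap.mem_range, mem_cornerSpace]
  constructor
  · rintro ⟨y, rfl⟩
    exact ⟨y.1, by rw [cornerVal_apply, corner_right, corner_left]⟩
  · rintro ⟨a, rfl⟩
    exact ⟨cornerMk he a, by rw [cornerVal_apply, cornerMk_val, mul_assoc]⟩

theorem map_commSpan : Submodule.map (cornerVal (k := k) he) (commSpan k he.Corner) =
    cornerCommSpan k e := by
  unfold commSpan cornerCommSpan
  rw [Submodule.map_span]
  congr 1
  ext z
  constructor
  · rintro ⟨_, ⟨x, y, rfl⟩, rfl⟩
    refine ⟨x.1, y.1, ?_⟩
    rw [cornerVal_apply, corner_val_sub, corner_val_mul, corner_val_mul, corner_left,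
      corner_right, corner_left, corner_right]
  · rintro ⟨a, b, rfl⟩
    exact ⟨cornerMk he a * cornerMk he b - cornerMk he b * cornerMk he a,
      ⟨cornerMk he a, cornerMk he b, rfl⟩, rfl⟩

/-- the restriction of a symmetrizing form to the corner is symmetrizing -/
theorem isSymmForm_corner {lam : A →ₗ[k] k} (h : IsSymmForm k lam) :
    IsSymmForm k (lam ∘ₗ cornerVal (k := k) he) := by
  constructor
  · intro x y
    rw [LinearMap.comp_apply, LinearMap.comp_apply, cornerVal_apply, cornerVal_apply,
      corner_val_mul, corner_val_mul, h.comm]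
  · intro x hx
    apply Subtype.ext
    rw [corner_val_zero]
    apply h.nondeg
    intro b
    have h1 := hx (cornerMk he b)
    rw [LinearMap.comp_apply, cornerVal_apply, corner_val_mul, cornerMk_val] at h1
    have h2 : x.1 * (e * b * e) = (x.1 * b) * e := by
      rw [mul_assoc e b e, ← mul_assoc x.1 e, corner_right, mul_assoc]
    rw [h2, h.comm, ← mul_assoc, corner_left] at h1
    exact h1

end corner

/-- (K-R2) corner version of Külshammer's lemma, with (K-R1) as the hypothesis `hK`. -/
theorem cornerCommSpan_eq_bot_of_local [FiniteDimensional k A]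
    (hK : ∀ (Λ : Type v) [Ring Λ] [Algebra k Λ] [FiniteDimensional k Λ] (lam' : Λ →ₗ[k] k),
      IsSymmForm k lam' → ∀ (J : Ideal Λ) [J.IsTwoSided], (∃ N : ℕ, J ^ N = ⊥) →
      (∀ a : Λ, ∃ c : k, a - algebraMap k Λ c ∈ J) →
      finrank k (Subalgebra.center k Λ) ≤ 4 → ∀ a b : Λ, a * b = b * a)
    (lam : A →ₗ[k] k) (h : IsSymmForm k lam) (e : A) (he : IsIdempotentElem e)
    (I : Submodule k A) (hI1 : I ≤ cornerSpace k e) (hI2 : I * I ≤ I)
    (hnil : ∃ N : ℕ, I ^ N = ⊥) (hspan : cornerSpace k e ≤ Submodule.span k {e} ⊔ I)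
    (hdim : finrank k (cornerSpace k e) ≤ finrank k (cornerCommSpan k e) + 4) :
    cornerCommSpan k e = ⊥ := by
  classical
  have hfd : FiniteDimensional k he.Corner :=
    FiniteDimensional.of_injective (cornerVal (k := k) he) (cornerVal_injective he)
  -- decomposition of corner elements
  have hdec : ∀ x : he.Corner, ∃ c : k, x.1 - c • e ∈ I := by
    intro x
    have hx : x.1 ∈ cornerSpace k e := by
      rw [← range_cornerVal he]
      exact ⟨x, rfl⟩
    obtain ⟨y, hy, i, hi, hyi⟩ := Submodule.mem_sup.mp (hspan hx)
    obtain ⟨c, rfl⟩ := Submodule.mem_span_singleton.mp hy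
    refine ⟨c, ?_⟩
    rw [← hyi, add_sub_cancel_left]
    exact hi
  have hII : ∀ a ∈ I, ∀ b ∈ I, a * b ∈ I := fun a ha b hb => hI2 (Submodule.mul_mem_mul ha hb)
  have hleftI : ∀ a ∈ I, e * a = a := by
    intro a ha
    obtain ⟨b, rfl⟩ := mem_cornerSpace.mp (hI1 ha)
    rw [← mul_assoc, he.eq]
  have hrightI : ∀ a ∈ I, a * e = a := by
    intro a ha
    obtain ⟨b, rfl⟩ := mem_cornerSpace.mp (hI1 ha)
    rw [mul_assoc, mul_assoc, he.eq]
  -- the radical
  let J : Ideal he.Corner :=
    { carrier := {x | x.1 ∈ I}
      add_mem' := fun {x y} hx hy => by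
        show (x + y).1 ∈ I
        rw [corner_val_add]
        exact I.add_mem hx hy
      zero_mem' := by
        show (0 : he.Corner).1 ∈ I
        rw [corner_val_zero]
        exact I.zero_mem
      smul_mem' := fun a x hx => by
        show (a * x).1 ∈ I
        obtain ⟨c, hc⟩ := hdec a
        have h1 : a.1 * x.1 = (a.1 - c • e) * x.1 + c • x.1 := by
          rw [sub_mul, smul_mul_assoc, hleftI _ hx, sub_add_cancel]
        rw [corner_val_mul, h1]
        exact I.add_mem (hII _ hc _ hx) (I.smul_mem c hx) }
  have hJmem : ∀ x : he.Corner, x ∈ J ↔ x.1 ∈ I := fun x => Iff.rfl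
  have hJtwo : J.IsTwoSided := ⟨fun {x} a hx => by
    rw [hJmem] at hx ⊢
    obtain ⟨c, hc⟩ := hdec a
    have h1 : x.1 * a.1 = x.1 * (a.1 - c • e) + c • x.1 := by
      rw [mul_sub, mul_smul_comm, hrightI _ hx, sub_add_cancel]
    rw [corner_val_mul, h1]
    exact I.add_mem (hII _ hx _ hc) (I.smul_mem c hx)⟩
  -- nilpotency
  have hpow : ∀ n : ℕ, ∀ x ∈ J ^ (n + 1), x.1 ∈ I ^ (n + 1) := by
    intro n
    induction n with
    | zero =>
      intro x hx
      rw [zero_add, Submodule.pow_one] at hx
      rw [zero_add, pow_one]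
      exact hx
    | succ n ih =>
      intro x hx
      rw [Submodule.pow_succ] at hx
      rw [pow_succ I (n + 1)]
      refine Submodule.mul_induction_on hx ?_ ?_
      · intro a ha b hb
        rw [corner_val_mul]
        exact Submodule.mul_mem_mul (ih a ha) hb
      · intro a b ha hb
        rw [corner_val_add]
        exact Submodule.add_mem _ ha hb
  have hJnil : ∃ N : ℕ, J ^ N = ⊥ := by
    obtain ⟨N, hN⟩ := hnil
    refine ⟨N + 1, ?_⟩
    rw [eq_bot_iff]
    intro x hx
    have h1 := hpow N x hx
    rw [pow_succ, hN, Submodule.bot_mul, Submodule.mem_bot] at h1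
    rw [Submodule.mem_bot]
    exact Subtype.ext h1
  have hloc : ∀ a : he.Corner, ∃ c : k, a - algebraMap k he.Corner c ∈ J := by
    intro a
    obtain ⟨c, hc⟩ := hdec a
    refine ⟨c, ?_⟩
    rw [hJmem, corner_val_sub, corner_val_algebraMap]
    exact hc
  -- the dimension of the centre
  have h' := isSymmForm_corner he h
  have h1 := Cfsg.Agent.Helper65.BrandtR1.finrank_center_add_finrank_commSpan
    (lam ∘ₗ cornerVal (k := k) he) h'
  have h2 : finrank k he.Corner = finrank k (cornerSpace k e) := by
    rw [← range_cornerVal he, LinearMap.finrank_range_of_inj (cornerVal_injective he)]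
  have h3 : finrank k (commSpan k he.Corner) = finrank k (cornerCommSpan k e) := by
    rw [← map_commSpan he]
    exact (Submodule.equivMapOfInjective _ (cornerVal_injective he) _).finrank_eq
  have hZ : finrank k (Subalgebra.center k he.Corner) ≤ 4 := by omega
  have hcomm := hK he.Corner (lam ∘ₗ cornerVal (k := k) he) h' J hJnil hloc hZ
  -- conclusion
  rw [eq_bot_iff]
  unfold cornerCommSpan
  rw [Submodule.span_le]
  rintro z ⟨a, b, rfl⟩
  have h4 := congrArg Subtype.val (hcomm (cornerMk he a) (cornerMk he b))
  rw [corner_val_mul, corner_val_mul, cornerMk_val, cornerMk_val] at h4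
  rw [SetLike.mem_coe, Submodule.mem_bot, h4, sub_self]

end Cfsg.Agent.Helper34.KuelR2
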