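import Mathlib
import Cfsg.Agent.Helper78.Kuel.Defs

/-!
# (K-R3) of S4648 (Külshammer): the traces of the simple modules of `A / J` are linearly
independent trace forms on `A`  (helper34)
-/

set_option autoImplicit false

namespace Cfsg.Agent.Helper34.KuelR3

open Module Cfsg.Agent.Helper78.Kuel

variable {k : Type*} [Field k] {A : Type*} [Ring A] [Algebra k A]

/-- the trace of the `i`-th matrix component of the image in the semisimple quotient -/
noncomputable def trForm (J : Ideal A) [J.IsTwoSided] {r : ℕ} (d : Fin r → ℕ)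
    (φ : (A ⧸ J) ≃ₐ[k] ((i : Fin r) → Matrix (Fin (d i)) (Fin (d i)) k)) (i : Fin r) :
    Module.Dual k A :=
  (Matrix.traceLinearMap (Fin (d i)) k k) ∘ₗ
    (LinearMap.proj (R := k) (φ := fun i : Fin r => Matrix (Fin (d i)) (Fin (d i)) k) i) ∘ₗ
      φ.toLinearMap ∘ₗ (Ideal.Quotient.mkₐ k J).toLinearMap

theorem trForm_apply (J : Ideal A) [J.IsTwoSided] {r : ℕ} (d : Fin r → ℕ)
    (φ : (A ⧸ J) ≃ₐ[k] ((i : Fin r) → Matrix (Fin (d i)) (Fin (d i)) k)) (i : Fin r) (a : A) :
    trForm J d φ i a = Matrix.trace (φ (Ideal.Quotient.mk J a) i) := rfl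

theorem trForm_mem (J : Ideal A) [J.IsTwoSided] {r : ℕ} (d : Fin r → ℕ)
    (φ : (A ⧸ J) ≃ₐ[k] ((i : Fin r) → Matrix (Fin (d i)) (Fin (d i)) k)) (i : Fin r) :
    trForm J d φ i ∈ traceFormSpace k A := by
  rw [mem_traceFormSpace]
  refine ⟨fun a b => ?_, fun a ha => ?_⟩
  · rw [trForm_apply, trForm_apply, map_mul, map_mul, map_mul, map_mul, Pi.mul_apply,
      Pi.mul_apply, Matrix.trace_mul_comm]
  · rw [trForm_apply]
    have h1 : IsNilpotent (Ideal.Quotient.mk J a) := ha.map (Ideal.Quotient.mk J)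
    have h2 : IsNilpotent (φ (Ideal.Quotient.mk J a)) := h1.map φ
    have h3 : IsNilpotent (φ (Ideal.Quotient.mk J a) i) :=
      h2.map (Pi.evalRingHom (fun i : Fin r => Matrix (Fin (d i)) (Fin (d i)) k) i)
    exact (Matrix.isNilpotent_trace_of_isNilpotent h3).eq_zero

/-- (K-R3) the traces of the simple modules are linearly independent trace forms. -/
theorem card_le_finrank_traceFormSpace [FiniteDimensional k A] (J : Ideal A) [J.IsTwoSided]
    {r : ℕ} (d : Fin r → ℕ) (hd : ∀ i, NeZero (d i))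
    (φ : (A ⧸ J) ≃ₐ[k] ((i : Fin r) → Matrix (Fin (d i)) (Fin (d i)) k)) :
    r ≤ finrank k (traceFormSpace k A) := by
  classical
  -- preimages of the matrix units
  have hex : ∀ j : Fin r, ∃ a : A, φ (Ideal.Quotient.mk J a) =
      Pi.single j (Matrix.single (⟨0, Nat.pos_of_ne_zero (hd j).out⟩ : Fin (d j))
        ⟨0, Nat.pos_of_ne_zero (hd j).out⟩ (1 : k)) := by
    intro j
    obtain ⟨a, ha⟩ := Ideal.Quotient.mk_surjective (I := J)
      (φ.symm (Pi.single j (Matrix.single (⟨0, Nat.pos_of_ne_zero (hd j).out⟩ : Fin (d j))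
        ⟨0, Nat.pos_of_ne_zero (hd j).out⟩ (1 : k))))
    exact ⟨a, by rw [ha, AlgEquiv.apply_symm_apply]⟩
  choose a ha using hex
  have hval : ∀ i j : Fin r, trForm J d φ i (a j) = if i = j then 1 else 0 := by
    intro i j
    rw [trForm_apply, ha j]
    by_cases hij : i = j
    · subst hij
      rw [Pi.single_eq_same, Matrix.trace_single_eq_same, if_pos rfl]
    · rw [if_neg hij, Pi.single_eq_of_ne hij, Matrix.trace_zero]
  have hli : LinearIndependent k (fun i : Fin r => trForm J d φ i) := by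
    refine Fintype.linearIndependent_iff.mpr ?_
    intro c hc j
    have h1 := LinearMap.congr_fun hc (a j)
    rw [LinearMap.sum_apply, LinearMap.zero_apply] at h1
    rw [Finset.sum_eq_single j] at h1
    · rw [LinearMap.smul_apply, hval j j, if_pos rfl, smul_eq_mul, mul_one] at h1
      exact h1
    · intro i _ hij
      rw [LinearMap.smul_apply, hval i j, if_neg hij, smul_zero]
    · intro hj
      exact absurd (Finset.mem_univ j) hj
  have hspan : Submodule.span k (Set.range fun i : Fin r => trForm J d φ i) ≤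
      traceFormSpace k A := by
    rw [Submodule.span_le]
    rintro _ ⟨i, rfl⟩
    exact trForm_mem J d φ i
  have h1 := finrank_span_eq_card hli
  have h2 := Submodule.finrank_mono hspan
  rw [h1, Fintype.card_fin] at h2
  exact h2

end Cfsg.Agent.Helper34.KuelR3
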