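import Mathlib
import Cfsg.Agent.Helper80.LS.Defs

set_option autoImplicit false
set_option linter.unusedSimpArgs false
set_option linter.unusedSectionVars false
set_option linter.unusedVariables false

namespace Cfsg.Agent.Helper34.LSMC

open Matrix Cfsg.Agent.Helper80.LS

variable {F : Type*} [Field F]

theorem vecMul_one_add_vecMulVec {ι : Type*} [Fintype ι] [DecidableEq ι] (x a b : ι → F) :
    x ᵥ* (1 + vecMulVec a b) = x + (x ⬝ᵥ a) • b := by
  rw [Matrix.vecMul_add, Matrix.vecMul_one, Matrix.vecMul_vecMulVec]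

/-- a matrix with prescribed `i0`-th column `v ≠ 0`, fixing every row vector `ρ` with `ρ i0 = 0`,
`ρ · v = 0`. -/
theorem exists_mat_col {ι : Type*} [Fintype ι] [DecidableEq ι] (i0 : ι) (v : ι → F) (hv : v ≠ 0) :
    ∃ M : Matrix ι ι F, M.det ≠ 0 ∧ M *ᵥ (Pi.single i0 1) = v ∧
      ∀ ρ : ι → F, ρ i0 = 0 → ρ ⬝ᵥ v = 0 → ρ ᵥ* M = ρ := by
  classical
  by_cases h0 : v i0 = 0
  · obtain ⟨i, hi⟩ : ∃ i, v i ≠ 0 := by
      by_contra hcon
      push Not at hcon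
      exact hv (funext hcon)
    have hii0 : i ≠ i0 := by rintro rfl; exact hi h0
    refine ⟨(1 + vecMulVec (Pi.single i0 (-1)) ((v i)⁻¹ • Pi.single i 1)) *
      (1 + vecMulVec v (Pi.single i0 1)), ?_, ?_, ?_⟩
    · rw [Matrix.det_mul, det_one_add_vecMulVec, det_one_add_vecMulVec]
      simp [dotProduct_single, single_dotProduct, Pi.single_apply, hii0, h0, hii0.symm]
    · rw [← Matrix.mulVec_mulVec, one_add_vecMulVec_mulVec, one_add_vecMulVec_mulVec]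
      ext j
      simp [dotProduct_single, single_dotProduct, Pi.single_apply, hii0, h0, hii0.symm, hi]
      by_cases hj : j = i0
      · subst hj; simp [h0]
      · simp [hj]
    · intro ρ hρ0 hρv
      rw [← Matrix.vecMul_vecMul, vecMul_one_add_vecMulVec, vecMul_one_add_vecMulVec]
      simp [dotProduct_single, single_dotProduct, hρ0, hρv]
  · refine ⟨1 + vecMulVec (v - Pi.single i0 1) (Pi.single i0 1), ?_, ?_, ?_⟩
    · rw [det_one_add_vecMulVec]
      simpa [single_dotProduct] using h0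
    · rw [one_add_vecMulVec_mulVec]
      simp [single_dotProduct]
    · intro ρ hρ0 hρv
      rw [vecMul_one_add_vecMulVec]
      simp [dotProduct_sub, hρ0, hρv, dotProduct_single]

/-- row version: a matrix with prescribed `j0`-th row `ψ ≠ 0`, fixing every column vector `ρ` with
`ρ j0 = 0`, `ψ · ρ = 0`. -/
theorem exists_mat_row {ι : Type*} [Fintype ι] [DecidableEq ι] (j0 : ι) (ψ : ι → F) (hψ : ψ ≠ 0) :
    ∃ C : Matrix ι ι F, C.det ≠ 0 ∧ (Pi.single j0 1) ᵥ* C = ψ ∧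
      ∀ ρ : ι → F, ρ j0 = 0 → ψ ⬝ᵥ ρ = 0 → C *ᵥ ρ = ρ := by
  obtain ⟨M, hM, hMe, hMρ⟩ := exists_mat_col j0 ψ hψ
  refine ⟨Mᵀ, by rwa [Matrix.det_transpose], by rw [Matrix.vecMul_transpose, hMe], ?_⟩
  intro ρ h1 h2
  rw [Matrix.mulVec_transpose]
  exact hMρ ρ h1 (by rwa [dotProduct_comm])

variable {m : ℕ}

/-- the key matrix: `A e₀ = u`, `ψ A = e₁`, `A` invertible. -/
theorem exists_mat_tv (u ψ : Fin (m + 2) → F) (hu : u ≠ 0) (hψ : ψ ≠ 0) (h0 : ψ ⬝ᵥ u = 0) :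
    ∃ A : Matrix (Fin (m + 2)) (Fin (m + 2)) F, A.det ≠ 0 ∧ A *ᵥ e0 F m = u ∧ ψ ᵥ* A = e1 F m := by
  obtain ⟨M, hM, hMe, -⟩ := exists_mat_col (0 : Fin (m + 2)) u hu
  have hMu : IsUnit M.det := isUnit_iff_ne_zero.mpr hM
  set ψ' := ψ ᵥ* M with hψ'
  have hψ'0 : ψ' 0 = 0 := by
    have : ψ' ⬝ᵥ (Pi.single 0 1) = ψ ⬝ᵥ (M *ᵥ (Pi.single 0 1)) := by
      rw [hψ', Matrix.dotProduct_mulVec]
    rw [hMe, h0, dotProduct_single, mul_one] at this
    exact this
  have hψ'ne : ψ' ≠ 0 := by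
    intro hz
    apply hψ
    have : ψ' ᵥ* M⁻¹ = ψ := by
      rw [hψ', Matrix.vecMul_vecMul, Matrix.mul_nonsing_inv _ hMu, Matrix.vecMul_one]
    rw [← this, hz, Matrix.zero_vecMul]
  obtain ⟨C, hC, hCe, hCρ⟩ := exists_mat_row (1 : Fin (m + 2)) ψ' hψ'ne
  have hCu : IsUnit C.det := isUnit_iff_ne_zero.mpr hC
  have hCe0 : C *ᵥ e0 F m = e0 F m := by
    apply hCρ
    · unfold e0; rw [Pi.single_apply, if_neg (Ne.symm fin_zero_ne_one)]
    · rw [dot_e0, hψ'0]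
  refine ⟨M * C⁻¹, ?_, ?_, ?_⟩
  · rw [Matrix.det_mul, Matrix.det_nonsing_inv]
    exact mul_ne_zero hM (by simpa using hC)
  · have : C⁻¹ *ᵥ e0 F m = e0 F m := by
      conv_lhs => rw [← hCe0]
      rw [Matrix.mulVec_mulVec, Matrix.nonsing_inv_mul _ hCu, Matrix.one_mulVec]
    rw [← Matrix.mulVec_mulVec, this]
    exact hMe
  · rw [← Matrix.vecMul_vecMul, ← hψ', ← hCe, Matrix.vecMul_vecMul, Matrix.mul_nonsing_inv _ hCu,
      Matrix.vecMul_one]
    rfl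

variable {G : Type*} [Group G] (D : MatGrp F (m + 2) G)

theorem conj_of_mat (g : G) (u ψ : Fin (m + 2) → F) (h0 : ψ ⬝ᵥ u = 0)
    (h1 : D.φ g *ᵥ e0 F m = u) (h2 : ψ ᵥ* D.φ g = e1 F m) :
    g * D.t0 * g⁻¹ = D.tv u ψ h0 := by
  have : g * D.t0 = D.tv u ψ h0 * g := by
    apply D.inj
    rw [map_mul, map_mul, D.φ_t0, D.φ_tv, mul_one_add_vecMulVec _ _ _ ψ h2, h1]
  rw [this, mul_inv_cancel_right]

end Cfsg.Agent.Helper34.LSMC

namespace Cfsg.Agent.Helper80.LS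

open Matrix Cfsg.Agent.Helper34.LSMC

variable {F : Type*} [Field F] [Fintype F] [DecidableEq F] {m : ℕ} {G : Type*} [Group G] [Fintype G]
  (D : MatGrp F (m + 2) G)

/-- (M0) every transvection of `G` is conjugate to `t0` (`n ≥ 3`, or `G = GL_n`). -/
theorem MatGrp.exists_conj_tv (h : 1 ≤ m ∨ D.Full) (u ψ : Fin (m + 2) → F) (hu : u ≠ 0) (hψ : ψ ≠ 0)
    (h0 : ψ ⬝ᵥ u = 0) : ∃ g : G, g * D.t0 * g⁻¹ = D.tv u ψ h0 := by
  obtain ⟨A, hA, hAe, hAψ⟩ := exists_mat_tv u ψ hu hψ h0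
  rcases h with hm | hfull
  · -- normalise the determinant using the last coordinate
    have hL0 : (Fin.last (m + 1) : Fin (m + 2)) ≠ 0 := Ne.symm fin_zero_ne_last
    have hL1 : (Fin.last (m + 1) : Fin (m + 2)) ≠ 1 := by
      intro hh
      have := congrArg Fin.val hh
      simp at this
      have h1 : ((1 : Fin (m + 2)) : ℕ) = 1 := by
        rw [Fin.val_one']; exact Nat.mod_eq_of_lt (by omega)
      omega
    set c : F := (A.det)⁻¹ with hc
    set E : Matrix (Fin (m + 2)) (Fin (m + 2)) F := 1 + vecMulVec ((c - 1) • eL F m) (eL F m) with hE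
    have hEdet : E.det = c := by
      rw [hE, det_one_add_vecMulVec, dotProduct_smul, eL_dot]
      simp [eL]
    have hEe0 : E *ᵥ e0 F m = e0 F m := by
      rw [hE, one_add_vecMulVec_mulVec, eL_dot, e0_last, zero_smul, add_zero]
    have hEe1 : e1 F m ᵥ* E = e1 F m := by
      rw [hE, vecMul_one_add_vecMulVec, dotProduct_smul, e1_dot]
      have : eL F m 1 = 0 := by
        unfold eL; rw [Pi.single_apply, if_neg (Ne.symm hL1)]
      rw [this, smul_zero, zero_smul, add_zero]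
    obtain ⟨g, hg⟩ := D.surj (A * E) (by
      rw [Matrix.det_mul, hEdet, hc, mul_inv_cancel₀ hA])
    refine ⟨g, conj_of_mat D g u ψ h0 ?_ ?_⟩
    · rw [hg, ← Matrix.mulVec_mulVec, hEe0, hAe]
    · rw [hg, ← Matrix.vecMul_vecMul, hAψ, hEe1]
  · obtain ⟨g, hg⟩ := hfull A hA
    exact ⟨g, conj_of_mat D g u ψ h0 (by rw [hg, hAe]) (by rw [hg, hAψ])⟩

end Cfsg.Agent.Helper80.LS
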