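import Mathlib
import Cfsg.Agent.Helper80.LS.Defs
import Cfsg.Agent.Helper34.LS_MC

set_option autoImplicit false
set_option linter.unusedSimpArgs false
set_option linter.unusedSectionVars false
set_option linter.unusedVariables false

namespace Cfsg.Agent.Helper34.LSMF

open Matrix Cfsg.Agent.Helper80.LS Cfsg.Agent.Helper34.LSMC

theorem natCard_subtype_eq {α : Type*} [Fintype α] (p : α → Prop) [DecidablePred p] :
    Nat.card {x // p x} = (Finset.univ.filter p).card := by
  rw [Nat.card_eq_fintype_card, Fintype.card_subtype]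

section count
variable {F : Type*} [Field F] [Fintype F] [DecidableEq F] {m : ℕ}

theorem card_ne_zero_vec (n : ℕ) :
    (Finset.univ.filter (fun v : Fin n → F => v ≠ 0)).card = Fintype.card F ^ n - 1 := by
  rw [Finset.filter_ne', Finset.card_erase_of_mem (Finset.mem_univ _), Finset.card_univ]
  simp

theorem card_scalar_e0 :
    ((Finset.univ.filter (fun a : F => a ≠ 0)).image (fun a => a • e0 F m)).card =
      Fintype.card F - 1 := by
  rw [Finset.card_image_of_injective]
  · rw [Finset.filter_ne', Finset.card_erase_of_mem (Finset.mem_univ _), Finset.card_univ]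
  · intro a b hab
    have := congrFun hab 0
    simpa [e0] using this

theorem card_fix_vec :
    (Finset.univ.filter (fun v : Fin (m + 2) → F => v ≠ 0 ∧ v 1 = 0)).card =
      Fintype.card F ^ (m + 1) - 1 := by
  rw [← card_ne_zero_vec (F := F) (m + 1)]
  apply Finset.card_nbij' (fun v => Fin.removeNth 1 v) (fun w => Fin.insertNth 1 (0 : F) w)
  · intro v hv
    simp only [Finset.coe_filter, Finset.mem_univ, true_and, Set.mem_ofPred_eq] at hv ⊢
    intro hz
    apply hv.1
    have := Fin.insertNth_self_removeNth (1 : Fin (m + 2)) v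
    rw [hz, hv.2] at this
    rw [← this]
    ext i
    refine Fin.succAboveCases 1 ?_ ?_ i
    · simp
    · intro j; simp
  · intro w hw
    simp only [Finset.coe_filter, Finset.mem_univ, true_and, Set.mem_ofPred_eq] at hw ⊢
    refine ⟨?_, by simp⟩
    intro hz
    apply hw
    ext i
    have := congrFun hz (Fin.succAbove 1 i)
    simpa using this
  · intro v hv
    simp only [Finset.coe_filter, Finset.mem_univ, true_and, Set.mem_ofPred_eq] at hv
    have := Fin.insertNth_self_removeNth (1 : Fin (m + 2)) v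
    rw [hv.2] at this
    exact this
  · intro w hw
    exact Fin.removeNth_insertNth _ _ _

end count

section grp
variable {F : Type*} [Field F] [Fintype F] [DecidableEq F] {m : ℕ} {G : Type*} [Group G] [Fintype G]
  (D : MatGrp F (m + 2) G)

theorem mulVec_e0_ne_zero (g : G) : D.φ g *ᵥ e0 F m ≠ 0 := by
  intro hz
  have := D.mulVec_inv_mulVec g (e0 F m)
  rw [hz, Matrix.mulVec_zero] at this
  exact e0_ne_zero this.symm

/-- `G` is transitive on nonzero vectors. -/
theorem exists_mulVec_e0_eq (v : Fin (m + 2) → F) (hv : v ≠ 0) : ∃ g : G, D.φ g *ᵥ e0 F m = v := by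
  obtain ⟨M, hM, hMe, -⟩ := exists_mat_col (0 : Fin (m + 2)) v hv
  set c : F := (M.det)⁻¹ with hc
  set E : Matrix (Fin (m + 2)) (Fin (m + 2)) F := 1 + vecMulVec ((c - 1) • eL F m) (eL F m) with hE
  have hEdet : E.det = c := by
    rw [hE, det_one_add_vecMulVec, dotProduct_smul, eL_dot]
    simp [eL]
  have hEe0 : E *ᵥ e0 F m = e0 F m := by
    rw [hE, one_add_vecMulVec_mulVec, eL_dot, e0_last, zero_smul, add_zero]
  obtain ⟨g, hg⟩ := D.surj (M * E) (by rw [Matrix.det_mul, hEdet, hc, mul_inv_cancel₀ hM])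
  refine ⟨g, ?_⟩
  rw [hg, ← Matrix.mulVec_mulVec, hEe0]
  exact hMe

open Classical in
theorem card_fiber (v : Fin (m + 2) → F) (hv : v ≠ 0) :
    (Finset.univ.filter (fun g : G => D.φ g *ᵥ e0 F m = v)).card =
      (Finset.univ.filter (fun g : G => D.φ g *ᵥ e0 F m = e0 F m)).card := by
  obtain ⟨gv, hgv⟩ := exists_mulVec_e0_eq D v hv
  symm
  apply Finset.card_nbij' (fun g => gv * g) (fun g => gv⁻¹ * g)
  · intro g hg
    simp only [Finset.coe_filter, Finset.mem_univ, true_and, Set.mem_ofPred_eq] at hg ⊢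
    rw [map_mul, ← Matrix.mulVec_mulVec, hg, hgv]
  · intro g hg
    simp only [Finset.coe_filter, Finset.mem_univ, true_and, Set.mem_ofPred_eq] at hg ⊢
    rw [map_mul, ← Matrix.mulVec_mulVec, hg, ← hgv, D.mulVec_inv_mulVec]
  · intro g _; simp
  · intro g _; simp

open Classical in
/-- the fiber-counting lemma -/
theorem card_preimage (T : Finset (Fin (m + 2) → F)) (hT : ∀ v ∈ T, v ≠ 0) :
    (Finset.univ.filter (fun g : G => D.φ g *ᵥ e0 F m ∈ T)).card =
      T.card * (Finset.univ.filter (fun g : G => D.φ g *ᵥ e0 F m = e0 F m)).card := by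
  rw [Finset.card_eq_sum_card_fiberwise (f := fun g : G => D.φ g *ᵥ e0 F m) (t := T)]
  · apply Finset.sum_const_nat
    intro v hv
    rw [← card_fiber D v (hT v hv), Finset.filter_filter]
    congr 1
    ext g
    simp only [Finset.mem_filter, Finset.mem_univ, true_and]
    constructor
    · rintro ⟨_, h⟩; exact h
    · intro h; exact ⟨h ▸ hv, h⟩
  · intro g hg
    simpa using hg

open Classical in
theorem card_G :
    Fintype.card G = (Fintype.card F ^ (m + 2) - 1) *
      (Finset.univ.filter (fun g : G => D.φ g *ᵥ e0 F m = e0 F m)).card := by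
  rw [← card_ne_zero_vec (F := F) (m + 2), ← card_preimage D _ (by intro v hv; simpa using hv),
    ← Finset.card_univ]
  congr 1
  ext g
  simp [mulVec_e0_ne_zero D g]

theorem mem_P_iff (g : G) :
    g ∈ D.P ↔ D.φ g *ᵥ e0 F m ∈
      (Finset.univ.filter (fun a : F => a ≠ 0)).image (fun a => a • e0 F m) := by
  rw [D.mem_P]
  simp only [Finset.mem_image, Finset.mem_filter, Finset.mem_univ, true_and]
  constructor
  · rintro ⟨c, hc⟩
    refine ⟨c, ?_, hc.symm⟩
    rintro rfl
    rw [zero_smul] at hc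
    exact mulVec_e0_ne_zero D g hc
  · rintro ⟨c, _, hc⟩
    exact ⟨c, hc.symm⟩

open Classical in
theorem card_P :
    Nat.card D.P = (Fintype.card F - 1) *
      (Finset.univ.filter (fun g : G => D.φ g *ᵥ e0 F m = e0 F m)).card := by
  rw [← card_scalar_e0 (F := F) (m := m), ← card_preimage D _ (by
    intro v hv
    simp only [Finset.mem_image, Finset.mem_filter, Finset.mem_univ, true_and] at hv
    obtain ⟨a, ha, rfl⟩ := hv
    exact smul_ne_zero ha e0_ne_zero)]
  have : Nat.card D.P = Nat.card {g : G // g ∈ D.P} := rfl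
  rw [this, natCard_subtype_eq]
  congr 1
  ext g
  simp only [Finset.mem_filter, Finset.mem_univ, true_and]
  exact mem_P_iff D g

theorem fix_iff (y : G) : y⁻¹ * D.t0 * y ∈ D.P ↔ (D.φ y *ᵥ e0 F m) 1 = 0 := by
  have key : D.φ (y⁻¹ * D.t0 * y) *ᵥ e0 F m =
      e0 F m + ((D.φ y *ᵥ e0 F m) 1) • (D.φ y⁻¹ *ᵥ e0 F m) := by
    rw [map_mul, map_mul, D.φ_t0, ← Matrix.mulVec_mulVec, ← Matrix.mulVec_mulVec,
      one_add_vecMulVec_mulVec, e1_dot, Matrix.mulVec_add, D.mulVec_inv_mulVec, Matrix.mulVec_smul]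
  constructor
  · intro hP
    by_contra hs
    obtain ⟨a, ha⟩ := (D.mem_P).mp hP
    rw [key] at ha
    -- `y⁻¹ ∈ P`
    have hyinv : y⁻¹ ∈ D.P := by
      refine (D.mem_P).mpr ⟨((D.φ y *ᵥ e0 F m) 1)⁻¹ * (a - 1), ?_⟩
      have h2 : ((D.φ y *ᵥ e0 F m) 1) • (D.φ y⁻¹ *ᵥ e0 F m) = (a - 1) • e0 F m := by
        rw [sub_smul, one_smul, ← ha, add_sub_cancel_left]
      rw [mul_smul, ← h2, smul_smul, inv_mul_cancel₀ hs, one_smul]
    have hy : y ∈ D.P := by simpa using D.P.inv_mem hyinv
    obtain ⟨b, hb⟩ := (D.mem_P).mp hy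
    apply hs
    rw [hb, Pi.smul_apply, smul_eq_mul]
    unfold e0
    rw [Pi.single_apply, if_neg (Ne.symm fin_zero_ne_one), mul_zero]
  · intro hs
    refine (D.mem_P).mpr ⟨1, ?_⟩
    rw [key, hs, zero_smul, add_zero, one_smul]

open Classical in
theorem card_fix_aux :
    Nat.card {y : G // y⁻¹ * D.t0 * y ∈ D.P} = (Fintype.card F ^ (m + 1) - 1) *
      (Finset.univ.filter (fun g : G => D.φ g *ᵥ e0 F m = e0 F m)).card := by
  rw [← card_fix_vec (F := F) (m := m), ← card_preimage D _ (by
    intro v hv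
    simp only [Finset.mem_filter, Finset.mem_univ, true_and] at hv
    exact hv.1), natCard_subtype_eq]
  congr 1
  ext g
  simp only [Finset.mem_filter, Finset.mem_univ, true_and]
  rw [fix_iff]
  constructor
  · intro h; exact ⟨mulVec_e0_ne_zero D g, h⟩
  · intro h; exact h.2

open Classical in
theorem stab_pos : 0 < (Finset.univ.filter (fun g : G => D.φ g *ᵥ e0 F m = e0 F m)).card := by
  apply Finset.card_pos.mpr
  exact ⟨1, by simp⟩

end grp

end Cfsg.Agent.Helper34.LSMF

namespace Cfsg.Agent.Helper80.LS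

open Matrix Cfsg.Agent.Helper34.LSMF

variable {F : Type*} [Field F] [Fintype F] [DecidableEq F] {m : ℕ} {G : Type*} [Group G] [Fintype G]
  (D : MatGrp F (m + 2) G)

theorem MatGrp.index_P : D.P.index * (Fintype.card F - 1) = Fintype.card F ^ (m + 2) - 1 := by
  classical
  have h1 := D.P.index_mul_card
  rw [Nat.card_eq_fintype_card (α := G), card_G D, card_P D, ← mul_assoc] at h1
  exact Nat.eq_of_mul_eq_mul_right (stab_pos D) h1

theorem MatGrp.card_fix :
    Nat.card {y : G // y⁻¹ * D.t0 * y ∈ D.P} * (Fintype.card F - 1) =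
      Nat.card D.P * (Fintype.card F ^ (m + 1) - 1) := by
  classical
  rw [card_fix_aux D, card_P D]
  ring

end Cfsg.Agent.Helper80.LS
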