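import Mathlib
import Cfsg.Agent.Helper1.MinDeg.Defs

/-!
# (E) of S2140: `PSL_n(q)` has a subgroup of index `(q^n - 1)/(q - 1)`  (helper34)

The stabiliser of a point of the projective space, for Mathlib's (transitive) action of
`PSL_n(F)` on `ℙ F (Fin n → F)`.
-/

set_option autoImplicit false
set_option linter.unusedSectionVars false

namespace Cfsg.Agent.Helper34.MinDeg

open Matrix Cfsg.Agent.Helper14.AutPSL Cfsg.Agent.Helper1.MinDeg
open scoped LinearAlgebra.Projectivization

variable {F : Type*} [Field F] {n : ℕ}

/-- (E) the point stabiliser has index `(q^n - 1)/(q - 1)`. -/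
theorem exists_index_eq [Fintype F] (hn : 2 ≤ n) :
    ∃ H : Subgroup (ProjectiveSpecialLinearGroup (Fin n) F),
      H.index = ∑ i ∈ Finset.range n, Fintype.card F ^ i := by
  classical
  have h0 : (Pi.single (⟨0, by omega⟩ : Fin n) (1 : F) : Fin n → F) ≠ 0 := by
    intro h
    have := congrFun h ⟨0, by omega⟩
    rw [Pi.single_eq_same, Pi.zero_apply] at this
    exact one_ne_zero this
  let p : ℙ F (Fin n → F) := Projectivization.mk F _ h0
  refine ⟨MulAction.stabilizer (ProjectiveSpecialLinearGroup (Fin n) F) p, ?_⟩
  rw [MulAction.index_stabilizer_of_transitive,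
    Projectivization.card_of_finrank F (Fin n → F) (n := n) (by
      rw [Module.finrank_fintype_fun_eq_card, Fintype.card_fin]),
    Nat.card_eq_fintype_card]

end Cfsg.Agent.Helper34.MinDeg
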