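import Mathlib
import Cfsg.Agent.Helper1.MinDeg.Defs
import Cfsg.Agent.Helper5.SLn

/-!
# (R1) of S2140: a proper subgroup of `SL_n(F)` containing a full transvection group `Qc x`
stabilises a proper non-zero subspace  (helper34)

`W = {y | Qc y ≤ H}` is an `H`-invariant subspace; it contains `x`, and it is not everything since
`SL_n(F)` is generated by transvections.
-/

set_option autoImplicit false
set_option linter.unusedSectionVars false

namespace Cfsg.Agent.Helper34.MinDeg

open Matrix Cfsg.Agent.Helper14.AutPSL Cfsg.Agent.Helper1.MinDeg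

variable {F : Type*} [Field F] {n : ℕ}

/-- `Qc 0` is trivial -/
theorem Qc_zero_le (H : Subgroup (SpecialLinearGroup (Fin n) F)) : Qc (0 : Fin n → F) ≤ H := by
  rintro _ ⟨φ, h, rfl⟩
  rw [tv_zero_left]
  exact H.one_mem

/-- conjugating `Qc y` by `g` gives `Qc (g y)`: the inclusion we need -/
theorem Qc_mulVec_le {H : Subgroup (SpecialLinearGroup (Fin n) F)}
    {g : SpecialLinearGroup (Fin n) F} (hg : g ∈ H) {y : Fin n → F} (hy : Qc y ≤ H) :
    Qc (g.1 *ᵥ y) ≤ H := by
  intro u hu
  have h1 : g⁻¹ * u * g⁻¹⁻¹ ∈ Qc ((g⁻¹).1 *ᵥ (g.1 *ᵥ y)) := conj_mem_Qc hu g⁻¹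
  have h5 : (g⁻¹).1 * g.1 = 1 := by
    have h6 : (g⁻¹ * g).1 = (g⁻¹).1 * g.1 := rfl
    rw [← h6, inv_mul_cancel]
    rfl
  have h2 : (g⁻¹).1 *ᵥ (g.1 *ᵥ y) = y := by
    rw [mulVec_mulVec, h5, one_mulVec]
  rw [h2] at h1
  have h3 := hy h1
  have h4 : u = g * (g⁻¹ * u * g⁻¹⁻¹) * g⁻¹ := by group
  rw [h4]
  exact H.mul_mem (H.mul_mem hg h3) (H.inv_mem hg)

/-- (R1) a proper subgroup containing some `Qc x` stabilises a proper nonzero subspace. -/
theorem exists_invariant_subspace (hn : 2 ≤ n) (H : Subgroup (SpecialLinearGroup (Fin n) F))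
    (hH : H ≠ ⊤) {x : Fin n → F} (hx : x ≠ 0) (hU : Qc x ≤ H) :
    ∃ W : Submodule F (Fin n → F), W ≠ ⊥ ∧ W ≠ ⊤ ∧ ∀ g ∈ H, ∀ w ∈ W, g.1 *ᵥ w ∈ W := by
  classical
  have hsmul : ∀ (c : F) (y : Fin n → F), Qc y ≤ H → Qc (c • y) ≤ H := by
    intro c y hy
    by_cases hc : c = 0
    · rw [hc, zero_smul]
      exact Qc_zero_le H
    · rw [Qc_smul hc]
      exact hy
  let W : Submodule F (Fin n → F) :=
    { carrier := {y | Qc y ≤ H}
      zero_mem' := Qc_zero_le H
      add_mem' := by
        intro u v hu hv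
        show Qc (u + v) ≤ H
        by_cases hdep : ∀ c : F, v ≠ c • u
        · -- independent: move `v` to `u + v` by a transvection of `Qc u`
          obtain ⟨l, hl1, hl2⟩ := exists_dot_pair hdep
          have ht : tv u l hl2 ∈ H := hu (tv_mem_Qc u l hl2)
          have h1 := Qc_mulVec_le ht hv
          rw [tv_mulVec, hl1, one_smul, add_comm] at h1
          exact h1
        · push Not at hdep
          obtain ⟨c, hc⟩ := hdep
          have h1 : u + v = (1 + c) • u := by rw [hc, add_smul, one_smul]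
          rw [h1]
          exact hsmul _ _ hu
      smul_mem' := fun c y hy => hsmul c y hy }
  have hWmem : ∀ y, y ∈ W ↔ Qc y ≤ H := fun y => Iff.rfl
  refine ⟨W, ?_, ?_, ?_⟩
  · intro h
    have h1 : x ∈ W := hU
    rw [h, Submodule.mem_bot] at h1
    exact hx h1
  · intro h
    apply hH
    rw [eq_top_iff]
    intro M _
    have : Nontrivial (Fin n) := Fin.nontrivial_iff_two_le.mpr hn
    refine Cfsg.Agent.Helper5.transvection_induction (fun M => M ∈ H) ?_ ?_ M
    · intro i j hij a
      have h1 : (Pi.single j (1 : F) : Fin n → F) ⬝ᵥ (Pi.single i a : Fin n → F) = 0 := by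
        rw [single_dotProduct, one_mul, Pi.single_eq_of_ne (Ne.symm hij)]
      have h2 : SpecialLinearGroup.transvection hij a =
          tv (Pi.single i a : Fin n → F) (Pi.single j 1) h1 := by
        apply Subtype.ext
        rw [tv_coe, SpecialLinearGroup.transvection_coe]
        congr 1
        ext k l
        rw [vecMulVec_apply, single_apply, Pi.single_apply, Pi.single_apply]
        by_cases hk : k = i
        · by_cases hl : l = j
          · subst hk; subst hl; simp
          · have hl' : ¬ j = l := fun h => hl h.symm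
            subst hk; simp [hl, hl']
        · have hk' : ¬ i = k := fun h => hk h.symm
          simp [hk, hk']
      rw [h2]
      have h3 : (Pi.single i a : Fin n → F) ∈ W := by rw [h]; trivial
      exact ((hWmem _).mp h3) (tv_mem_Qc _ _ h1)
    · intro A B hA hB
      exact H.mul_mem hA hB
  · intro g hg w hw
    exact Qc_mulVec_le hg hw

end Cfsg.Agent.Helper34.MinDeg
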