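import Mathlib
import Cfsg.Agent.Helper2.NormIdeal
import Cfsg.Agent.S0038
import Cfsg.Agent.S0589
import Cfsg.Agent.Helper24.ZasLin

/-!
# A Frobenius complement has a proper norm ideal in some coprime characteristic
(helper34, piece (A) of helper2's plan for S3357 + S4292)
-/

set_option autoImplicit false

open scoped Pointwise
open Cfsg.Agent.Helper2.NormIdeal

namespace Cfsg.Agent.Helper34.NFFrob

theorem exists_prime_NF_of_frobenius {G : Type*} [Group G] [Finite G]
    (hFC : ∃ (L : Type) (_ : Group L) (_ : Finite L) (H : Subgroup L),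
      Cfsg.IsFrobeniusComplement H ∧ Nonempty (G ≃* H)) :
    ∃ q : ℕ, q.Prime ∧ ¬ q ∣ Nat.card G ∧ NF (ZMod q) G := by
  classical
  obtain ⟨L, iL, iF, H, hH, ⟨e⟩⟩ := hFC
  obtain ⟨x, V, hVne, hVab, hVker, hnorm, -⟩ :=
    Cfsg.Agent.S0038.exists_conj_normalizing H hH
      (fun L' hL' => Cfsg.Agent.S0589.result H hH L' hL')
  have hKf := Cfsg.Agent.S0038.isFrobeniusComplement_conj hH x
  -- the action of `G` on `L` through the conjugate complement
  let ψ : G →* MulAut L :=
    (MulAut.conj).comp ((MulAut.conj x).toMonoidHom.comp (H.subtype.comp e.toMonoidHom))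
  have hψ : ∀ (g : G) (m : L),
      ψ g m = (x * ((e g : H) : L) * x⁻¹) * m * (x * ((e g : H) : L) * x⁻¹)⁻¹ := fun g m => rfl
  have hmemK : ∀ g : G, x * ((e g : H) : L) * x⁻¹ ∈ MulAut.conj x • H :=
    fun g => Cfsg.Agent.Helper63.conj_mem_conj_smul H x _ (e g).2
  have hne1 : ∀ g : G, g ≠ 1 → x * ((e g : H) : L) * x⁻¹ ≠ 1 := by
    intro g hg h
    apply hg
    have h1 : ((e g : H) : L) = 1 := by
      have h2 : ((e g : H) : L) = x⁻¹ * (x * ((e g : H) : L) * x⁻¹) * x := by group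
      rw [h2, h]; group
    have h3 : e g = 1 := Subtype.ext h1
    exact e.injective (by rw [h3, map_one])
  have hkey : ∀ g : G, g ≠ 1 → ∀ m ∈ V, ψ g m = m → m = 1 := by
    intro g hg m hm hfix
    by_contra hm1
    rw [hψ] at hfix
    have hcomm : m * (x * ((e g : H) : L) * x⁻¹) = (x * ((e g : H) : L) * x⁻¹) * m := by
      calc m * (x * ((e g : H) : L) * x⁻¹)
          = ((x * ((e g : H) : L) * x⁻¹) * m * (x * ((e g : H) : L) * x⁻¹)⁻¹) *
              (x * ((e g : H) : L) * x⁻¹) := by rw [hfix]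
        _ = (x * ((e g : H) : L) * x⁻¹) * m := by group
    have h1 : m ∈ MulAut.conj x • H :=
      Cfsg.Agent.S0038.mem_of_commute hKf (hmemK g) (hne1 g hg) hcomm
    exact Cfsg.Agent.S0038.not_mem_conj_of_mem_kernel (hVker hm) hm1 x h1
  obtain ⟨m₀, hm₀V, hm₀1⟩ : ∃ m ∈ V, m ≠ 1 := by
    by_contra hcon
    refine hVne ((Subgroup.eq_bot_iff_forall V).mpr fun m hm => ?_)
    by_contra hm1
    exact hcon ⟨m, hm, hm1⟩
  have hψinj : ∀ g : G, ψ g = 1 → g = 1 := by
    intro g hg
    by_contra hg1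
    exact hm₀1 (hkey g hg1 m₀ hm₀V (by rw [hg]; rfl))
  obtain ⟨q, hq, W, iA, iM, iFW, iN, ρ, hρ⟩ :=
    Cfsg.Agent.Helper24.Zas.exists_fpf_rep ψ.range V hVne
      (fun a ha b hb => congrArg Subtype.val (hVab.is_comm.comm (⟨a, ha⟩ : V) ⟨b, hb⟩))
      (by
        rintro _ ⟨g, rfl⟩ m hm
        rw [hψ]
        exact (Subgroup.mem_normalizer_iff.mp (hnorm (hmemK g)) m).mp hm)
      (by
        rintro _ ⟨g, rfl⟩ hne m hm hfix
        have hg : g ≠ 1 := fun h => hne (by rw [h, map_one])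
        exact hkey g hg m hm hfix)
  have hqp : q.Prime := hq.out
  let ρ' : G →* Module.End (ZMod q) W := ρ.comp ψ.rangeRestrict
  have hρ' : ∀ g : G, g ≠ 1 → IsUnit (ρ' g - 1) := by
    intro g hg
    apply hρ
    intro h
    apply hg
    apply hψinj
    have := congrArg Subtype.val h
    simpa using this
  refine ⟨q, hqp, ?_, NF_of_fpf (R := ZMod q) ρ' hρ'⟩
  intro hdvd
  obtain ⟨g, hg⟩ := exists_prime_orderOf_dvd_card' q hdvd
  have hg1 : g ≠ 1 := by
    intro h
    rw [h, orderOf_one] at hg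
    exact hqp.one_lt.ne hg
  have hu := hρ' g hg1
  have hinjalg : Function.Injective (algebraMap (ZMod q) (Module.End (ZMod q) W)) :=
    (algebraMap (ZMod q) (Module.End (ZMod q) W)).injective
  have : CharP (Module.End (ZMod q) W) q := charP_of_injective_algebraMap hinjalg q
  have h1 : (ρ' g - 1) ^ q = 0 := by
    have hgq : g ^ q = 1 := by rw [← hg]; exact pow_orderOf_eq_one g
    rw [sub_pow_char_of_commute q (Commute.one_right _), one_pow, ← map_pow, hgq, map_one, sub_self]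
  have h2 : IsUnit ((ρ' g - 1) ^ q) := hu.pow q
  rw [h1] at h2
  exact not_isUnit_zero h2

end Cfsg.Agent.Helper34.NFFrob
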