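import Cfsg.Agent.Helper39.SimpOrd.KitC
import Cfsg.Agent.Helper17.LemmaR
import Cfsg.Agent.Helper17.FixCount
import Cfsg.Agent.Helper63.PGroup
import Cfsg.Agent.S0215

/-!
# No simple group of order 3960 (for S0983; paper proof by helper39, #3854 WANTED-A)
-/

set_option autoImplicit false
set_option linter.style.haveILetI false

namespace Cfsg.Agent.Helper34.NoSimple3960

open Subgroup Cfsg.Agent.Helper9 Cfsg.Agent.Helper17 Cfsg.Agent.Helper39.SimpOrd

variable {G : Type*} [Group G] [Finite G]

/-- A subgroup of order `p ^ k * m'` (`p ∤ m'`) of a group of order `p ^ k * m` (`p ∤ m`)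
contains a Sylow `p`-subgroup of the whole group. -/
theorem exists_sylow_le {p : ℕ} [Fact p.Prime] {k m m' : ℕ} (hcard : Nat.card G = p ^ k * m)
    (hm : ¬ p ∣ m) (N : Subgroup G) (hN : Nat.card N = p ^ k * m') (hm' : ¬ p ∣ m') :
    ∃ S : Sylow p G, (S : Subgroup G) ≤ N := by
  obtain ⟨S0⟩ : Nonempty (Sylow p ↥N) := inferInstance
  have hS0 : Nat.card (S0 : Subgroup ↥N) = p ^ k := card_sylow_subgroup_of_card_eq hN hm' S0
  set T := (S0 : Subgroup ↥N).map N.subtype with hT
  have hTcard : Nat.card T = p ^ k := by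
    rw [hT, Subgroup.card_map_of_injective N.subtype_injective, hS0]
  have hTN : T ≤ N := by
    rintro _ ⟨y, -, rfl⟩
    exact y.2
  have hTp : IsPGroup p T := IsPGroup.of_card hTcard
  obtain ⟨S, hS⟩ := hTp.exists_le_sylow
  have hScard : Nat.card (S : Subgroup G) = p ^ k := card_sylow_subgroup_of_card_eq hcard hm S
  have hTS : T = (S : Subgroup G) :=
    Subgroup.eq_of_le_of_card_ge hS (by rw [hScard, hTcard])
  exact ⟨S, hTS ▸ hTN⟩

omit [Finite G] in
/-- the centralizer of `H` is normalized by the normalizer of `H` -/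
theorem conj_mem_centralizer' (H : Subgroup G) {n c : G}
    (hn : n ∈ normalizer (H : Set G)) (hc : c ∈ centralizer (H : Set G)) :
    n * c * n⁻¹ ∈ centralizer (H : Set G) := by
  rw [Subgroup.mem_centralizer_iff] at hc ⊢
  intro h hh
  have hn' : n⁻¹ ∈ normalizer (H : Set G) := Subgroup.inv_mem _ hn
  have h1 : n⁻¹ * h * n ∈ H := by
    have := (Subgroup.mem_normalizer_iff.mp hn' h).mp hh
    simpa using this
  have h2 := hc _ h1
  calc h * (n * c * n⁻¹) = n * ((n⁻¹ * h * n) * c) * n⁻¹ := by group
    _ = n * (c * (n⁻¹ * h * n)) * n⁻¹ := by rw [h2]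
    _ = n * c * n⁻¹ * h := by group

/-- A `2`-subgroup `S` normalizing `H`, with `C(H) ∩ S ≠ 1`, contains an involution of `C(H)`
that is central in `S`. -/
theorem exists_central_involution (H : Subgroup G) (S : Subgroup G) (hS2 : IsPGroup 2 S)
    (hSN : S ≤ normalizer (H : Set G)) (hne : S ⊓ centralizer (H : Set G) ≠ ⊥) :
    ∃ z : G, orderOf z = 2 ∧ z ∈ centralizer (H : Set G) ∧ z ∈ S ∧
      S ≤ centralizer ({z} : Set G) := by
  haveI : Fact (Nat.Prime 2) := ⟨Nat.prime_two⟩
  set V : Subgroup ↥S := (centralizer (H : Set G)).subgroupOf S with hV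
  haveI hVn : V.Normal := by
    constructor
    intro n hn g
    rw [hV, Subgroup.mem_subgroupOf] at hn ⊢
    have := conj_mem_centralizer' H (hSN g.2) hn
    simpa using this
  have hVne : V ≠ ⊥ := by
    intro hbot
    apply hne
    rw [eq_bot_iff]
    intro x hx
    obtain ⟨hxS, hxC⟩ := Subgroup.mem_inf.mp hx
    have : (⟨x, hxS⟩ : ↥S) ∈ V := by
      rw [hV, Subgroup.mem_subgroupOf]; exact hxC
    rw [hbot, Subgroup.mem_bot] at this
    rw [Subgroup.mem_bot]
    exact congrArg Subtype.val this
  have hZne := Cfsg.Agent.Helper63.normal_inf_center_ne_bot hS2 V hVne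
  -- the subgroup `V ⊓ Z(S)` is a nontrivial `2`-group
  set Z := V ⊓ Subgroup.center ↥S with hZ
  have hZ2 : IsPGroup 2 Z := hS2.to_subgroup Z
  have h2dvd : 2 ∣ Nat.card Z := by
    rcases hZ2.card_eq_or_dvd with h | h
    · exact absurd (Subgroup.card_eq_one.mp h) hZne
    · exact h
  obtain ⟨z', hz'⟩ := exists_prime_orderOf_dvd_card' (G := ↥Z) 2 h2dvd
  have hzV : (z' : ↥S) ∈ V := (Subgroup.mem_inf.mp z'.2).1
  have hzZ : (z' : ↥S) ∈ Subgroup.center ↥S := (Subgroup.mem_inf.mp z'.2).2
  refine ⟨((z' : ↥S) : G), ?_, ?_, (z' : ↥S).2, ?_⟩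
  · rw [Subgroup.orderOf_coe, Subgroup.orderOf_coe, hz']
  · rw [hV, Subgroup.mem_subgroupOf] at hzV
    exact hzV
  · intro s hs
    rw [Subgroup.mem_centralizer_singleton_iff]
    have := (Subgroup.mem_center_iff.mp hzZ) ⟨s, hs⟩
    have h2 := congrArg Subtype.val this
    simpa using h2

theorem no_simple_3960 [IsSimpleGroup G] (hcard : Nat.card G = 3960) : False := by
  haveI : Fact (Nat.Prime 11) := ⟨by norm_num⟩
  haveI : Fact (Nat.Prime 2) := ⟨Nat.prime_two⟩
  have hG : ¬ IsMulCommutative G := not_comm_of_simple_of_not_prime (by rw [hcard]; norm_num)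
  have hcard11 : Nat.card G = 11 ^ 1 * 360 := by rw [hcard]; norm_num
  have hcard2 : Nat.card G = 2 ^ 3 * 495 := by rw [hcard]; norm_num
  obtain ⟨P⟩ : Nonempty (Sylow 11 G) := inferInstance
  have hP : Nat.card (P : Subgroup G) = 11 := by
    have := card_sylow_subgroup_of_card_eq (p := 11) (k := 1) (m := 360) hcard11 (by norm_num) P
    simpa using this
  -- `n_11 = 45`
  have hn11 : Nat.card (Sylow 11 G) = 45 := by
    have hmem := card_sylow_mem_npList hG 11 1 360 (by norm_num) hcard11 (by norm_num)
      (by norm_num) (by norm_num)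
    have hL : npList 11 1 360 = [12, 45] := by decide +kernel
    rw [hL] at hmem
    simp only [List.mem_cons, List.not_mem_nil, or_false] at hmem
    rcases hmem with h12 | h45
    · exfalso
      exact kill_succ hG P hcard (by norm_num) h12 (N := 330) (by norm_num) (by norm_num)
    · exact h45
  have hN : Nat.card (normalizer ((P : Subgroup G) : Set G)) = 88 :=
    card_normalizer_of_card_sylow P hcard hn11 (by norm_num) (by norm_num)
  -- `|C(P)| = 44`
  obtain ⟨hd10, hd88⟩ := relIndex_dvd_of_card_sylow_prime P hP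
  have hneNC := not_normalizer_le_centralizer_of_simple P (by rw [hP]; norm_num)
    (by rw [hP, hcard]; norm_num)
  have hCmul := card_centralizer_mul_relIndex (P : Subgroup G)
  have hd1 : (centralizer ((P : Subgroup G) : Set G)).relIndex
      (normalizer ((P : Subgroup G) : Set G)) ≠ 1 :=
    fun h1 => hneNC (Subgroup.relIndex_eq_one.mp h1)
  rw [hN] at hd88 hCmul
  have hC : Nat.card (centralizer ((P : Subgroup G) : Set G)) = 44 := by
    generalize (centralizer ((P : Subgroup G) : Set G)).relIndex
      (normalizer ((P : Subgroup G) : Set G)) = d at hd10 hd88 hd1 hCmul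
    have hd : d ≤ 10 := Nat.le_of_dvd (by norm_num) hd10
    interval_cases d <;> omega
  set C := centralizer ((P : Subgroup G) : Set G) with hCdef
  set N := normalizer ((P : Subgroup G) : Set G) with hNdef
  have hCN : C ≤ N := Subgroup.centralizer_le_normalizer _
  -- a Sylow 2-subgroup of `G` inside `N`
  obtain ⟨S, hSN⟩ := exists_sylow_le (p := 2) (k := 3) (m := 495) (m' := 11) hcard2 (by norm_num)
    N (by rw [hN]; norm_num) (by norm_num)
  have hScard : Nat.card (S : Subgroup G) = 8 := by
    have := card_sylow_subgroup_of_card_eq (p := 2) (k := 3) (m := 495) hcard2 (by norm_num) S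
    simpa using this
  -- `S ∩ C ≠ 1`
  have hSC : (S : Subgroup G) ⊓ C ≠ ⊥ := by
    intro hbot
    have hdisj : Disjoint (S : Subgroup G) C := disjoint_iff.mpr hbot
    have hinj := Subgroup.mul_injective_of_disjoint hdisj
    let f : ↥(S : Subgroup G) × ↥C → ↥N := fun g => ⟨g.1 * g.2, N.mul_mem (hSN g.1.2) (hCN g.2.2)⟩
    have hf : Function.Injective f := by
      intro a b hab
      apply hinj
      exact congrArg Subtype.val hab
    have := Nat.card_le_card_of_injective f hf
    rw [Nat.card_prod, hScard, hC, hN] at this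
    omega
  obtain ⟨z, hz2, hzC, hzS, hSz⟩ := exists_central_involution (P : Subgroup G) (S : Subgroup G)
    S.isPGroup' hSN hSC
  have hz1 : z ≠ 1 := by
    intro h
    rw [h, orderOf_one] at hz2
    omega
  -- `N ≤ C(z)`
  have hPz : (P : Subgroup G) ≤ centralizer ({z} : Set G) := by
    intro x hx
    rw [Subgroup.mem_centralizer_singleton_iff]
    exact ((Subgroup.mem_centralizer_iff.mp hzC) x hx)
  have hNz : N ≤ centralizer ({z} : Set G) := by
    set H := centralizer ({z} : Set G) ⊓ N with hH
    have hPH : (P : Subgroup G) ≤ H := le_inf hPz le_normalizer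
    have hSH : (S : Subgroup G) ≤ H := le_inf hSz hSN
    have h11 : 11 ∣ Nat.card H := by
      have := Subgroup.card_dvd_of_le hPH
      rwa [hP] at this
    have h8 : 8 ∣ Nat.card H := by
      have := Subgroup.card_dvd_of_le hSH
      rwa [hScard] at this
    have h88 : 88 ∣ Nat.card H := by
      have : Nat.Coprime 8 11 := by norm_num
      have := this.mul_dvd_of_dvd_of_dvd h8 h11
      simpa using this
    have hHN : H = N := Subgroup.eq_of_le_of_card_ge inf_le_right (by
      rw [hN]; exact Nat.le_of_dvd Nat.card_pos h88)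
    rw [← hHN]
    exact inf_le_left
  -- fixed points of `z` on `Syl_11`
  have hfix : fixSyl 11 z = {P} := by
    classical
    have h1 := card_fixSyl_modEq_one P z hzC
    have h3 := card_fixSyl_le (p := 11) z
    rw [hn11] at h3
    letI : Fintype (Sylow 11 G) := Fintype.ofFinite _
    obtain ⟨m, hm⟩ := card_fixed_add_four_mul (G := G) (Ω := Sylow 11 G)
      (by rw [hcard]; norm_num) z (by rw [← hz2]; exact pow_orderOf_eq_one z)
    have hcardeq : (Finset.univ.filter (fun x : Sylow 11 G => z • x = x)).card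
        = (fixSyl 11 z).card := by
      congr 1
    rw [hcardeq, ← Nat.card_eq_fintype_card, hn11] at hm
    have hne45 : (fixSyl 11 z).card ≠ 45 := by
      intro h
      exact hz1 (eq_one_of_card_fixSyl (p := 11) (by rw [hn11]; norm_num) z (by rw [h, hn11]))
    have hcard1 : (fixSyl 11 z).card = 1 := by
      unfold Nat.ModEq at h1
      generalize (fixSyl 11 z).card = F at *
      interval_cases F <;> omega
    obtain ⟨R, hR⟩ := Finset.card_eq_one.mp hcard1
    have := self_mem_fixSyl P z hzC
    rw [hR, Finset.mem_singleton] at this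
    rw [hR, this]
  -- `z` is isolated in `S`
  have hiso : ∀ g : G, g * z * g⁻¹ ∈ S → g * z * g⁻¹ = z := by
    intro g hg
    have hgN : g * z * g⁻¹ ∈ N := hSN hg
    have h1 : (g * z * g⁻¹) • P = P := Sylow.smul_eq_iff_mem_normalizer.mpr hgN
    have h2 : z • (g⁻¹ • P) = g⁻¹ • P := by
      have : g⁻¹ • ((g * z * g⁻¹) • P) = g⁻¹ • P := by rw [h1]
      rw [← mul_smul] at this
      rw [← mul_smul]
      have he : g⁻¹ * (g * z * g⁻¹) = z * g⁻¹ := by group
      rwa [he] at this
    have h3 : g⁻¹ • P ∈ fixSyl 11 z := mem_fixSyl.mpr h2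
    rw [hfix, Finset.mem_singleton] at h3
    have h4 : g⁻¹ ∈ N := Sylow.smul_eq_iff_mem_normalizer.mp h3
    have h5 : g ∈ N := by
      have := N.inv_mem h4
      simpa using this
    have h6 := Subgroup.mem_centralizer_singleton_iff.mp (hNz h5)
    calc g * z * g⁻¹ = z * g * g⁻¹ := by rw [h6]
      _ = z := by group
  -- Glauberman's Z*
  obtain ⟨K, hKn, hKodd, hKc⟩ := Cfsg.Agent.S0215.result S z hz2 hzS hiso
  rcases hKn.eq_bot_or_eq_top with h | h
  · -- `z` is central
    have hzcen : z ∈ Subgroup.center G := by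
      rw [Subgroup.mem_center_iff]
      intro g
      have := hKc g
      rw [h, Subgroup.mem_bot] at this
      calc g * z = (z * g * z⁻¹ * g⁻¹)⁻¹ * (z * g) := by group
        _ = z * g := by rw [this]; group
    rcases (Subgroup.center G).normal_of_characteristic.eq_bot_or_eq_top with hc | hc
    · rw [hc, Subgroup.mem_bot] at hzcen
      exact hz1 hzcen
    · apply hG
      constructor
      constructor
      intro a b
      have : a ∈ Subgroup.center G := by rw [hc]; exact Subgroup.mem_top a
      exact ((Subgroup.mem_center_iff.mp this) b).symm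
  · rw [h, Subgroup.card_top, hcard] at hKodd
    exact absurd hKodd (by decide)

end Cfsg.Agent.Helper34.NoSimple3960
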