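import Mathlib

/-!
# (NC) an element commuting with `s` normalises `⟨s⟩` (helper34, for helper38's S2500 part 5)
-/

set_option autoImplicit false

namespace Cfsg.Agent.Helper34.P5

/-- (NC) an element commuting with `s` normalises `⟨s⟩` -/
theorem mem_normalizer_of_commute {G : Type*} [Group G] (s x : G) (h : x * s = s * x) :
    x ∈ Subgroup.normalizer (Subgroup.zpowers s : Set G) := by
  have hc : Commute x s := h
  have key : ∀ k : ℤ, x * s ^ k * x⁻¹ = s ^ k := by
    intro k
    have := (hc.zpow_right k).eq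
    rw [this, mul_inv_cancel_right]
  rw [Subgroup.mem_normalizer_iff]
  intro y
  constructor
  · rintro ⟨k, rfl⟩
    show x * s ^ k * x⁻¹ ∈ Subgroup.zpowers s
    rw [key k]
    exact ⟨k, rfl⟩
  · rintro ⟨k, hk⟩
    have hk' : s ^ k = x * y * x⁻¹ := hk
    have : y = s ^ k := by
      have h1 : y = x⁻¹ * (x * y * x⁻¹) * x := by group
      rw [h1, ← hk']
      have h2 := key k
      calc x⁻¹ * s ^ k * x = x⁻¹ * (x * s ^ k * x⁻¹) * x := by rw [h2]
        _ = s ^ k := by group
    rw [this]
    exact ⟨k, rfl⟩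

end Cfsg.Agent.Helper34.P5
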