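import Mathlib
import Cfsg.Agent.Helper38.Cov2P5.Defs
import Cfsg.Agent.Helper13.UFrames
import Cfsg.Agent.Helper5.HermCount

/-!
# (WT) Witt: a nonisotropic vector is mapped to a multiple of `e₀` by a unitary matrix
(helper34, for helper38's S2500 part 5)
-/

set_option autoImplicit false

namespace Cfsg.Agent.Helper34.P5

open Matrix Cfsg.Agent.S2587 Cfsg.Agent.S2578 Cfsg.Agent.Helper45.GU

variable {F : Type*} [Field F] [Fintype F] {q : ℕ}

/-- (WT) Witt: a nonisotropic vector is mapped to a multiple of `e₀` by a unitary matrix -/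
theorem exists_unitary_map_e0 (hF : Fintype.card F = q ^ 2) (bar : F →+* F)
    (hbar : ∀ x, bar x = x ^ q) (v : Fin 3 → F) (hv : herm bar v v ≠ 0) :
    ∃ (Y : Matrix (Fin 3) (Fin 3) F) (c : F), c ≠ 0 ∧ st bar Y * Y = 1 ∧
      Y *ᵥ v = c • (Pi.single 0 1 : Fin 3 → F) := by
  classical
  have hq2 := Cfsg.Agent.Helper5.herm_q_pos hF
  have hn : Cfsg.hermForm 3 F q v v = herm bar v v := hermForm_eq 3 bar hbar v v
  have hn0 : Cfsg.hermForm 3 F q v v ≠ 0 := by rw [hn]; exact hv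
  have hnK : Cfsg.hermForm 3 F q v v ∈ Cfsg.Agent.Helper5.hermK F q := by
    rw [Cfsg.Agent.Helper5.hermForm_self]
    exact Cfsg.Agent.Helper5.sum_norm_mem_hermK hF v
  have hcard := Cfsg.Agent.Helper5.card_norm_fiber hF hnK hn0
  obtain ⟨c, hc⟩ : ∃ c : F, c ^ (q + 1) = Cfsg.hermForm 3 F q v v := by
    have hpos : 0 < (Finset.univ.filter (fun x : F => x ^ (q + 1) = Cfsg.hermForm 3 F q v v)).card := by
      rw [hcard]; omega
    obtain ⟨c, hc⟩ := Finset.card_pos.1 hpos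
    exact ⟨c, (Finset.mem_filter.1 hc).2⟩
  have hc0 : c ≠ 0 := by
    rintro rfl
    rw [zero_pow (by omega)] at hc
    exact hn0 hc.symm
  obtain ⟨w, hw⟩ : ∃ w : Fin 3 → F, w = c • (Pi.single 0 1 : Fin 3 → F) := ⟨_, rfl⟩
  have hww : Cfsg.hermForm 3 F q w w = Cfsg.hermForm 3 F q v v := by
    rw [hw, Cfsg.Agent.Helper13.hermForm_smul_left, Cfsg.Agent.Helper13.hermForm_smul_right,
      Cfsg.Agent.Helper13.hermForm_single_left, Pi.single_eq_same, one_pow, mul_one, ← hc,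
      pow_succ']
  have hv0 : v ≠ 0 := by
    rintro rfl
    apply hn0
    simp [Cfsg.hermForm]
  have hw0 : w ≠ 0 := by
    intro h
    apply hn0
    rw [← hww, h]
    simp [Cfsg.hermForm]
  -- the isometry between the two lines
  set φ : Submodule.span F {v} ≃ₗ[F] Submodule.span F {w} :=
    (LinearEquiv.toSpanNonzeroSingleton F (Fin 3 → F) v hv0).symm.trans
      (LinearEquiv.toSpanNonzeroSingleton F (Fin 3 → F) w hw0) with hφdef
  have hφv : ∀ x : Submodule.span F {v}, ((φ x : Submodule.span F {w}) : Fin 3 → F) =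
      (LinearEquiv.coord F (Fin 3 → F) v hv0 x) • w := by
    intro x
    rw [hφdef, LinearEquiv.trans_apply, LinearEquiv.toSpanNonzeroSingleton_apply]
  have hxv : ∀ x : Submodule.span F {v}, (x : Fin 3 → F) =
      (LinearEquiv.coord F (Fin 3 → F) v hv0 x) • v :=
    fun x => (LinearEquiv.coord_apply_smul F (Fin 3 → F) v hv0 x).symm
  have hφ : ∀ x x' : Submodule.span F {v},
      (Cfsg.Agent.S0837.hB hF 3) (φ x : Fin 3 → F) (φ x' : Fin 3 → F) =
        (Cfsg.Agent.S0837.hB hF 3) (x : Fin 3 → F) (x' : Fin 3 → F) := by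
    intro x x'
    rw [Cfsg.Agent.S0837.hB_apply, Cfsg.Agent.S0837.hB_apply, hφv x, hφv x']
    conv_rhs => rw [hxv x, hxv x']
    rw [Cfsg.Agent.Helper13.hermForm_smul_left, Cfsg.Agent.Helper13.hermForm_smul_right,
      Cfsg.Agent.Helper13.hermForm_smul_left, Cfsg.Agent.Helper13.hermForm_smul_right, hww]
  obtain ⟨g, hg1, hg2⟩ := Cfsg.Agent.S0751.result (Cfsg.Agent.S0837.frobHom hF)
    (Cfsg.Agent.S0837.frobHom_ne_id hF) (Cfsg.Agent.S0837.frobHom_frobHom hF)
    (Cfsg.Agent.S0837.hB hF 3) (Cfsg.Agent.S0837.hB_isSymm hF 3)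
    (Cfsg.Agent.S0837.hB_nondegenerate hF 3) _ _ φ hφ
  set M : Matrix (Fin 3) (Fin 3) F :=
    LinearMap.toMatrix' (g : (Fin 3 → F) →ₗ[F] (Fin 3 → F)) with hM
  have hpres : ∀ u u' : Fin 3 → F, herm bar (M *ᵥ u) (M *ᵥ u') = herm bar u u' := by
    intro u u'
    have := hg1 u' u
    rw [Cfsg.Agent.S0837.hB_apply, Cfsg.Agent.S0837.hB_apply] at this
    rw [← hermForm_eq 3 bar hbar, ← hermForm_eq 3 bar hbar, hM, LinearMap.toMatrix'_mulVec,
      LinearMap.toMatrix'_mulVec]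
    exact this
  have hU := unitary_of_herm bar M hpres
  refine ⟨M, c, hc0, ?_, ?_⟩
  · have h3 := congrArg Matrix.transpose hU
    rw [Matrix.transpose_mul, Matrix.transpose_transpose, Matrix.transpose_one] at h3
    exact h3
  · rw [hM, LinearMap.toMatrix'_mulVec]
    have h3 := hg2 ⟨v, Submodule.mem_span_singleton_self v⟩
    rw [LinearEquiv.coe_coe, h3, hφv, LinearEquiv.coord_self, one_smul, hw]

end Cfsg.Agent.Helper34.P5
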