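import Mathlib
import Cfsg.Agent.Lib.Cores
import Cfsg.Agent.Helper34.PNil
import Cfsg.Agent.Helper34.MaxSylow

/-!
# Groups with a normal series `p`-group / abelian `p'`-group / `p`-group (helper34)

`HasPQSeries p Z` : there are normal subgroups `A ≤ B` of `Z` with `A` a `p`-group of bounded
exponent, `B / A` commutative of exponent prime to `p`, and `Z / B` a `p`-group of bounded exponent.
The class is closed under subgroups, homomorphic images and hence sections, and contains the groups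
`Y` with `Y / O_p(Y)` `p`-nilpotent whose Sylow `p`-subgroup is a maximal subgroup.
-/

set_option autoImplicit false

namespace Cfsg.Agent.Helper34

universe u v

open Subgroup

/-- A normal series `1 ≤ A ≤ B ≤ Z` with factors: `p`-group, commutative `p'`-group, `p`-group
(in element-wise form). -/
def HasPQSeries (p : ℕ) (Z : Type*) [Group Z] : Prop :=
  ∃ (A B : Subgroup Z) (n j k : ℕ), A.Normal ∧ B.Normal ∧ A ≤ B ∧ n.Coprime p ∧
    (∀ x ∈ A, x ^ p ^ j = 1) ∧ (∀ x ∈ B, x ^ n ∈ A) ∧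
    (∀ x ∈ B, ∀ y ∈ B, x * y * x⁻¹ * y⁻¹ ∈ A) ∧ (∀ x : Z, x ^ p ^ k ∈ B)

section closure

variable {p : ℕ} {Z : Type u} {Z' : Type v} [Group Z] [Group Z']

theorem HasPQSeries.of_injective (h : HasPQSeries p Z) (f : Z' →* Z) (hf : Function.Injective f) :
    HasPQSeries p Z' := by
  obtain ⟨A, B, n, j, k, hAn, hBn, hAB, hn, hA, hBA, hBc, hZB⟩ := h
  refine ⟨A.comap f, B.comap f, n, j, k, hAn.comap f, hBn.comap f, Subgroup.comap_mono hAB, hn,
    ?_, ?_, ?_, ?_⟩
  · intro x hx
    apply hf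
    rw [map_pow, map_one]
    exact hA _ hx
  · intro x hx
    rw [Subgroup.mem_comap, map_pow]
    exact hBA _ hx
  · intro x hx y hy
    rw [Subgroup.mem_comap, map_mul, map_mul, map_mul, map_inv, map_inv]
    exact hBc _ hx _ hy
  · intro x
    rw [Subgroup.mem_comap, map_pow]
    exact hZB _

theorem HasPQSeries.subgroup (h : HasPQSeries p Z) (H : Subgroup Z) : HasPQSeries p ↥H :=
  h.of_injective H.subtype H.subtype_injective

theorem HasPQSeries.of_surjective (h : HasPQSeries p Z) (f : Z →* Z') (hf : Function.Surjective f) :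
    HasPQSeries p Z' := by
  obtain ⟨A, B, n, j, k, hAn, hBn, hAB, hn, hA, hBA, hBc, hZB⟩ := h
  refine ⟨A.map f, B.map f, n, j, k, hAn.map f hf, hBn.map f hf, Subgroup.map_mono hAB, hn,
    ?_, ?_, ?_, ?_⟩
  · rintro _ ⟨x, hx, rfl⟩
    rw [← map_pow, hA x hx, map_one]
  · rintro _ ⟨x, hx, rfl⟩
    exact ⟨x ^ n, hBA x hx, map_pow f x n⟩
  · rintro _ ⟨x, hx, rfl⟩ _ ⟨y, hy, rfl⟩
    refine ⟨x * y * x⁻¹ * y⁻¹, hBc x hx y hy, ?_⟩
    rw [map_mul, map_mul, map_mul, map_inv, map_inv]
  · intro z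
    obtain ⟨x, rfl⟩ := hf z
    exact ⟨x ^ p ^ k, hZB x, map_pow f x _⟩

theorem HasPQSeries.of_mulEquiv (h : HasPQSeries p Z) (e : Z ≃* Z') : HasPQSeries p Z' :=
  h.of_surjective e.toMonoidHom e.surjective

theorem HasPQSeries.of_isSec (h : HasPQSeries p Z) (hs : IsSec Z Z') : HasPQSeries p Z' := by
  obtain ⟨K, f, hf⟩ := hs
  exact (h.subgroup K).of_surjective f hf

end closure

section maxSylow

variable {p : ℕ} [hp : Fact p.Prime] {Y : Type u} [Group Y] [Finite Y]

omit [Finite Y] in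
/-- The image of a maximal subgroup containing the kernel is maximal. -/
theorem isCoatom_map_mk_of_le {Q T : Subgroup Y} [Q.Normal] (hQT : Q ≤ T) (hT : IsCoatom T) :
    IsCoatom (T.map (QuotientGroup.mk' Q)) := by
  have hπ : Function.Surjective (QuotientGroup.mk' Q) := QuotientGroup.mk'_surjective _
  have hcomapT : (T.map (QuotientGroup.mk' Q)).comap (QuotientGroup.mk' Q) = T := by
    rw [Subgroup.comap_map_eq, QuotientGroup.ker_mk', sup_eq_left.mpr hQT]
  constructor
  · intro htop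
    apply hT.1
    rw [← hcomapT, htop, Subgroup.comap_top]
  · intro Hb hHb
    have h1 : T < Hb.comap (QuotientGroup.mk' Q) := by
      have hle : T ≤ Hb.comap (QuotientGroup.mk' Q) := by
        rw [← Subgroup.map_le_iff_le_comap]; exact hHb.le
      refine lt_of_le_of_ne hle ?_
      intro heq
      apply hHb.ne
      rw [heq, Subgroup.map_comap_eq_self_of_surjective hπ]
    have h2 := hT.2 _ h1
    rw [← Subgroup.map_comap_eq_self_of_surjective hπ Hb, h2, Subgroup.map_top_of_surjective _ hπ]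

/-- Groups `Y` with `Y / O_p(Y)` `p`-nilpotent and a maximal Sylow `p`-subgroup have a series. -/
theorem hasPQSeries_of_maxSylow (hquot : PNil p (Y ⧸ Cfsg.pCore p Y)) (T : Sylow p Y)
    (hT : IsCoatom (T : Subgroup Y)) : HasPQSeries p Y := by
  obtain ⟨Kb, hKbn, hKbc, k, hk⟩ := hquot
  have hQT : Cfsg.pCore p Y ≤ (T : Subgroup Y) := Lib.pCore_le_sylow T
  have hTbp : IsPGroup p ↥((T : Subgroup Y).map (QuotientGroup.mk' (Cfsg.pCore p Y))) :=
    T.2.map _
  have hTbco := isCoatom_map_mk_of_le hQT hT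
  have hKcomm := commute_of_isCoatom hTbp hTbco hKbc
  obtain ⟨j, hj⟩ := (Lib.isPGroup_pCore p (G := Y)).exists_card_eq
  refine ⟨Cfsg.pCore p Y, Kb.comap (QuotientGroup.mk' (Cfsg.pCore p Y)), Nat.card Kb, j, k,
    inferInstance, hKbn.comap _, ?_, hKbc, ?_, ?_, ?_, ?_⟩
  · intro q hq
    rw [Subgroup.mem_comap, QuotientGroup.mk'_apply, (QuotientGroup.eq_one_iff q).mpr hq]
    exact Kb.one_mem
  · intro x hx
    have h1 : (⟨x, hx⟩ : ↥(Cfsg.pCore p Y)) ^ Nat.card ↥(Cfsg.pCore p Y) = 1 := pow_card_eq_one'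
    rw [hj] at h1
    have h2 := congrArg Subtype.val h1
    simpa only [Subgroup.coe_pow, Subgroup.coe_one] using h2
  · intro x hx
    have h1 : (⟨QuotientGroup.mk' (Cfsg.pCore p Y) x, hx⟩ : ↥Kb) ^ Nat.card ↥Kb = 1 :=
      pow_card_eq_one'
    have h2 := congrArg Subtype.val h1
    simp only [Subgroup.coe_pow, Subgroup.coe_one] at h2
    rw [← map_pow, QuotientGroup.mk'_apply, QuotientGroup.eq_one_iff] at h2
    exact h2
  · intro x hx y hy
    rw [← QuotientGroup.eq_one_iff, ← QuotientGroup.mk'_apply, map_mul, map_mul, map_mul, map_inv,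
      map_inv, hKcomm _ hx _ hy]
    group
  · intro x
    rw [Subgroup.mem_comap, map_pow, ← hk]
    exact Subgroup.pow_index_mem Kb _

end maxSylow

end Cfsg.Agent.Helper34
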