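import Mathlib
import Cfsg.Prelude.Def_PLocal
import Cfsg.Prelude.Def_LocalEven
import Cfsg.Agent.Lib.Cores
import Cfsg.Agent.Helper34.PNil
import Cfsg.Agent.Helper34.BabyHH
import Cfsg.Agent.Helper34.BabyHHGroup
import Cfsg.Agent.Helper34.PQSeries
import Cfsg.Agent.Helper34.FunctorBasic
import Cfsg.Prelude.Def_ConjugacyFunctors
import Cfsg.Prelude.Def_EvenType

/-!
# `p`-stability of groups with a `p` / abelian `p'` / `p` series (helper34)

* `eq_one_of_norm_trivial_of_series` : baby Hall–Higman for a group with such a series acting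
  irreducibly on a commutative group of exponent `p`.
* `commutator_le_of_engel_of_series` : the same on chief factors.
* `exists_normal_pAction_of_quadratic` : a quadratically acting element lies in a normal subgroup
  inducing a `p`-group on the normal `p`-subgroup (`p` odd).
* `isNormalizerPStable_of_hasPQSeries` : such groups are `p`-stable in the normalizer form.
-/

set_option autoImplicit false

namespace Cfsg.Agent.Helper34

universe u

open Subgroup
open scoped commutatorElement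

section engine

variable {p : ℕ} [hp : Fact p.Prime]

/-- In a finite group which is a `p`-group modulo a central subgroup, the `p`-elements are closed
under multiplication. -/
theorem exists_pow_mul_eq_one_of_central {E : Type*} [Group E] [Finite E] (R : Subgroup E)
    (hRc : R ≤ center E) {k : ℕ} (hk : ∀ x : E, x ^ p ^ k ∈ R)
    {x y : E} {a b : ℕ} (hx : x ^ p ^ a = 1) (hy : y ^ p ^ b = 1) :
    ∃ c : ℕ, (x * y) ^ p ^ c = 1 := by
  have hRn : R.Normal := by
    constructor
    intro r hr z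
    have h1 := (mem_center_iff.mp (hRc hr)) z
    have h2 : z * r * z⁻¹ = r := by rw [h1, mul_inv_cancel_right]
    rw [h2]; exact hr
  have hq : IsPGroup p (E ⧸ R) := by
    intro q
    obtain ⟨z, rfl⟩ := QuotientGroup.mk_surjective q
    refine ⟨k, ?_⟩
    rw [← QuotientGroup.mk_pow, QuotientGroup.eq_one_iff]
    exact hk z
  have hnq : Group.IsNilpotent (E ⧸ R) := hq.isNilpotent
  have hnil : Group.IsNilpotent E :=
    Subgroup.isNilpotent_of_ker_le_center (QuotientGroup.mk' R) (by rw [QuotientGroup.ker_mk']; exact hRc)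
  obtain ⟨P⟩ : Nonempty (Sylow p E) := inferInstance
  have hPn : (P : Subgroup E).Normal := inferInstance
  have hmem : ∀ (z : E) (c : ℕ), z ^ p ^ c = 1 → z ∈ (P : Subgroup E) := by
    intro z c hz
    have h1 : IsPGroup p (zpowers z) := by
      obtain ⟨i, -, hi⟩ := (Nat.dvd_prime_pow hp.1).mp (orderOf_dvd_of_pow_eq_one hz)
      apply IsPGroup.of_card (n := i)
      rw [Nat.card_zpowers, hi]
    obtain ⟨Q, hQ⟩ := h1.exists_le_sylow
    obtain ⟨w, hw⟩ := MulAction.exists_smul_eq E P Q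
    rw [Sylow.smul_eq_of_normal] at hw
    rw [hw]; exact hQ (mem_zpowers z)
  have hxy := (P : Subgroup E).mul_mem (hmem x a hx) (hmem y b hy)
  obtain ⟨c, hc⟩ := P.2 ⟨x * y, hxy⟩
  refine ⟨c, ?_⟩
  have := congrArg Subtype.val hc
  simpa only [Subgroup.coe_pow, Subgroup.coe_one] using this

/-- Baby Hall–Higman for a group with a `p` / abelian `p'` / `p` series acting on a commutative
group of exponent `p`, irreducibly in the sense that normal subgroups inducing `p`-groups act
trivially. -/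
theorem eq_one_of_norm_trivial_of_series {Y : Type u} [Group Y] [Finite Y]
    {A : Type*} [CommGroup A] (hexp : ∀ m : A, m ^ p = 1) (φ : Y →* MulAut A)
    (hser : HasPQSeries p Y)
    (hirr : ∀ D : Subgroup Y, D.Normal → (∀ d ∈ D, ∃ k : ℕ, φ d ^ p ^ k = 1) → D ≤ φ.ker)
    (g : Y) (hTr : ∀ m : A, ∏ i ∈ Finset.range p, ((φ g) ^ i) m = 1) : φ g = 1 := by
  obtain ⟨A₀, B₀, n, j, k, hAn, hBn, hAB, hn, hA, hBA, hBc, hZB⟩ := hser
  have hAker : A₀ ≤ φ.ker :=
    hirr A₀ hAn (fun d hd => ⟨j, by rw [← map_pow, hA d hd, map_one]⟩)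
  have hfin : Finite ↥(B₀.map φ) := Finite.of_surjective _ (φ.subgroupMap_surjective B₀)
  have hcomm' : ∀ x ∈ B₀, ∀ y ∈ B₀, φ x * φ y = φ y * φ x := by
    intro x hx y hy
    have h1 := MonoidHom.mem_ker.mp (hAker (hBc x hx y hy))
    rw [map_mul, map_mul, map_mul, map_inv, map_inv] at h1
    calc φ x * φ y = (φ x * φ y * (φ x)⁻¹ * (φ y)⁻¹) * (φ y * φ x) := by group
      _ = φ y * φ x := by rw [h1, one_mul]
  have hRc : ∀ x ∈ B₀.map φ, ∀ y ∈ B₀.map φ, x * y = y * x := by
    rintro _ ⟨x, hx, rfl⟩ _ ⟨y, hy, rfl⟩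
    exact hcomm' x hx y hy
  have hRn : ∀ x ∈ B₀.map φ, x ^ n = 1 := by
    rintro _ ⟨x, hx, rfl⟩
    rw [← map_pow]; exact MonoidHom.mem_ker.mp (hAker (hBA x hx))
  have hRp : (Nat.card ↥(B₀.map φ)).Coprime p := by
    rw [Nat.coprime_comm, Nat.Prime.coprime_iff_not_dvd hp.1]
    intro hdvd
    obtain ⟨x, hx⟩ := exists_prime_orderOf_dvd_card' p hdvd
    have h1 : (x : MulAut A) ^ n = 1 := hRn x x.2
    have h2 : orderOf (x : MulAut A) = p := by rw [Subgroup.orderOf_coe, hx]
    have h3 : p ∣ n := h2 ▸ orderOf_dvd_of_pow_eq_one h1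
    exact (Nat.Prime.coprime_iff_not_dvd hp.1).mp hn.symm h3
  have ha : ∀ x ∈ B₀.map φ, φ g * x * (φ g)⁻¹ ∈ B₀.map φ := by
    rintro _ ⟨x, hx, rfl⟩
    refine ⟨g * x * g⁻¹, hBn.conj_mem x hx g, ?_⟩
    rw [map_mul, map_mul, map_inv]
  have hcomm := commute_of_norm_trivial hexp _ hRc hRp (φ g) ha hTr
  -- the centralizer of the image of `B₀`
  have hEmem : ∀ e : Y, e ∈ (centralizer ((B₀.map φ : Subgroup (MulAut A)) : Set (MulAut A))).comap φ ↔
      ∀ b ∈ B₀, φ b * φ e = φ e * φ b := by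
    intro e
    rw [Subgroup.mem_comap, mem_centralizer_iff]
    constructor
    · intro h b hb
      exact h _ ⟨b, hb, rfl⟩
    · rintro h _ ⟨b, hb, rfl⟩
      exact h b hb
  have hEn : ((centralizer ((B₀.map φ : Subgroup (MulAut A)) : Set (MulAut A))).comap φ).Normal := by
    constructor
    intro e he y
    rw [hEmem] at he ⊢
    intro b hb
    have h1 := he (y⁻¹ * b * y⁻¹⁻¹) (hBn.conj_mem b hb y⁻¹)
    simp only [map_mul, map_inv, inv_inv] at h1
    rw [map_mul, map_mul, map_inv]
    calc φ b * (φ y * φ e * (φ y)⁻¹)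
        = φ y * ((φ y)⁻¹ * φ b * φ y * φ e) * (φ y)⁻¹ := by group
      _ = φ y * (φ e * ((φ y)⁻¹ * φ b * φ y)) * (φ y)⁻¹ := by rw [h1]
      _ = φ y * φ e * (φ y)⁻¹ * φ b := by group
  -- the `p`-elements of `E` form a normal subgroup
  have hclosed : ∀ e₁ ∈ (centralizer ((B₀.map φ : Subgroup (MulAut A)) : Set (MulAut A))).comap φ,
      ∀ e₂ ∈ (centralizer ((B₀.map φ : Subgroup (MulAut A)) : Set (MulAut A))).comap φ,
      ∀ a b : ℕ, φ e₁ ^ p ^ a = 1 → φ e₂ ^ p ^ b = 1 → ∃ c : ℕ, φ (e₁ * e₂) ^ p ^ c = 1 := by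
    intro e₁ he₁ e₂ he₂ a b h₁ h₂
    have hfinE : Finite ↥(((centralizer ((B₀.map φ : Subgroup (MulAut A)) : Set (MulAut A))).comap φ).map φ) :=
      Finite.of_surjective _ (φ.subgroupMap_surjective _)
    have hRcen : (B₀.map φ).subgroupOf
        (((centralizer ((B₀.map φ : Subgroup (MulAut A)) : Set (MulAut A))).comap φ).map φ) ≤
        center ↥(((centralizer ((B₀.map φ : Subgroup (MulAut A)) : Set (MulAut A))).comap φ).map φ) := by
      rintro ⟨r, hr⟩ hr'
      rw [mem_subgroupOf] at hr'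
      obtain ⟨b, hb, hbr⟩ := hr'
      rw [mem_center_iff]
      rintro ⟨z, e, he, rfl⟩
      apply Subtype.ext
      rw [Subgroup.coe_mul, Subgroup.coe_mul]
      show φ e * r = r * φ e
      have h1 := (hEmem e).mp he b hb
      change φ b = r at hbr
      rw [← hbr, h1]
    have hk' : ∀ x : ↥(((centralizer ((B₀.map φ : Subgroup (MulAut A)) : Set (MulAut A))).comap φ).map φ),
        x ^ p ^ k ∈ (B₀.map φ).subgroupOf
          (((centralizer ((B₀.map φ : Subgroup (MulAut A)) : Set (MulAut A))).comap φ).map φ) := by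
      rintro ⟨z, e, he, rfl⟩
      rw [mem_subgroupOf, Subgroup.coe_pow]
      exact ⟨e ^ p ^ k, hZB e, map_pow φ e _⟩
    have hx : (⟨φ e₁, e₁, he₁, rfl⟩ :
        ↥(((centralizer ((B₀.map φ : Subgroup (MulAut A)) : Set (MulAut A))).comap φ).map φ)) ^ p ^ a = 1 := by
      apply Subtype.ext
      rw [Subgroup.coe_pow, Subgroup.coe_one]
      exact h₁
    have hy : (⟨φ e₂, e₂, he₂, rfl⟩ :
        ↥(((centralizer ((B₀.map φ : Subgroup (MulAut A)) : Set (MulAut A))).comap φ).map φ)) ^ p ^ b = 1 := by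
      apply Subtype.ext
      rw [Subgroup.coe_pow, Subgroup.coe_one]
      exact h₂
    obtain ⟨c, hc⟩ := exists_pow_mul_eq_one_of_central _ hRcen hk' hx hy
    refine ⟨c, ?_⟩
    have h3 := congrArg Subtype.val hc
    rw [Subgroup.coe_pow, Subgroup.coe_mul, Subgroup.coe_one] at h3
    rw [map_mul]
    exact h3
  let D : Subgroup Y :=
    { carrier := {e | e ∈ (centralizer ((B₀.map φ : Subgroup (MulAut A)) : Set (MulAut A))).comap φ ∧
        ∃ m : ℕ, φ e ^ p ^ m = 1}
      one_mem' := ⟨Subgroup.one_mem _, 0, by rw [map_one, one_pow]⟩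
      mul_mem' := by
        rintro e₁ e₂ ⟨he₁, a, h₁⟩ ⟨he₂, b, h₂⟩
        exact ⟨Subgroup.mul_mem _ he₁ he₂, hclosed e₁ he₁ e₂ he₂ a b h₁ h₂⟩
      inv_mem' := by
        rintro e ⟨he, a, h₁⟩
        exact ⟨Subgroup.inv_mem _ he, a, by rw [map_inv, inv_pow, h₁, inv_one]⟩ }
  have hDn : D.Normal := by
    constructor
    rintro e ⟨he, a, h₁⟩ y
    refine ⟨hEn.conj_mem e he y, a, ?_⟩
    rw [map_mul, map_mul, map_inv, conj_pow, h₁, mul_one, mul_inv_cancel]
  have hDker : D ≤ φ.ker := hirr D hDn (fun d hd => hd.2)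
  have hgD : g ∈ D := by
    refine ⟨(hEmem g).mpr (fun b hb => (hcomm _ ⟨b, hb, rfl⟩).symm), 1, ?_⟩
    rw [pow_one]
    exact pow_eq_one_of_norm_trivial (φ g) p hTr
  exact MonoidHom.mem_ker.mp (hDker hgD)

end engine

section chief

variable {p : ℕ} [hp : Fact p.Prime]

/-- **Baby Hall–Higman on chief factors**, for groups with a `p` / abelian `p'` / `p` series: an
element acting on a chief factor `U/V` with `U` a `p`-group and `[U, g; p - 1] ≤ V` centralizes
`U/V`. -/
theorem commutator_le_of_engel_of_series {Y : Type u} [Group Y] [Finite Y]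
    (hser : HasPQSeries p Y)
    {U V : Subgroup Y} (hUV : Cfsg.IsChiefFactor U V) (hUpg : IsPGroup p U) (g : Y)
    (hE : Cfsg.iterCommutator U (zpowers g) (p - 1) ≤ V) : ⁅U, zpowers g⁆ ≤ V := by
  obtain ⟨hVU, hUn, hVn, hchief⟩ := hUV
  have hπ : Function.Surjective (QuotientGroup.mk' V) := QuotientGroup.mk'_surjective _
  have hUtn : (U.map (QuotientGroup.mk' V)).Normal := hUn.map _ hπ
  have hUtne : U.map (QuotientGroup.mk' V) ≠ ⊥ := by
    intro h0
    rw [Subgroup.map_eq_bot_iff, QuotientGroup.ker_mk'] at h0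
    exact absurd h0 (not_le_of_gt hVU)
  have hcomapU : (U.map (QuotientGroup.mk' V)).comap (QuotientGroup.mk' V) = U := by
    rw [Subgroup.comap_map_eq, QuotientGroup.ker_mk', sup_eq_left.mpr hVU.le]
  have hmin : ∀ M : Subgroup (Y ⧸ V), M.Normal → M ≤ U.map (QuotientGroup.mk' V) →
      M = ⊥ ∨ M = U.map (QuotientGroup.mk' V) := by
    intro M hMn hMU
    have h1 : V ≤ M.comap (QuotientGroup.mk' V) := by
      intro v hv
      rw [Subgroup.mem_comap, QuotientGroup.mk'_apply, (QuotientGroup.eq_one_iff v).mpr hv]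
      exact M.one_mem
    have h2 : M.comap (QuotientGroup.mk' V) ≤ U := by
      rw [← hcomapU]; exact Subgroup.comap_mono hMU
    rcases hchief _ (hMn.comap _) h1 h2 with h | h
    · left
      rw [← Subgroup.map_comap_eq_self_of_surjective hπ M, h, Subgroup.map_eq_bot_iff,
        QuotientGroup.ker_mk']
    · right
      rw [← Subgroup.map_comap_eq_self_of_surjective hπ M, h]
  have hUp : IsPGroup p ↥(U.map (QuotientGroup.mk' V)) := hUpg.map _
  -- `U/V` is commutative
  have hUUc : U.map (QuotientGroup.mk' V) ≤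
      centralizer ((U.map (QuotientGroup.mk' V) : Subgroup (Y ⧸ V)) : Set (Y ⧸ V)) := by
    apply le_centralizer_of_minimal_normal hUp hUtne hmin
    intro d hd
    obtain ⟨n, hn⟩ := hUp ⟨d, hd⟩
    have hn' : d ^ p ^ n = 1 := by
      have := congrArg Subtype.val hn
      simpa only [Subgroup.coe_pow, Subgroup.coe_one] using this
    exact ⟨n, fun x _ => by rw [hn', one_mul, mul_one]⟩
  have hUcomm : ∀ x ∈ U.map (QuotientGroup.mk' V), ∀ y ∈ U.map (QuotientGroup.mk' V),
      x * y = y * x := by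
    intro x hx y hy
    exact ((mem_centralizer_iff.mp (hUUc hx)) y hy).symm
  -- exponent `p`
  have hUexp : ∀ x ∈ U.map (QuotientGroup.mk' V), x ^ p = 1 := by
    let Ω : Subgroup (Y ⧸ V) :=
      { carrier := {x | x ∈ U.map (QuotientGroup.mk' V) ∧ x ^ p = 1}
        one_mem' := ⟨Subgroup.one_mem _, one_pow _⟩
        mul_mem' := by
          rintro x y ⟨hx, hxp⟩ ⟨hy, hyp⟩
          refine ⟨Subgroup.mul_mem _ hx hy, ?_⟩
          have hc : Commute x y := hUcomm x hx y hy
          rw [hc.mul_pow, hxp, hyp, one_mul]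
        inv_mem' := by
          rintro x ⟨hx, hxp⟩
          exact ⟨Subgroup.inv_mem _ hx, by rw [inv_pow, hxp, inv_one]⟩ }
    have hΩn : Ω.Normal := by
      constructor
      rintro x ⟨hx, hxp⟩ z
      refine ⟨hUtn.conj_mem x hx z, ?_⟩
      rw [conj_pow, hxp, mul_one, mul_inv_cancel]
    have hΩle : Ω ≤ U.map (QuotientGroup.mk' V) := fun x hx => hx.1
    have hΩne : Ω ≠ ⊥ := by
      have hdvd : p ∣ Nat.card ↥(U.map (QuotientGroup.mk' V)) := by
        obtain ⟨n, hn⟩ := hUp.exists_card_eq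
        rcases Nat.eq_zero_or_pos n with h0 | h0
        · exfalso
          apply hUtne
          rw [h0, pow_zero] at hn
          exact Subgroup.card_eq_one.mp hn
        · rw [hn]
          exact dvd_pow_self p h0.ne'
      obtain ⟨x, hx⟩ := exists_prime_orderOf_dvd_card' p hdvd
      intro h0
      have hxΩ : (x : Y ⧸ V) ∈ Ω := by
        refine ⟨x.2, ?_⟩
        have h1 : x ^ p = 1 := by rw [← hx]; exact pow_orderOf_eq_one x
        have h2 := congrArg Subtype.val h1
        simpa only [Subgroup.coe_pow, Subgroup.coe_one] using h2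
      rw [h0, Subgroup.mem_bot] at hxΩ
      have hx1 : x = 1 := Subtype.ext hxΩ
      rw [hx1, orderOf_one] at hx
      exact hp.1.one_lt.ne hx
    rcases hmin Ω hΩn hΩle with h | h
    · exact absurd h hΩne
    · intro x hx
      rw [← h] at hx
      exact hx.2
  -- the commutative group structure on `U/V` and the action of `Y`
  let _ : CommGroup ↥(U.map (QuotientGroup.mk' V)) :=
    { (inferInstance : Group ↥(U.map (QuotientGroup.mk' V))) with
      mul_comm := fun x y => Subtype.ext (hUcomm x x.2 y y.2) }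
  have hexp : ∀ m : ↥(U.map (QuotientGroup.mk' V)), m ^ p = 1 := by
    intro m
    apply Subtype.ext
    rw [Subgroup.coe_pow, Subgroup.coe_one]
    exact hUexp m m.2
  let φ : Y →* MulAut ↥(U.map (QuotientGroup.mk' V)) :=
    (MulAut.conjNormal (H := U.map (QuotientGroup.mk' V))).comp (QuotientGroup.mk' V)
  have hφ : ∀ (y : Y) (m : ↥(U.map (QuotientGroup.mk' V))),
      ((φ y m : ↥(U.map (QuotientGroup.mk' V))) : Y ⧸ V) =
        QuotientGroup.mk' V y * m * (QuotientGroup.mk' V y)⁻¹ := by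
    intro y m
    exact MulAut.conjNormal_apply _ _
  have hφone : ∀ y : Y, (∀ m ∈ U.map (QuotientGroup.mk' V),
      QuotientGroup.mk' V y * m = m * QuotientGroup.mk' V y) → φ y = 1 := by
    intro y hy
    ext m
    rw [hφ, MulAut.one_apply, hy m m.2]
    group
  have hirr : ∀ D : Subgroup Y, D.Normal → (∀ d ∈ D, ∃ k : ℕ, φ d ^ p ^ k = 1) → D ≤ φ.ker := by
    intro D hDn hall
    have hDtn : (D.map (QuotientGroup.mk' V)).Normal := hDn.map _ hπ
    have h1 : U.map (QuotientGroup.mk' V) ≤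
        centralizer ((D.map (QuotientGroup.mk' V) : Subgroup (Y ⧸ V)) : Set (Y ⧸ V)) := by
      apply le_centralizer_of_minimal_normal hUp hUtne hmin
      rintro _ ⟨y, hy, rfl⟩
      obtain ⟨k, hk⟩ := hall y hy
      refine ⟨k, fun x hx => ?_⟩
      have h2 : φ (y ^ p ^ k) = 1 := by rw [map_pow, hk]
      have h3 := congrArg (fun f : MulAut ↥(U.map (QuotientGroup.mk' V)) =>
        ((f ⟨x, hx⟩ : ↥(U.map (QuotientGroup.mk' V))) : Y ⧸ V)) h2
      simp only [MulAut.one_apply] at h3
      rw [hφ, map_pow] at h3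
      exact mul_inv_eq_iff_eq_mul.mp h3
    intro d hd
    rw [MonoidHom.mem_ker]
    apply hφone
    intro m hm
    exact (mem_centralizer_iff.mp (h1 hm)) _ (Subgroup.mem_map_of_mem _ hd)
  -- the Engel condition
  have hiter : ∀ (k : ℕ) (m : ↥(U.map (QuotientGroup.mk' V))),
      (((fun x : ↥(U.map (QuotientGroup.mk' V)) => φ g x * x⁻¹)^[k] m :
        ↥(U.map (QuotientGroup.mk' V))) : Y ⧸ V) ∈
        (Cfsg.iterCommutator U (zpowers g) k).map (QuotientGroup.mk' V) := by
    intro k
    induction k with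
    | zero => intro m; exact m.2
    | succ k ih =>
      intro m
      rw [Function.iterate_succ_apply']
      obtain ⟨y, hy, hym⟩ := ih m
      refine ⟨⁅g, y⁆, ?_, ?_⟩
      · show ⁅g, y⁆ ∈ ⁅Cfsg.iterCommutator U (zpowers g) k, zpowers g⁆
        rw [Subgroup.commutator_comm]
        exact Subgroup.commutator_mem_commutator (Subgroup.mem_zpowers g) hy
      · rw [Subgroup.coe_mul, Subgroup.coe_inv, hφ, ← hym, commutatorElement_def, map_mul,
          map_mul, map_mul, map_inv, map_inv]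
  have hE' : ∀ m : ↥(U.map (QuotientGroup.mk' V)),
      (fun x : ↥(U.map (QuotientGroup.mk' V)) => φ g x * x⁻¹)^[p - 1] m = 1 := by
    intro m
    have h1 := hiter (p - 1) m
    have h2 : (Cfsg.iterCommutator U (zpowers g) (p - 1)).map (QuotientGroup.mk' V) = ⊥ := by
      rw [Subgroup.map_eq_bot_iff, QuotientGroup.ker_mk']
      exact hE
    rw [h2, Subgroup.mem_bot] at h1
    exact Subtype.ext h1
  have hTr := norm_trivial_of_engel hexp (φ g) hE'
  have hone := eq_one_of_norm_trivial_of_series hexp φ hser hirr g hTr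
  -- conclusion
  rw [Subgroup.commutator_le]
  intro u hu z hz
  obtain ⟨n, rfl⟩ := Subgroup.mem_zpowers_iff.mp hz
  have h1 : φ (g ^ n) = 1 := by rw [map_zpow, hone, one_zpow]
  have h2 := congrArg (fun f : MulAut ↥(U.map (QuotientGroup.mk' V)) =>
    ((f ⟨QuotientGroup.mk' V u, Subgroup.mem_map_of_mem _ hu⟩ :
      ↥(U.map (QuotientGroup.mk' V))) : Y ⧸ V)) h1
  simp only [MulAut.one_apply] at h2
  rw [hφ] at h2
  rw [← QuotientGroup.eq_one_iff, commutatorElement_def]
  have h3 : QuotientGroup.mk' V (g ^ n) * QuotientGroup.mk' V u =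
      QuotientGroup.mk' V u * QuotientGroup.mk' V (g ^ n) := mul_inv_eq_iff_eq_mul.mp h2
  show QuotientGroup.mk' V (u * g ^ n * u⁻¹ * (g ^ n)⁻¹) = 1
  rw [map_mul, map_mul, map_mul, map_inv, map_inv, ← h3]
  group

end chief

section stable

variable {p : ℕ} [hp : Fact p.Prime]

omit hp in
theorem iterCommutator_eq_bot_of_two {L : Type*} [Group L] (N Z : Subgroup L)
    (h : ⁅⁅N, Z⁆, Z⁆ = ⊥) : ∀ k : ℕ, 2 ≤ k → Cfsg.iterCommutator N Z k = ⊥ := by
  intro k hk
  induction k, hk using Nat.le_induction with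
  | base => exact h
  | succ k hk ih =>
    show ⁅Cfsg.iterCommutator N Z k, Z⁆ = ⊥
    rw [ih]
    exact Subgroup.commutator_bot_left Z

omit hp in
theorem conj_pow_eq_of_commute {L : Type*} [Group L] (e x : L)
    (h : e * (x⁻¹ * (e * x * e⁻¹)) = (x⁻¹ * (e * x * e⁻¹)) * e) (n : ℕ) :
    e ^ n * x * (e ^ n)⁻¹ = x * (x⁻¹ * (e * x * e⁻¹)) ^ n := by
  generalize hc : x⁻¹ * (e * x * e⁻¹) = c at h
  have hx : e * x * e⁻¹ = x * c := by rw [← hc, mul_inv_cancel_left]
  have hcomm : Commute e c := h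
  induction n with
  | zero => simp
  | succ n ihn =>
    have h2 : e * c ^ n * e⁻¹ = c ^ n := by
      rw [(hcomm.pow_right n).eq, mul_inv_cancel_right]
    calc e ^ (n + 1) * x * (e ^ (n + 1))⁻¹
        = e * (e ^ n * x * (e ^ n)⁻¹) * e⁻¹ := by rw [pow_succ']; group
      _ = e * (x * c ^ n) * e⁻¹ := by rw [ihn]
      _ = (e * x * e⁻¹) * (e * c ^ n * e⁻¹) := by group
      _ = x * c ^ (n + 1) := by rw [h2, hx, pow_succ', mul_assoc]

/-- In a group with a `p` / abelian `p'` / `p` series, `p` odd, an element acting quadratically on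
a normal `p`-subgroup `P` lies in a normal subgroup inducing a `p`-group on `P`. -/
theorem exists_normal_pAction_of_quadratic (hp2 : p ≠ 2) {N : Type u} [Group N] [Finite N]
    (hser : HasPQSeries p N) (g : N) :
    ∀ (c : ℕ) (P : Subgroup N), Nat.card P ≤ c → P.Normal → IsPGroup p P →
      ⁅⁅P, zpowers g⁆, zpowers g⁆ = ⊥ →
      ∃ D : Subgroup N, D.Normal ∧ g ∈ D ∧
        ∀ d ∈ D, ∃ m : ℕ, d ^ p ^ m ∈ centralizer (P : Set N) := by
  intro c
  induction c with
  | zero =>
    intro P hc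
    have := Nat.card_pos (α := P)
    omega
  | succ c ih =>
    intro P hc hPn hPp hquad
    by_cases hP : P = ⊥
    · refine ⟨⊤, inferInstance, mem_top g, fun d _ => ⟨0, ?_⟩⟩
      rw [hP, mem_centralizer_iff]
      intro h hh
      rw [SetLike.mem_coe, Subgroup.mem_bot] at hh
      rw [hh, one_mul, mul_one]
    · obtain ⟨V, -, hVmax⟩ := Finite.exists_le_maximal
        (p := fun V : Subgroup N => V.Normal ∧ V < P) (a := ⊥)
        ⟨inferInstance, bot_lt_iff_ne_bot.mpr hP⟩
      obtain ⟨⟨hVn, hVP⟩, hmax⟩ := hVmax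
      have hcardV : Nat.card V ≤ c := by
        by_contra hlt
        push Not at hlt
        have h1 : Nat.card P ≤ Nat.card V := by omega
        have h2 := Subgroup.eq_of_le_of_card_ge hVP.le h1
        exact hVP.ne h2
      have hVp : IsPGroup p V := hPp.to_le hVP.le
      have hquadV : ⁅⁅V, zpowers g⁆, zpowers g⁆ = ⊥ := by
        rw [eq_bot_iff, ← hquad]
        exact Subgroup.commutator_mono (Subgroup.commutator_mono hVP.le le_rfl) le_rfl
      obtain ⟨DV, hDVn, hgDV, hDV⟩ := ih V hcardV hVn hVp hquadV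
      have hchief : Cfsg.IsChiefFactor P V := by
        refine ⟨hVP, hPn, hVn, ?_⟩
        intro M hMn hVM hMP
        by_cases hMP' : M = P
        · exact Or.inr hMP'
        · left
          have h1 : M ≤ V := hmax ⟨hMn, lt_of_le_of_ne hMP hMP'⟩ hVM
          exact le_antisymm h1 hVM
      have hp3 : 2 ≤ p - 1 := by
        have := hp.1.two_le
        omega
      have hE : Cfsg.iterCommutator P (zpowers g) (p - 1) ≤ V := by
        rw [iterCommutator_eq_bot_of_two P (zpowers g) hquad (p - 1) hp3]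
        exact bot_le
      have hPgV : ⁅P, zpowers g⁆ ≤ V := commutator_le_of_engel_of_series hser hchief hPp g hE
      have hπ : Function.Surjective (QuotientGroup.mk' V) := QuotientGroup.mk'_surjective _
      have hPtn : (P.map (QuotientGroup.mk' V)).Normal := hPn.map _ hπ
      have hC1n : (Cfsg.sectionKernel P V).Normal := by
        unfold Cfsg.sectionKernel
        infer_instance
      have hC1mem : ∀ e : N, e ∈ Cfsg.sectionKernel P V ↔
          ∀ x ∈ P, QuotientGroup.mk' V x * QuotientGroup.mk' V e =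
            QuotientGroup.mk' V e * QuotientGroup.mk' V x := by
        intro e
        unfold Cfsg.sectionKernel
        rw [Subgroup.mem_comap, mem_centralizer_iff]
        constructor
        · intro h x hx
          exact h _ (Subgroup.mem_map_of_mem _ hx)
        · rintro h _ ⟨x, hx, rfl⟩
          exact h x hx
      have hgC1 : g ∈ Cfsg.sectionKernel P V := by
        rw [hC1mem]
        intro x hx
        have h1 : ⁅x, g⁆ ∈ V := hPgV (Subgroup.commutator_mem_commutator hx (mem_zpowers g))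
        rw [commutatorElement_def, ← QuotientGroup.eq_one_iff, ← QuotientGroup.mk'_apply,
          map_mul, map_mul, map_mul, map_inv, map_inv] at h1
        calc QuotientGroup.mk' V x * QuotientGroup.mk' V g
            = (QuotientGroup.mk' V x * QuotientGroup.mk' V g * (QuotientGroup.mk' V x)⁻¹ *
              (QuotientGroup.mk' V g)⁻¹) * (QuotientGroup.mk' V g * QuotientGroup.mk' V x) := by
              group
          _ = QuotientGroup.mk' V g * QuotientGroup.mk' V x := by rw [h1, one_mul]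
      obtain ⟨j, hj⟩ := hVp.exists_card_eq
      refine ⟨DV ⊓ Cfsg.sectionKernel P V, inferInstance, Subgroup.mem_inf.mpr ⟨hgDV, hgC1⟩, ?_⟩
      intro d hd
      obtain ⟨hd1, hd2⟩ := Subgroup.mem_inf.mp hd
      obtain ⟨m, hm⟩ := hDV d hd1
      have heC1 : d ^ p ^ m ∈ Cfsg.sectionKernel P V := Subgroup.pow_mem _ hd2 _
      refine ⟨m + j, ?_⟩
      rw [mem_centralizer_iff]
      intro x hx
      -- `e x e⁻¹ = x c` with `c ∈ V`
      have hcV : x⁻¹ * (d ^ p ^ m * x * (d ^ p ^ m)⁻¹) ∈ V := by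
        rw [← QuotientGroup.eq_one_iff, ← QuotientGroup.mk'_apply, map_mul, map_mul, map_mul,
          map_inv, map_inv, ← (hC1mem _).mp heC1 x hx]
        group
      have hec : d ^ p ^ m * (x⁻¹ * (d ^ p ^ m * x * (d ^ p ^ m)⁻¹)) =
          (x⁻¹ * (d ^ p ^ m * x * (d ^ p ^ m)⁻¹)) * d ^ p ^ m :=
        ((mem_centralizer_iff.mp hm) _ hcV).symm
      have hpow : ∀ n : ℕ, (d ^ p ^ m) ^ n * x * ((d ^ p ^ m) ^ n)⁻¹ =
          x * (x⁻¹ * (d ^ p ^ m * x * (d ^ p ^ m)⁻¹)) ^ n :=
        conj_pow_eq_of_commute (d ^ p ^ m) x hec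
      have hc1 : (x⁻¹ * (d ^ p ^ m * x * (d ^ p ^ m)⁻¹)) ^ p ^ j = 1 := by
        have h6 : (⟨_, hcV⟩ : ↥V) ^ Nat.card ↥V = 1 := pow_card_eq_one'
        rw [hj] at h6
        have h7 := congrArg Subtype.val h6
        simpa only [Subgroup.coe_pow, Subgroup.coe_one] using h7
      have h8 := hpow (p ^ j)
      rw [hc1, mul_one, ← pow_mul, ← pow_add] at h8
      exact (mul_inv_eq_iff_eq_mul.mp h8).symm

/-- Groups with a `p` / abelian `p'` / `p` series, `p` odd, are `p`-stable in the normalizer form. -/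
theorem isNormalizerPStable_of_hasPQSeries (hp2 : p ≠ 2) {Z : Type u} [Group Z] [Finite Z]
    (hser : HasPQSeries p Z) : Cfsg.IsNormalizerPStable p Z := by
  intro P hPp g hg hquad
  have hinj : Function.Injective (normalizer (P : Set Z)).subtype := Subgroup.subtype_injective _
  have hPle : P ≤ normalizer (P : Set Z) := le_normalizer
  have hPn : (P.subgroupOf (normalizer (P : Set Z))).Normal := inferInstance
  have hPp' : IsPGroup p ↥(P.subgroupOf (normalizer (P : Set Z))) :=
    hPp.comap_of_injective _ (Subgroup.subtype_injective _)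
  have hquad' : ⁅⁅P.subgroupOf (normalizer (P : Set Z)),
      zpowers (⟨g, hg⟩ : ↥(normalizer (P : Set Z)))⁆,
      zpowers (⟨g, hg⟩ : ↥(normalizer (P : Set Z)))⁆ = ⊥ := by
    apply (Subgroup.map_eq_bot_iff_of_injective _ hinj).mp
    rw [Subgroup.map_commutator, Subgroup.map_commutator, Subgroup.subgroupOf_map_subtype,
      MonoidHom.map_zpowers, inf_eq_left.mpr hPle]
    exact hquad
  obtain ⟨D, hDn, hgD, hD⟩ := exists_normal_pAction_of_quadratic hp2
    (hser.subgroup (normalizer (P : Set Z))) ⟨g, hg⟩ _ _ le_rfl hPn hPp' hquad'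
  have hπ : Function.Surjective (QuotientGroup.mk'
      ((centralizer (P : Set Z)).subgroupOf (normalizer (P : Set Z)))) :=
    QuotientGroup.mk'_surjective _
  have hDbn : (D.map (QuotientGroup.mk'
      ((centralizer (P : Set Z)).subgroupOf (normalizer (P : Set Z))))).Normal := hDn.map _ hπ
  have hDbp : IsPGroup p ↥(D.map (QuotientGroup.mk'
      ((centralizer (P : Set Z)).subgroupOf (normalizer (P : Set Z))))) := by
    rintro ⟨_, d, hd, rfl⟩
    obtain ⟨m, hm⟩ := hD d hd
    refine ⟨m, ?_⟩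
    apply Subtype.ext
    rw [Subgroup.coe_pow, Subgroup.coe_one, ← map_pow, QuotientGroup.mk'_apply,
      QuotientGroup.eq_one_iff, mem_subgroupOf, mem_centralizer_iff]
    intro x hx
    have h1 := (mem_centralizer_iff.mp hm) ⟨x, hPle hx⟩ (by
      rw [SetLike.mem_coe, mem_subgroupOf]; exact hx)
    have h2 := congrArg Subtype.val h1
    simpa only [Subgroup.coe_mul] using h2
  exact Lib.le_pCore hDbn hDbp ⟨⟨g, hg⟩, hgD, rfl⟩

end stable

section fusion

variable {p : ℕ} [hp : Fact p.Prime]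

omit hp in
/-- If `C_Y(O_p(Y)) ≤ O_p(Y)` and the characteristic subgroup `W(T)` of the Sylow `p`-subgroup `T`
controls strong fusion in `Y`, then `W(T)` is normal in `Y`. -/
theorem inducedFunctor_normal_of_controlsStrongFusion
    {W : ∀ (Q : Type u) [Group Q], Subgroup Q} (hW : Cfsg.IsCharPFunctor.{u} p W)
    {Y : Type u} [Group Y] [Finite Y]
    (hC : centralizer ((Cfsg.pCore p Y : Subgroup Y) : Set Y) ≤ Cfsg.pCore p Y) (T : Sylow p Y)
    (hctl : Cfsg.ControlsStrongFusion p (Cfsg.inducedFunctor (G := Y) W (T : Subgroup Y))) :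
    (Cfsg.inducedFunctor (G := Y) W (T : Subgroup Y)).Normal := by
  obtain ⟨T', -, hall⟩ := hctl
  obtain ⟨-, hfus⟩ := hall ((Cfsg.pCore p Y : Subgroup Y) : Set Y) (Lib.pCore_le_sylow T')
  have hQn : (Cfsg.pCore p Y).Normal := Cfsg.pCore_normal p Y
  have hTN : (T : Subgroup Y) ≤
      normalizer ((Cfsg.inducedFunctor (G := Y) W (T : Subgroup Y) : Subgroup Y) : Set Y) :=
    le_normalizer.trans (normalizer_le_normalizer_inducedFunctor hW (T : Subgroup Y) T.2)
  rw [← Subgroup.normalizer_eq_top_iff, eq_top_iff]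
  intro g _
  have himg : (fun a => g * a * g⁻¹) '' ((Cfsg.pCore p Y : Subgroup Y) : Set Y) ⊆
      ((T' : Subgroup Y) : Set Y) := by
    rintro _ ⟨a, ha, rfl⟩
    exact Lib.pCore_le_sylow T' (hQn.conj_mem a ha g)
  obtain ⟨x, hx, hxa⟩ := hfus g himg
  have hcen : x⁻¹ * g ∈ centralizer ((Cfsg.pCore p Y : Subgroup Y) : Set Y) := by
    rw [mem_centralizer_iff]
    intro a ha
    have h1 := hxa a ha
    have h2 : x⁻¹ * (g * a * g⁻¹) * x = a := by rw [h1]; group
    calc a * (x⁻¹ * g) = (x⁻¹ * (g * a * g⁻¹) * x) * (x⁻¹ * g) := by rw [h2]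
      _ = x⁻¹ * g * a := by group
  have h3 : x⁻¹ * g ∈ normalizer
      ((Cfsg.inducedFunctor (G := Y) W (T : Subgroup Y) : Subgroup Y) : Set Y) :=
    hTN (Lib.pCore_le_sylow T (hC hcen))
  have h4 := Subgroup.mul_mem _ hx h3
  rwa [mul_inv_cancel_left] at h4

end fusion

end Cfsg.Agent.Helper34
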