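import Cfsg.Agent.Helper31.PronAL.Defs
import Cfsg.Agent.Helper14.AutSylow

/-!
Piece (LT) `RR_of_lt` of helper31's farm PRONAL #15201 (S2225 block AL).
-/

set_option autoImplicit false

namespace Cfsg.Agent.Helper34.Pron

open Matrix Cfsg.Agent.Helper42.DZ Cfsg.Agent.Helper84.PSLn Cfsg.Agent.Helper31.Pron

variable {n : ℕ} {F : Type*} [Field F]

/-- (LT) positive root subgroups lie in `US` -/
theorem RR_of_lt {X : Subgroup (SLn n F)} (hX : US n F ≤ X) {a b : Fin n} (hab : a < b) :
    RR X a b := by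
  refine ⟨hab.ne, fun c => hX (Cfsg.Agent.Helper14.AutPSL.mem_UT.mpr ?_)⟩
  intro i j hji
  rw [Matrix.SpecialLinearGroup.transvection_coe, Matrix.add_apply, Matrix.one_apply]
  have h0 : Matrix.single a b c i j = 0 := by
    rw [Matrix.single_apply]
    rw [if_neg]
    rintro ⟨rfl, rfl⟩
    exact absurd hab (not_lt.2 hji)
  rw [h0, add_zero]

end Cfsg.Agent.Helper34.Pron
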