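import Mathlib
import Cfsg.Agent.Helper45.PronBL3.Defs

/-!
# helper34: leaf (E) of helper45's block BL3 (S2225/S2226)
-/

set_option autoImplicit false

namespace Cfsg.Agent.Helper34.Pron

open Matrix Cfsg.Agent.Helper99.Pron Cfsg.Agent.Helper45.Pron

variable {F : Type*} [Field F]

/-- (E) an element of `Csub` of norm `-1`. -/
theorem exists_mem_Csub_det_neg_one [Fintype F] :
    ∃ g : GL (Fin 2) F, g ∈ (Csub : Subgroup (GL (Fin 2) F)) ∧
      (g : Matrix (Fin 2) (Fin 2) F).det = -1 := by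
  classical
  have : CharP F (ringChar F) := ringChar.charP F
  have : NeZero (ringChar F) := ⟨CharP.char_ne_zero_of_finite F (ringChar F)⟩
  obtain ⟨a, b, hab⟩ := CharP.sq_add_sq F (ringChar F) (-1)
  have hab' : ((a : F)) ^ 2 + ((b : F)) ^ 2 = -1 := by
    rw [hab]
    push_cast
    rfl
  have hdet : (eM (a : F) (b : F)).det = -1 := by rw [det_eM, hab']
  have hne : (eM (a : F) (b : F)).det ≠ 0 := by
    rw [hdet]
    exact neg_ne_zero.mpr one_ne_zero
  set g : GL (Fin 2) F := Matrix.GeneralLinearGroup.mkOfDetNeZero (eM (a : F) (b : F)) hne with hg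
  have hgv : (g : Matrix (Fin 2) (Fin 2) F) = eM (a : F) (b : F) := rfl
  have hgE : g ∈ (Esub : Subgroup (GL (Fin 2) F)) := ⟨_, _, hgv⟩
  have hfin : IsOfFinOrder g := isOfFinOrder_of_finite g
  have hn : orderOf g ≠ 0 := (orderOf_pos_iff.mpr hfin).ne'
  obtain ⟨k, m, hm, hkm⟩ := Nat.exists_eq_two_pow_mul_odd hn
  refine ⟨g ^ m, ⟨Subgroup.pow_mem _ hgE m, k, ?_⟩, ?_⟩
  · rw [← pow_mul, mul_comm, ← hkm, pow_orderOf_eq_one]
  · rw [Units.val_pow_eq_pow_val, Matrix.det_pow, hgv, hdet, hm.neg_one_pow]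

end Cfsg.Agent.Helper34.Pron
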