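import Mathlib
import Cfsg.Agent.Helper45.PronBL3.Defs

/-!
# helper34: leaf (G) of helper45's block BL3 (S2225/S2226)
-/

set_option autoImplicit false

namespace Cfsg.Agent.Helper34.Pron

open Matrix Cfsg.Agent.Helper99.Pron Cfsg.Agent.Helper45.Pron

variable {F : Type*} [Field F]

/-- (G) the element of order `8`. -/
theorem exists_c0 (h2 : (2 : F) ≠ 0) (w : F) (hw : w * w = 2 ∨ w * w = -2) :
    ∃ (u : F) (c : GL (Fin 2) F), u ≠ 0 ∧ (c : Matrix (Fin 2) (Fin 2) F) = eM u u ∧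
      c ∈ (Csub : Subgroup (GL (Fin 2) F)) ∧ c ^ 4 ≠ 1 := by
  have hw0 : w ≠ 0 := by
    rintro rfl
    rcases hw with h | h
    · rw [mul_zero] at h
      exact h2 h.symm
    · rw [mul_zero] at h
      exact h2 (neg_eq_zero.mp h.symm)
  have hu : w⁻¹ ≠ 0 := inv_ne_zero hw0
  have hinv : w⁻¹ * w⁻¹ = (w * w)⁻¹ := by rw [mul_inv]
  have hss : (2 * (w⁻¹ * w⁻¹)) * (2 * (w⁻¹ * w⁻¹)) = 1 := by
    rw [hinv]
    rcases hw with h | h
    · rw [h, mul_inv_cancel₀ h2, one_mul]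
    · rw [h]
      have h2' : (-2 : F) ≠ 0 := neg_ne_zero.mpr h2
      field_simp
  have hs0 : (2 * (w⁻¹ * w⁻¹)) ≠ 0 := by
    intro h
    rw [h, mul_zero] at hss
    exact zero_ne_one hss
  have hne : (eM w⁻¹ w⁻¹).det ≠ 0 := by
    rw [det_eM]
    intro h
    apply hs0
    rw [← h]
    ring
  set c : GL (Fin 2) F := Matrix.GeneralLinearGroup.mkOfDetNeZero (eM w⁻¹ w⁻¹) hne with hc
  have hcv : (c : Matrix (Fin 2) (Fin 2) F) = eM w⁻¹ w⁻¹ := rfl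
  have hc2 : (c : Matrix (Fin 2) (Fin 2) F) * (c : Matrix (Fin 2) (Fin 2) F)
      = eM 0 (2 * (w⁻¹ * w⁻¹)) := by
    rw [hcv, eM_mul]
    congr 1 <;> ring
  have hc4 : ((c ^ 4 : GL (Fin 2) F) : Matrix (Fin 2) (Fin 2) F) = -1 := by
    rw [Units.val_pow_eq_pow_val, show (4 : ℕ) = 2 + 2 from rfl, pow_add, pow_two, hc2, eM_mul,
      neg_one_eq_eM]
    congr 1
    · rw [zero_mul, zero_sub, hss]
    · ring
  have hc8 : c ^ (2 ^ 3) = 1 := by
    apply Units.ext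
    rw [show (2 ^ 3 : ℕ) = 4 * 2 from rfl, pow_mul, Units.val_pow_eq_pow_val, hc4]
    simp
  refine ⟨w⁻¹, c, hu, hcv, ⟨⟨_, _, hcv⟩, 3, hc8⟩, ?_⟩
  intro h
  have h1 : ((c ^ 4 : GL (Fin 2) F) : Matrix (Fin 2) (Fin 2) F) = 1 := by rw [h]; rfl
  rw [hc4] at h1
  have h00 := congrFun (congrFun h1 0) 0
  simp at h00
  exact h2 (by linear_combination -h00)

end Cfsg.Agent.Helper34.Pron
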