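import Mathlib

/-!
# helper34: leaf (A4) of helper95's PRON block C2 (S2225/S2226)
-/

set_option autoImplicit false

namespace Cfsg.Agent.Helper34.PronC2

variable {G : Type*} [Group G] [Finite G]

omit [Finite G] in
/-- an element of odd order which is a power of `g` is a power of `g ^ 2` -/
theorem A4_mem_zpowers_sq {g x : G} (n : ℕ) (hx : x = g ^ n) (hodd : Odd (orderOf x)) :
    x ∈ Subgroup.zpowers (g ^ 2) := by
  obtain ⟨t, ht⟩ := hodd
  have h1 : x ^ (2 * t + 1) = 1 := by rw [← ht]; exact pow_orderOf_eq_one x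
  have h2 : x = (g ^ 2) ^ (n * (t + 1)) := by
    calc x = x ^ (2 * t + 1) * x := by rw [h1, one_mul]
      _ = x ^ (2 * t + 2) := by rw [← pow_succ]
      _ = (g ^ n) ^ (2 * t + 2) := by rw [hx]
      _ = (g ^ 2) ^ (n * (t + 1)) := by
          rw [← pow_mul, ← pow_mul]
          congr 1
          ring
  rw [h2]
  exact Subgroup.pow_mem _ (Subgroup.mem_zpowers _) _

/-- (A4) the odd part of a dihedral subgroup of order `4 m`, `m` odd. -/
theorem odd_part_of_dihedral (K : Subgroup G) (k : ℕ) (e : K ≃* DihedralGroup k)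
    (h4 : 4 ∣ Nat.card K) (h8 : ¬ 8 ∣ Nat.card K) :
    ∃ Y : Subgroup G, Y ≤ K ∧ IsCyclic Y ∧ Nat.card K = 4 * Nat.card Y ∧
      ∀ x ∈ K, (Odd (orderOf x) ↔ x ∈ Y) := by
  have hcardK : Nat.card K = 2 * k := by
    rw [Nat.card_congr e.toEquiv, DihedralGroup.nat_card]
  rw [hcardK] at h4 h8
  obtain ⟨m, hm⟩ : ∃ m, k = 2 * m := by
    obtain ⟨a, ha⟩ := h4
    exact ⟨a, by omega⟩
  have hmodd : Odd m := by
    rw [← Nat.not_even_iff_odd]
    rintro ⟨b, hb⟩
    apply h8
    exact ⟨b, by omega⟩
  have hk0 : k ≠ 0 := by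
    rintro rfl
    exact h8 (by norm_num)
  have : NeZero k := ⟨hk0⟩
  have hm0 : m ≠ 0 := by
    rintro rfl
    exact hk0 (by omega)
  -- the generator of the rotations, in `G`
  set g₀ : K := e.symm (DihedralGroup.r 1) with hg₀
  set g₁ : G := (g₀ : G) with hg₁
  have hg₁K : g₁ ∈ K := g₀.2
  have hord₁ : orderOf g₁ = k := by
    rw [hg₁, Subgroup.orderOf_coe, hg₀, MulEquiv.orderOf_eq, DihedralGroup.orderOf_r_one]
  have hord₂ : orderOf (g₁ ^ 2) = m := by
    rw [orderOf_pow' _ (by norm_num), hord₁, hm]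
    have : Nat.gcd (2 * m) 2 = 2 := by
      rw [Nat.gcd_comm]
      exact Nat.gcd_eq_left ⟨m, rfl⟩
    rw [this]
    omega
  refine ⟨Subgroup.zpowers (g₁ ^ 2), ?_, inferInstance, ?_, ?_⟩
  · rw [Subgroup.zpowers_le]
    exact K.pow_mem hg₁K 2
  · rw [hcardK, Nat.card_zpowers, hord₂, hm]
    ring
  · intro x hx
    constructor
    · intro hodd
      -- the image in the dihedral group
      have hox : orderOf (e ⟨x, hx⟩) = orderOf x := by
        rw [MulEquiv.orderOf_eq, Subgroup.orderOf_mk]
      rcases hd : e ⟨x, hx⟩ with i | i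
      · -- a rotation
        have hri : (DihedralGroup.r i : DihedralGroup k) = DihedralGroup.r 1 ^ i.val := by
          rw [DihedralGroup.r_one_pow, ZMod.natCast_zmod_val]
        have hx' : (⟨x, hx⟩ : K) = g₀ ^ i.val := by
          rw [hg₀, ← map_pow, ← hri, ← hd, MulEquiv.symm_apply_apply]
        have hx'' : x = g₁ ^ i.val := by
          have := congrArg Subtype.val hx'
          simpa using this
        exact A4_mem_zpowers_sq i.val hx'' hodd
      · -- a reflection has order two
        exfalso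
        rw [hd, DihedralGroup.orderOf_sr] at hox
        rw [← hox] at hodd
        exact absurd hodd (by decide)
    · intro hxY
      have hdvd : orderOf x ∣ m := by
        rw [← hord₂]
        exact orderOf_dvd_of_mem_zpowers hxY
      exact Odd.of_dvd_nat hmodd hdvd

end Cfsg.Agent.Helper34.PronC2
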