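import Mathlib

/-!
# helper34: leaf (A5b) of helper95's PRON block C2 (S2225/S2226)
-/

set_option autoImplicit false

namespace Cfsg.Agent.Helper34.PronC2

variable {G : Type*} [Group G] [Finite G]

/-- (A5b) `S ⊓ Y = ⊥` (orders divide 4 resp. are odd), so `(s, y) ↦ s * y : S × Y → K` is injective, hence
bijective (`card K = 4 * card Y`). Write `h = s * y`; then `y = s⁻¹ * h ∈ H`. -/
theorem exists_mul_of_odd_part (S H K Y : Subgroup G) (hS4 : Nat.card S = 4) (hSH : S ≤ H) (hHK : H ≤ K)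
    (hYK : Y ≤ K) (hcard : Nat.card K = 4 * Nat.card Y) (hY : ∀ x ∈ K, (Odd (orderOf x) ↔ x ∈ Y))
    (h : G) (hh : h ∈ H) : ∃ s ∈ S, ∃ x ∈ H ⊓ Y, h = s * x := by
  have hSK : S ≤ K := hSH.trans hHK
  -- `S ⊓ Y = ⊥`
  have hinf : ∀ x : G, x ∈ S → x ∈ Y → x = 1 := by
    intro x hxS hxY
    have hodd : Odd (orderOf x) := (hY x (hSK hxS)).mpr hxY
    have hdvd : orderOf x ∣ 4 := by
      have h1 : orderOf (⟨x, hxS⟩ : S) ∣ Nat.card S := orderOf_dvd_natCard _
      rw [hS4] at h1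
      have h2 : orderOf (⟨x, hxS⟩ : S) = orderOf x := Subgroup.orderOf_mk x hxS
      rwa [h2] at h1
    have h1 : orderOf x = 1 := by
      have hle : orderOf x ≤ 4 := Nat.le_of_dvd (by norm_num) hdvd
      obtain ⟨t, ht⟩ := hodd
      interval_cases hx : orderOf x <;> omega
    exact orderOf_eq_one_iff.mp h1
  let f : S × Y → K := fun p => ⟨(p.1 : G) * (p.2 : G), K.mul_mem (hSK p.1.2) (hYK p.2.2)⟩
  have hinj : Function.Injective f := by
    rintro ⟨⟨s, hs⟩, ⟨y, hy⟩⟩ ⟨⟨s', hs'⟩, ⟨y', hy'⟩⟩ hf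
    have hf' : s * y = s' * y' := congrArg Subtype.val hf
    have h1 : s'⁻¹ * s = y' * y⁻¹ := by
      have : s'⁻¹ * (s * y) * y⁻¹ = s'⁻¹ * (s' * y') * y⁻¹ := by rw [hf']
      simpa [mul_assoc] using this
    have h2 : s'⁻¹ * s = 1 :=
      hinf _ (S.mul_mem (S.inv_mem hs') hs) (by rw [h1]; exact Y.mul_mem hy' (Y.inv_mem hy))
    have hss : s = s' := by
      have := inv_mul_eq_one.mp h2
      exact this.symm
    subst hss
    have hyy : y = y' := mul_left_cancel hf'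
    subst hyy
    rfl
  have hbij : Function.Bijective f := by
    apply hinj.bijective_of_nat_card_le
    rw [Nat.card_prod, hS4, hcard]
  obtain ⟨⟨⟨s, hs⟩, ⟨y, hy⟩⟩, hsy⟩ := hbij.2 ⟨h, hHK hh⟩
  have hsy' : s * y = h := congrArg Subtype.val hsy
  refine ⟨s, hs, y, ⟨?_, hy⟩, hsy'.symm⟩
  have : y = s⁻¹ * h := by rw [← hsy']; group
  rw [this]
  exact H.mul_mem (H.inv_mem (hSH hs)) hh

end Cfsg.Agent.Helper34.PronC2
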