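import Mathlib
import Cfsg.Agent.Helper99.Pron.Defs

/-!
Piece (DET) `det_bd` + `det_J` of helper99's farm #15213 (S2225/S2226 block I).
-/

set_option autoImplicit false

namespace Cfsg.Agent.Helper34.Pron

open Matrix Cfsg.Agent.Helper99.Pron

variable {F : Type*} [Field F] {ι : Type*} [Fintype ι] [DecidableEq ι]

/-- (DETBD) determinant of a block diagonal element -/
theorem det_bd (a b : GL ι F) :
    ((bd a b : GL (ι ⊕ ι) F) : Matrix (ι ⊕ ι) (ι ⊕ ι) F).det =
      (a : Matrix ι ι F).det * (b : Matrix ι ι F).det := by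
  rw [bd_val, det_fromBlocks_zero₂₁]

/-- (DETJ) `det [[0,1],[-1,0]] = 1`. -/
theorem det_J : (fromBlocks (0 : Matrix ι ι F) (1 : Matrix ι ι F) (-1) 0).det = 1 := by
  have h : fromBlocks (0 : Matrix ι ι F) (1 : Matrix ι ι F) (-1) 0 =
      fromBlocks (1 : Matrix ι ι F) (1 : Matrix ι ι F) (0 : Matrix ι ι F) (1 : Matrix ι ι F) *
        fromBlocks (1 : Matrix ι ι F) (0 : Matrix ι ι F) (-1 : Matrix ι ι F) (1 : Matrix ι ι F) *
        fromBlocks (1 : Matrix ι ι F) (1 : Matrix ι ι F) (0 : Matrix ι ι F) (1 : Matrix ι ι F) := by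
    rw [fromBlocks_multiply, fromBlocks_multiply]
    congr 1 <;> simp
  rw [h, det_mul, det_mul, det_fromBlocks_zero₂₁, det_fromBlocks_zero₁₂]
  simp

end Cfsg.Agent.Helper34.Pron
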