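import Mathlib
import Cfsg.Agent.Helper99.Pron.Defs

/-!
Piece (GMAB) `exists_bd_of_blocks` + `exists_ad_of_blocks` of helper99's farm #15213
(S2225/S2226 block I).
-/

set_option autoImplicit false

namespace Cfsg.Agent.Helper34.Pron

open Matrix Cfsg.Agent.Helper99.Pron

variable {F : Type*} [Field F] {ι : Type*} [Fintype ι] [DecidableEq ι]

/-- (GMa) an invertible block diagonal matrix is a `bd`. -/
theorem exists_bd_of_blocks (x : GL (ι ⊕ ι) F)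
    (h12 : (x : Matrix (ι ⊕ ι) (ι ⊕ ι) F).toBlocks₁₂ = 0)
    (h21 : (x : Matrix (ι ⊕ ι) (ι ⊕ ι) F).toBlocks₂₁ = 0) : ∃ x₁ x₂ : GL ι F, x = bd x₁ x₂ := by
  have hx : (x : Matrix (ι ⊕ ι) (ι ⊕ ι) F) =
      fromBlocks (x : Matrix (ι ⊕ ι) (ι ⊕ ι) F).toBlocks₁₁ 0 0
        (x : Matrix (ι ⊕ ι) (ι ⊕ ι) F).toBlocks₂₂ := by
    conv_lhs => rw [← fromBlocks_toBlocks (x : Matrix (ι ⊕ ι) (ι ⊕ ι) F), h12, h21]
  have hdet : (x : Matrix (ι ⊕ ι) (ι ⊕ ι) F).det ≠ 0 :=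
    ((Matrix.isUnit_iff_isUnit_det _).1 x.isUnit).ne_zero
  rw [hx, det_fromBlocks_zero₂₁] at hdet
  have hA := left_ne_zero_of_mul hdet
  have hD := right_ne_zero_of_mul hdet
  refine ⟨Matrix.GeneralLinearGroup.mkOfDetNeZero _ hA, Matrix.GeneralLinearGroup.mkOfDetNeZero _ hD, ?_⟩
  apply Units.ext
  rw [bd_val]
  exact hx

/-- (GMb) an invertible block antidiagonal matrix is an `ad`. -/
theorem exists_ad_of_blocks (x : GL (ι ⊕ ι) F)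
    (h11 : (x : Matrix (ι ⊕ ι) (ι ⊕ ι) F).toBlocks₁₁ = 0)
    (h22 : (x : Matrix (ι ⊕ ι) (ι ⊕ ι) F).toBlocks₂₂ = 0) : ∃ x₁ x₂ : GL ι F, x = ad x₁ x₂ := by
  have hx : (x : Matrix (ι ⊕ ι) (ι ⊕ ι) F) =
      fromBlocks 0 (x : Matrix (ι ⊕ ι) (ι ⊕ ι) F).toBlocks₁₂
        (x : Matrix (ι ⊕ ι) (ι ⊕ ι) F).toBlocks₂₁ 0 := by
    conv_lhs => rw [← fromBlocks_toBlocks (x : Matrix (ι ⊕ ι) (ι ⊕ ι) F), h11, h22]
  have hy : ((x * ad (1 : GL ι F) 1 : GL (ι ⊕ ι) F) : Matrix (ι ⊕ ι) (ι ⊕ ι) F) =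
      fromBlocks (x : Matrix (ι ⊕ ι) (ι ⊕ ι) F).toBlocks₁₂ 0 0
        (x : Matrix (ι ⊕ ι) (ι ⊕ ι) F).toBlocks₂₁ := by
    rw [Units.val_mul, ad_val, hx, fromBlocks_multiply]
    simp
  obtain ⟨x₁, x₂, h⟩ := exists_bd_of_blocks (x * ad (1 : GL ι F) 1)
    (by rw [hy, toBlocks_fromBlocks₁₂]) (by rw [hy, toBlocks_fromBlocks₂₁])
  refine ⟨x₁, x₂, ?_⟩
  have h2 : x = bd x₁ x₂ * (ad (1 : GL ι F) 1)⁻¹ := by rw [← h, mul_inv_cancel_right]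
  rw [h2, ad_inv, bd_mul_ad, inv_one, mul_one, mul_one]

end Cfsg.Agent.Helper34.Pron
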