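import Mathlib
import Cfsg.Agent.Helper13.QFEDefs

/-!
# (M0) for S5977/S5978 (helper13): `Ψ` is `L`-semilinear (helper34)
-/

set_option autoImplicit false

namespace Cfsg.Agent.Helper34.QFEM0

open Matrix Cfsg.Agent.Helper13.QFE

universe u

variable {F : Type u} [Field F] {ι : Type} [Fintype ι] [DecidableEq ι]

/-- `{1, s}` spans `L` over `F` -/
theorem exists_decomp {δ : F} (hδ : ¬ IsSquare δ) {L : Type*} [Field L] [Algebra F L] {s : L}
    (hL : QExt F L δ s) (a : L) : ∃ x y : F, a = algebraMap F L x + y • s := by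
  have hfin : Module.Finite F L := Module.finite_of_finrank_pos (by rw [hL.fr]; norm_num)
  have hinj : Function.Injective (algebraMap F L) := (algebraMap F L).injective
  have hli : LinearIndependent F ![(1 : L), s] := by
    rw [LinearIndependent.pair_iff]
    intro p t h
    by_cases ht : t = 0
    · subst ht
      rw [zero_smul, add_zero, Algebra.smul_def, mul_one] at h
      have : p = 0 := hinj (by rw [h, map_zero])
      exact ⟨this, rfl⟩
    · exfalso
      apply hδ
      have hs : s = algebraMap F L (-(p / t)) := by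
        have h1 : t • s = algebraMap F L (-p) := by
          rw [Algebra.smul_def, mul_one] at h
          rw [map_neg]
          exact eq_neg_of_add_eq_zero_right h
        have h2 : s = t⁻¹ • (t • s) := by rw [smul_smul, inv_mul_cancel₀ ht, one_smul]
        rw [h2, h1, Algebra.smul_def, ← map_mul]
        congr 1
        field_simp
      refine ⟨-(p / t), hinj ?_⟩
      rw [← hL.sq, map_mul, ← hs]
  have hspan := hli.span_eq_top_of_card_eq_finrank' (by rw [hL.fr]; rfl)
  have ha : a ∈ Submodule.span F (Set.range ![(1 : L), s]) := by rw [hspan]; trivial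
  have hr : Set.range ![(1 : L), s] = {1, s} := by
    ext z
    simp only [Set.mem_range, Set.mem_insert_iff, Set.mem_singleton_iff]
    constructor
    · rintro ⟨i, rfl⟩
      fin_cases i
      · left; rfl
      · right; rfl
    · rintro (rfl | rfl)
      · exact ⟨0, rfl⟩
      · exact ⟨1, rfl⟩
  rw [hr, Submodule.mem_span_pair] at ha
  obtain ⟨x, y, hxy⟩ := ha
  refine ⟨x, y, ?_⟩
  rw [← hxy, Algebra.smul_def, mul_one]

/-- (M0) `Ψ` is `L`-semilinear: `a = x + y s` acts as `x + y θ` -/
theorem model_smul {Q : QuadraticForm F (ι → F)} {θ : Matrix ι ι F} {δ : F} (hδ : ¬ IsSquare δ)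
    {L : Type*} [Field L] [Algebra F L] {s : L} (hL : QExt F L δ s) {φ : L →ₗ[F] F} {n : ℕ}
    (M : LModel Q θ L s φ n) (a : L) :
    ∃ x y : F, a = algebraMap F L x + y • s ∧
      ∀ c : Fin n → L, M.Ψ (a • c) = (x • (1 : Matrix ι ι F) + y • θ) *ᵥ M.Ψ c := by
  obtain ⟨x, y, hxy⟩ := exists_decomp hδ hL a
  refine ⟨x, y, hxy, fun c => ?_⟩
  rw [hxy, add_smul, algebraMap_smul, smul_assoc, map_add, map_smul, map_smul, M.hs,
    Matrix.add_mulVec, Matrix.smul_mulVec, Matrix.smul_mulVec, Matrix.one_mulVec]

end Cfsg.Agent.Helper34.QFEM0
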