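import Mathlib
import Cfsg.Agent.Helper13.QFEDefs

/-!
# (M1') for S5977/S5978 (helper13): the model form is nondegenerate (helper34)
-/

set_option autoImplicit false

namespace Cfsg.Agent.Helper34.QFEM1p

open Matrix QuadraticMap Cfsg.Agent.Helper13.QFE

universe u

variable {F : Type u} [Field F] {ι : Type} [Fintype ι] [DecidableEq ι]

/-- the polar forms correspond under `Ψ` and `φ` -/
theorem polar_model {Q : QuadraticForm F (ι → F)} {θ : Matrix ι ι F} {L : Type*} [Field L]
    [Algebra F L] {s : L} {φ : L →ₗ[F] F} {n : ℕ} (M : LModel Q θ L s φ n) (x y : Fin n → L) :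
    polar Q (M.Ψ x) (M.Ψ y) = φ (polar M.QL x y) := by
  unfold polar
  rw [← map_add, M.hQ, M.hQ, M.hQ, map_sub, map_sub]

/-- (M1') the model form is nondegenerate -/
theorem model_nondeg {Q : QuadraticForm F (ι → F)} (hQ : (polarBilin Q).Nondegenerate)
    {θ : Matrix ι ι F} {L : Type*} [Field L] [Algebra F L] {s : L} {φ : L →ₗ[F] F} {n : ℕ}
    (M : LModel Q θ L s φ n) : (polarBilin M.QL).Nondegenerate := by
  constructor
  · intro x hx
    have h0 : M.Ψ x = 0 := by
      apply hQ.1
      intro v
      obtain ⟨y, rfl⟩ := M.Ψ.surjective v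
      rw [polarBilin_apply_apply, polar_model]
      have := hx y
      rw [polarBilin_apply_apply] at this
      rw [this, map_zero]
    exact M.Ψ.injective (by rw [h0, map_zero])
  · intro y hy
    have h0 : M.Ψ y = 0 := by
      apply hQ.2
      intro v
      obtain ⟨x, rfl⟩ := M.Ψ.surjective v
      rw [polarBilin_apply_apply, polar_model]
      have := hy x
      rw [polarBilin_apply_apply] at this
      rw [this, map_zero]
    exact M.Ψ.injective (by rw [h0, map_zero])

end Cfsg.Agent.Helper34.QFEM1p
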