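import Mathlib
import Cfsg.Agent.Helper13.QFEDefs

/-!
# (M5) for S5977/S5978 (helper13): rank under restriction of scalars (helper34)
-/

set_option autoImplicit false

namespace Cfsg.Agent.Helper34.QFEM5

open Matrix Module Cfsg.Agent.Helper13.QFE

universe u

variable {F : Type u} [Field F] {ι : Type} [Fintype ι] [DecidableEq ι]

/-- the rank of a transported matrix is the `F`-dimension of the range -/
theorem rank_tr_eq {L : Type*} [Field L] [Algebra F L] {n : ℕ}
    (Ψ : (Fin n → L) ≃ₗ[F] (ι → F)) (N : Matrix (Fin n) (Fin n) L) :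
    (tr Ψ N).rank
      = finrank F ↥((LinearMap.range N.mulVecLin).restrictScalars F) := by
  unfold Matrix.rank tr
  rw [← Matrix.toLin'_apply', Matrix.toLin'_toMatrix', LinearMap.range_comp,
    LinearEquiv.finrank_map_eq, LinearMap.range_comp_of_range_eq_top _ (LinearEquiv.range _)]
  congr 1

/-- (M5) rank under restriction of scalars -/
theorem rank_tr {Q : QuadraticForm F (ι → F)} {θ : Matrix ι ι F} {δ : F} (hδ : ¬ IsSquare δ)
    {L : Type*} [Field L] [Algebra F L] {s : L} (hL : QExt F L δ s) {φ : L →ₗ[F] F} {n : ℕ}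
    (M : LModel Q θ L s φ n) (N : Matrix (Fin n) (Fin n) L) :
    (tr M.Ψ N).rank = 2 * N.rank := by
  rw [rank_tr_eq]
  have h := Module.finrank_mul_finrank F L ↥(LinearMap.range N.mulVecLin)
  rw [hL.fr] at h
  unfold Matrix.rank
  rw [h]
  rfl

end Cfsg.Agent.Helper34.QFEM5
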