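import Mathlib
import Cfsg.Agent.Helper77.Res.Defs
import Cfsg.Agent.Lib.Nilpotent

/-!
Piece (B) `pclosed_of_noncentral` of helper77's swarm #14084 (S5289).
-/

set_option autoImplicit false

universe u

namespace Cfsg.Agent.Helper34.Res

open Subgroup Cfsg.Agent.Helper77.Res

variable {Ω : Type u} [Group Ω] {p : ℕ} [hp : Fact p.Prime]

/-- `Ω₁(P)` computed inside the group `↥P` -/
def B_om (p : ℕ) (P : Subgroup Ω) : Subgroup ↥P := Subgroup.closure {x : ↥P | x ^ p = 1}

theorem B_om_map (P : Subgroup Ω) : (B_om p P).map P.subtype = Cfsg.omegaOne p P := by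
  unfold B_om Cfsg.omegaOne
  rw [MonoidHom.map_closure]
  congr 1
  ext x
  constructor
  · rintro ⟨y, hy, rfl⟩
    refine ⟨y.2, ?_⟩
    have h1 : y ^ p = 1 := hy
    have := congrArg Subtype.val h1
    simpa using this
  · rintro ⟨hx, hxp⟩
    refine ⟨⟨x, hx⟩, ?_, rfl⟩
    show (⟨x, hx⟩ : ↥P) ^ p = 1
    apply Subtype.ext
    simpa using hxp

theorem B_om_aut {P : Subgroup Ω} (α : MulAut ↥P) {x : ↥P} (hx : x ∈ B_om p P) :
    α x ∈ B_om p P := by
  unfold B_om at hx ⊢
  induction hx using Subgroup.closure_induction with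
  | mem y hy =>
    apply Subgroup.subset_closure
    have h1 : y ^ p = 1 := hy
    show (α y) ^ p = 1
    rw [← map_pow, h1, map_one]
  | one => rw [map_one]; exact one_mem _
  | mul a b _ _ ha hb => rw [map_mul]; exact mul_mem ha hb
  | inv a _ ha => rw [map_inv]; exact inv_mem ha

theorem B_center_aut {P : Subgroup Ω} (α : MulAut ↥P) {x : ↥P} (hx : x ∈ Subgroup.center ↥P) :
    α x ∈ Subgroup.center ↥P := by
  rw [Subgroup.mem_center_iff] at hx ⊢
  intro g
  obtain ⟨g', rfl⟩ := α.surjective g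
  rw [← map_mul, ← map_mul, hx g']

instance B_om_normal (P : Subgroup Ω) : (B_om p P).Normal := by
  constructor
  intro n hn g
  have := B_om_aut (MulAut.conj g) hn
  simpa [MulAut.conj_apply] using this

section localcfg

variable {T P : Subgroup Ω} {A : Subgroup (MulAut ↥P)} {B : Subgroup (MulAut ↥T)}

/-- (B) `R = Ω₁(P) ≅ C_p²` not central in `P` ⇒ `A` is `p`-closed. -/
theorem pclosed_of_noncentral (hp2 : p ≠ 2) (hc : Cfg p T P A B)
    (hRexp : ∀ r ∈ Cfsg.omegaOne p P, r ^ p = 1) (hRcard : Nat.card (Cfsg.omegaOne p P) = p ^ 2)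
    (hline : ∀ L : Subgroup Ω, L ≤ Cfsg.omegaOne p P → Nat.card L = p →
      (∀ α ∈ A, ∀ x : P, (x : Ω) ∈ L → ((α x : P) : Ω) ∈ L) → PClosed T P A)
    (hnc : ¬ ∀ r ∈ Cfsg.omegaOne p P, ∀ x ∈ P, r * x = x * r) : PClosed T P A := by
  have hp' := hp.out
  have : Finite ↥T := hc.fin
  have : Finite ↥P := Finite.of_injective _ (Subgroup.inclusion_injective hc.le)
  have hPp : IsPGroup p ↥P := hc.pgrp.to_le hc.le
  have : Group.IsNilpotent ↥P := hPp.isNilpotent
  set Q : Subgroup ↥P := B_om p P with hQ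
  have hQcard : Nat.card Q = p ^ 2 := by
    rw [← hRcard, ← B_om_map P, Subgroup.card_map_of_injective P.subtype_injective]
  have hQne : Q ≠ ⊥ := by
    intro h0
    rw [h0, Subgroup.card_bot] at hQcard
    have : 1 < p ^ 2 := Nat.one_lt_pow (by norm_num) hp'.one_lt
    omega
  have hLne : Q ⊓ Subgroup.center ↥P ≠ ⊥ := Cfsg.Agent.Lib.normal_inf_center_ne_bot Q hQne
  have hLQ : Q ⊓ Subgroup.center ↥P ≠ Q := by
    intro h0
    have hle : Q ≤ Subgroup.center ↥P := by rw [← h0]; exact inf_le_right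
    apply hnc
    intro r hr x hx
    rw [← B_om_map P] at hr
    obtain ⟨q, hq, rfl⟩ := hr
    have := (Subgroup.mem_center_iff.1 (hle hq)) ⟨x, hx⟩
    have h2 := congrArg Subtype.val this
    simpa using h2.symm
  have hLcard : Nat.card ↥(Q ⊓ Subgroup.center ↥P) = p := by
    have hdvd : Nat.card ↥(Q ⊓ Subgroup.center ↥P) ∣ p ^ 2 := by
      rw [← hQcard]; exact Subgroup.card_dvd_of_le inf_le_left
    obtain ⟨k, hk, hLk⟩ := (Nat.dvd_prime_pow hp').1 hdvd
    interval_cases k
    · exfalso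
      apply hLne
      rw [pow_zero] at hLk
      exact Subgroup.card_eq_one.1 hLk
    · simpa using hLk
    · exfalso
      apply hLQ
      apply Subgroup.eq_of_le_of_card_ge inf_le_left
      rw [hQcard, hLk]
  refine hline ((Q ⊓ Subgroup.center ↥P).map P.subtype) ?_ ?_ ?_
  · rw [← B_om_map P]
    exact Subgroup.map_mono inf_le_left
  · rw [Subgroup.card_map_of_injective P.subtype_injective, hLcard]
  · intro α _ x hx
    have hx' : x ∈ Q ⊓ Subgroup.center ↥P :=
      (Subgroup.mem_map_iff_mem P.subtype_injective).1 hx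
    have h3 : α x ∈ Q ⊓ Subgroup.center ↥P :=
      Subgroup.mem_inf.2 ⟨B_om_aut α (Subgroup.mem_inf.1 hx').1,
        B_center_aut α (Subgroup.mem_inf.1 hx').2⟩
    exact (Subgroup.mem_map_iff_mem P.subtype_injective).2 h3

end localcfg

end Cfsg.Agent.Helper34.Res
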