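import Mathlib
import Cfsg.Agent.Helper77.Res.Defs

/-!
Piece (E) `D1_E` of helper68's sub-farm #14239 (S5289, piece D1).
-/

set_option autoImplicit false

universe u

namespace Cfsg.Agent.Helper34.Res

open Subgroup Cfsg.Agent.Helper77.Res

variable {Ω : Type u} [Group Ω] {p : ℕ} [hp : Fact p.Prime]

/-- `R ∩ C_Ω(R)` is the image of the centre of the group `↥R` -/
theorem D1E_map_center (R : Subgroup Ω) :
    (Subgroup.center ↥R).map R.subtype = R ⊓ Subgroup.centralizer (R : Set Ω) := by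
  ext x
  constructor
  · rintro ⟨z, hz, rfl⟩
    refine Subgroup.mem_inf.2 ⟨z.2, ?_⟩
    rw [Subgroup.mem_centralizer_iff]
    intro r hr
    have := (Subgroup.mem_center_iff.1 hz) ⟨r, hr⟩
    exact congrArg Subtype.val this
  · intro hx
    obtain ⟨hxR, hxC⟩ := Subgroup.mem_inf.1 hx
    refine ⟨⟨x, hxR⟩, ?_, rfl⟩
    show (⟨x, hxR⟩ : ↥R) ∈ Subgroup.center ↥R
    rw [Subgroup.mem_center_iff]
    intro g
    apply Subtype.ext
    exact (Subgroup.mem_centralizer_iff.1 hxC) g.1 g.2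

/-- a nonabelian group of order `p ^ 3`: the centre has order `p` and the central quotient is
commutative -/
theorem D1E_abstract {H : Type*} [Group H] (hcard : Nat.card H = p ^ 3)
    (hna : ∃ a b : H, a * b ≠ b * a) :
    Nat.card (Subgroup.center H) = p ∧ ∀ a b : H, a * b * a⁻¹ * b⁻¹ ∈ Subgroup.center H := by
  have hp' := hp.out
  have hfin : Finite H := Nat.finite_of_card_ne_zero (by rw [hcard]; exact pow_ne_zero _ hp'.ne_zero)
  have hPG : IsPGroup p H := IsPGroup.of_card hcard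
  have hnt : Nontrivial H := by
    obtain ⟨a, b, hab⟩ := hna
    exact ⟨⟨a * b, b * a, hab⟩⟩
  have hdvd : Nat.card (Subgroup.center H) ∣ p ^ 3 := by
    rw [← hcard]; exact Subgroup.card_subgroup_dvd_card _
  obtain ⟨k, hk3, hZk⟩ := (Nat.dvd_prime_pow hp').1 hdvd
  have hidx : Nat.card (H ⧸ Subgroup.center H) * p ^ k = p ^ 3 := by
    rw [← hZk, ← hcard, mul_comm]
    exact (Subgroup.card_eq_card_quotient_mul_card_subgroup (Subgroup.center H)).symm ▸ (mul_comm _ _)
  have hk0 : k ≠ 0 := by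
    intro h0
    rw [h0, pow_zero] at hZk
    have hbot : Subgroup.center H = ⊥ := Subgroup.card_eq_one.1 hZk
    exact (ne_of_gt hPG.bot_lt_center) hbot
  have hk3' : k ≠ 3 := by
    intro h3
    have htop : Subgroup.center H = ⊤ := by
      apply Subgroup.eq_top_of_card_eq
      rw [hZk, h3, hcard]
    obtain ⟨a, b, hab⟩ := hna
    apply hab
    have hb : b ∈ Subgroup.center H := by rw [htop]; exact Subgroup.mem_top b
    exact (Subgroup.mem_center_iff.1 hb a)
  have hk2' : k ≠ 2 := by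
    intro h2
    rw [h2] at hidx
    have hq : Nat.card (H ⧸ Subgroup.center H) = p := by
      have h4 : p ^ 3 = p * p ^ 2 := by ring
      rw [h4] at hidx
      exact Nat.eq_of_mul_eq_mul_right (pow_pos hp'.pos 2) hidx
    have : IsCyclic (H ⧸ Subgroup.center H) := isCyclic_of_prime_card hq
    obtain ⟨a, b, hab⟩ := hna
    apply hab
    exact ((QuotientGroup.mk' (Subgroup.center H)).isMulCommutative_of_isCyclic_of_ker_le_center
      (by rw [QuotientGroup.ker_mk'])).is_comm.comm a b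
  have hk1 : k = 1 := by omega
  refine ⟨by rw [hZk, hk1, pow_one], ?_⟩
  rw [hk1, pow_one] at hidx
  have hq : Nat.card (H ⧸ Subgroup.center H) = p ^ 2 := by
    have h4 : p ^ 3 = p ^ 2 * p := by ring
    rw [h4] at hidx
    exact Nat.eq_of_mul_eq_mul_right hp'.pos hidx
  have hcomm := (IsPGroup.isMulCommutative_of_card_eq_prime_sq hq).is_comm.comm
  intro a b
  rw [← QuotientGroup.eq_one_iff]
  have h5 := hcomm (a : H ⧸ Subgroup.center H) (b : H ⧸ Subgroup.center H)
  simp only [QuotientGroup.mk_mul, QuotientGroup.mk_inv]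
  rw [h5]
  group

/-- (E) a nonabelian group of order `p³`: the centre has order `p` and contains all commutators. -/
theorem D1_E (R : Subgroup Ω) (hcard : Nat.card R = p ^ 3) (hna : ∃ a ∈ R, ∃ b ∈ R, a * b ≠ b * a) :
    Nat.card (R ⊓ Subgroup.centralizer (R : Set Ω) : Subgroup Ω) = p ∧
    ∀ a ∈ R, ∀ b ∈ R, a * b * a⁻¹ * b⁻¹ ∈ (R ⊓ Subgroup.centralizer (R : Set Ω) : Subgroup Ω) := by
  have hna' : ∃ a b : ↥R, a * b ≠ b * a := by
    obtain ⟨a, ha, b, hb, hab⟩ := hna
    refine ⟨⟨a, ha⟩, ⟨b, hb⟩, fun h => hab ?_⟩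
    exact congrArg Subtype.val h
  obtain ⟨h1, h2⟩ := D1E_abstract hcard hna'
  rw [← D1E_map_center R]
  refine ⟨by rw [Subgroup.card_map_of_injective R.subtype_injective, h1], ?_⟩
  intro a ha b hb
  exact ⟨_, h2 ⟨a, ha⟩ ⟨b, hb⟩, rfl⟩

end Cfsg.Agent.Helper34.Res
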