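import Mathlib
import Cfsg.Agent.Helper77.Res.Defs

/-!
Pieces (GEN) `D1_GEN` and (E) `D1_E` of helper68's sub-farm #14239 (S5289, piece D1).
-/

set_option autoImplicit false

universe u

namespace Cfsg.Agent.Helper34.Res

open Subgroup Cfsg.Agent.Helper77.Res

variable {Ω : Type u} [Group Ω] {p : ℕ} [hp : Fact p.Prime]

/-- a finite group of order `p ^ k`, `k ≤ 2`, is commutative -/
theorem D1GEN_comm_of_card {H : Type*} [Group H] {k : ℕ} (hk : k ≤ 2) (hH : Nat.card H = p ^ k)
    (a b : H) : a * b = b * a := by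
  have hp' := hp.out
  interval_cases k
  · rw [pow_zero] at hH
    have : Subsingleton H := (Nat.card_eq_one_iff_unique.1 hH).1
    rw [Subsingleton.elim a 1, Subsingleton.elim b 1]
  · rw [pow_one] at hH
    have : IsCyclic H := isCyclic_of_prime_card hH
    obtain ⟨g, hg⟩ := IsCyclic.exists_generator (α := H)
    obtain ⟨m, rfl⟩ := Subgroup.mem_zpowers_iff.1 (hg a)
    obtain ⟨n, rfl⟩ := Subgroup.mem_zpowers_iff.1 (hg b)
    rw [← zpow_add, ← zpow_add, add_comm]
  · exact (IsPGroup.isMulCommutative_of_card_eq_prime_sq hH).is_comm.comm a b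

/-- (GEN) two non-commuting elements generate a group of order `p³`, so whatever commutes
with both commutes with everything. -/
theorem D1_GEN (R : Subgroup Ω) (hcard : Nat.card R = p ^ 3) (a b : Ω) (ha : a ∈ R) (hb : b ∈ R) (hab : a * b ≠ b * a)
    (y : Ω) (hya : y * a = a * y) (hyb : y * b = b * y) : ∀ r ∈ R, y * r = r * y := by
  have hp' := hp.out
  have hfin : Finite ↥R := Nat.finite_of_card_ne_zero (by rw [hcard]; exact pow_ne_zero _ hp'.ne_zero)
  set K : Subgroup Ω := Subgroup.closure ({a, b} : Set Ω) with hK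
  have hKR : K ≤ R := by
    rw [hK, Subgroup.closure_le]
    rintro x (rfl | rfl)
    · exact ha
    · exact hb
  have haK : a ∈ K := Subgroup.subset_closure (by simp)
  have hbK : b ∈ K := Subgroup.subset_closure (by simp)
  have hdvd : Nat.card ↥K ∣ p ^ 3 := by rw [← hcard]; exact Subgroup.card_dvd_of_le hKR
  obtain ⟨k, hk3, hKk⟩ := (Nat.dvd_prime_pow hp').1 hdvd
  have hk : k = 3 := by
    by_contra hne
    have hk2 : k ≤ 2 := by omega
    have := D1GEN_comm_of_card hk2 hKk (⟨a, haK⟩ : ↥K) ⟨b, hbK⟩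
    exact hab (congrArg Subtype.val this)
  have hKeq : K = R := by
    apply Subgroup.eq_of_le_of_card_ge hKR
    rw [hcard, hKk, hk]
  have hcen : K ≤ Subgroup.centralizer ({y} : Set Ω) := by
    rw [hK, Subgroup.closure_le]
    rintro x (rfl | rfl)
    · exact Subgroup.mem_centralizer_singleton_iff.2 hya.symm
    · exact Subgroup.mem_centralizer_singleton_iff.2 hyb.symm
  intro r hr
  rw [← hKeq] at hr
  exact (Subgroup.mem_centralizer_singleton_iff.1 (hcen hr)).symm

end Cfsg.Agent.Helper34.Res
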