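import Mathlib
import Cfsg.Agent.Helper77.Res.Defs

/-!
Piece (PR) `exists_good_exponent` of helper77's swarm #14084 (S5289).
-/

set_option autoImplicit false

universe u

namespace Cfsg.Agent.Helper34.Res

open Subgroup Cfsg.Agent.Helper77.Res

variable {Ω : Type u} [Group Ω] {p : ℕ} [hp : Fact p.Prime]

/-- (PR) for `p ≥ 5` there is `m` prime to `p` with `m, m², m³ ≢ 1 mod p`. -/
theorem exists_good_exponent (h5 : 5 ≤ p) :
    ∃ m : ℕ, ¬ p ∣ m ∧ m % p ≠ 1 ∧ m ^ 2 % p ≠ 1 ∧ m ^ 3 % p ≠ 1 := by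
  have hp' := hp.out
  obtain ⟨ζ, hζ⟩ := IsCyclic.exists_generator (α := (ZMod p)ˣ)
  have hord : orderOf ζ = p - 1 := by
    rw [orderOf_eq_card_of_forall_mem_zpowers hζ, Nat.card_eq_fintype_card, ZMod.card_units_eq_totient,
      Nat.totient_prime hp']
  have key : ∀ k : ℕ, 0 < k → k < 4 → ((ζ : ZMod p).val) ^ k % p ≠ 1 := by
    intro k hk0 hk4 h1
    have h2 : (((ζ : ZMod p).val ^ k : ℕ) : ZMod p) = 1 := by
      have := (ZMod.natCast_eq_natCast_iff' ((ζ : ZMod p).val ^ k) 1 p).2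
        (by rw [h1, Nat.mod_eq_of_lt hp'.one_lt])
      simpa using this
    rw [Nat.cast_pow, ZMod.natCast_val, ZMod.cast_id', id] at h2
    have h3 : ζ ^ k = 1 := by
      apply Units.ext
      rw [Units.val_pow_eq_pow_val, h2, Units.val_one]
    have h4 := orderOf_dvd_of_pow_eq_one h3
    rw [hord] at h4
    have := Nat.le_of_dvd hk0 h4
    omega
  refine ⟨(ζ : ZMod p).val, ?_, ?_, key 2 (by norm_num) (by norm_num), key 3 (by norm_num) (by norm_num)⟩
  · intro hdvd
    have h0 : ((ζ : ZMod p).val : ZMod p) = 0 := (ZMod.natCast_eq_zero_iff _ _).2 hdvd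
    rw [ZMod.natCast_val, ZMod.cast_id', id] at h0
    exact ζ.ne_zero h0
  · have := key 1 (by norm_num) (by norm_num)
    rwa [pow_one] at this

end Cfsg.Agent.Helper34.Res
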