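import Mathlib

/-!
# helper34: leaf (AR) of helper21's S3331 block C (SC3C): pure arithmetic
-/

set_option autoImplicit false

namespace Cfsg.Agent.Helper34.SC3C

/-- (AR) arithmetic: `3 C² f (f+1) = n (f-c)²`, `3 f (f+1) ∣ n` ⟹ `n = 3 f (f+1) w²`,
`C = w (f - c)`. -/
theorem arith_w (n C f : ℕ) (c : ℤ) (hf3 : f % 3 = 1) (hfn : f ∣ n) (hf1n : f + 1 ∣ n)
    (h3n : 3 ∣ n) (hn : 0 < n) (hcf : c < (f : ℤ)) (hC : 0 < C)
    (h : 3 * (C : ℤ) ^ 2 * (f : ℤ) * ((f : ℤ) + 1) = (n : ℤ) * ((f : ℤ) - c) ^ 2) :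
    ∃ w : ℕ, 0 < w ∧ n = 3 * f * (f + 1) * w ^ 2 ∧ (C : ℤ) = (w : ℤ) * ((f : ℤ) - c) := by
  have hf0 : 0 < f := by omega
  -- coprimality
  have c3f : Nat.Coprime 3 f := (Nat.Prime.coprime_iff_not_dvd Nat.prime_three).mpr (by omega)
  have c3f1 : Nat.Coprime 3 (f + 1) :=
    (Nat.Prime.coprime_iff_not_dvd Nat.prime_three).mpr (by omega)
  have cff1 : Nat.Coprime f (f + 1) := by simp
  have h3f : 3 * f ∣ n := Nat.Coprime.mul_dvd_of_dvd_of_dvd c3f h3n hfn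
  have c3ff1 : Nat.Coprime (3 * f) (f + 1) := Nat.Coprime.mul_left c3f1 cff1
  have hall : 3 * f * (f + 1) ∣ n := Nat.Coprime.mul_dvd_of_dvd_of_dvd c3ff1 h3f hf1n
  obtain ⟨m, hm⟩ := hall
  -- d = f - c as a natural number
  obtain ⟨d, hd⟩ : ∃ d : ℕ, (d : ℤ) = (f : ℤ) - c := ⟨((f : ℤ) - c).toNat, by omega⟩
  have hd0 : 0 < d := by omega
  have hK : (0 : ℤ) < 3 * (f : ℤ) * ((f : ℤ) + 1) := by positivity
  have hCm : (C : ℤ) ^ 2 = (m : ℤ) * (d : ℤ) ^ 2 := by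
    have h1 : (3 * (f : ℤ) * ((f : ℤ) + 1)) * (C : ℤ) ^ 2
        = (3 * (f : ℤ) * ((f : ℤ) + 1)) * ((m : ℤ) * (d : ℤ) ^ 2) := by
      rw [hd]
      have hn' : (n : ℤ) = 3 * (f : ℤ) * ((f : ℤ) + 1) * (m : ℤ) := by
        rw [hm]; push_cast; ring
      rw [hn'] at h
      linear_combination h
    exact mul_left_cancel₀ hK.ne' h1
  have hCm' : C ^ 2 = m * d ^ 2 := by exact_mod_cast hCm
  have hdC : d ∣ C := by
    have : d ^ 2 ∣ C ^ 2 := ⟨m, by rw [hCm']; ring⟩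
    exact (Nat.pow_dvd_pow_iff (by norm_num)).mp this
  obtain ⟨w, hw⟩ := hdC
  have hw0 : 0 < w := by
    rcases Nat.eq_zero_or_pos w with h0 | h0
    · rw [h0, mul_zero] at hw; omega
    · exact h0
  have hmw : m = w ^ 2 := by
    have h2 : d ^ 2 * w ^ 2 = d ^ 2 * m := by
      rw [← mul_pow, ← hw, hCm']; ring
    exact (Nat.eq_of_mul_eq_mul_left (by positivity) h2).symm
  refine ⟨w, hw0, ?_, ?_⟩
  · rw [hm, hmw]
  · rw [← hd, hw]; push_cast; ring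

end Cfsg.Agent.Helper34.SC3C
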