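import Cfsg.Agent.Helper21.SC3C.Defs
import Cfsg.Agent.Helper17.G4320d

/-!
# helper34: leaf (INV) of helper21's S3331 block C (SC3C): one class of involutions
-/

set_option autoImplicit false

namespace Cfsg.Agent.Helper34.SC3C

open Cfsg Cfsg.Agent Cfsg.Agent.Helper62.SC3 Cfsg.Agent.Helper21.SC3C
open scoped ComplexConjugate

universe u

variable {G : Type u} [Group G]

/-- two involutions whose product has order dividing `3` are conjugate. -/
theorem INV_conj_of_prod {a b : G} (ha : a * a = 1) (hb : b * b = 1) (h3 : (a * b) ^ 3 = 1) :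
    IsConj a b := by
  rw [isConj_iff]
  refine ⟨a * b, ?_⟩
  have hai : a⁻¹ = a := inv_eq_of_mul_eq_one_left ha
  have hbi : b⁻¹ = b := inv_eq_of_mul_eq_one_left hb
  have e : a * b * a * (a * b)⁻¹ * b = 1 := by
    rw [mul_inv_rev, hai, hbi]
    have : (a * b) ^ 3 = a * b * a * (b * a) * b := by
      rw [pow_succ, pow_two]
      simp only [mul_assoc]
    rw [← this, h3]
  have : a * b * a * (a * b)⁻¹ = b⁻¹ := eq_inv_of_mul_eq_one_left e
  rw [this, hbi]

/-- an involution squares to one -/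
theorem INV_sq_of_orderOf {a : G} (h : orderOf a = 2) : a * a = 1 := by
  have := pow_orderOf_eq_one a
  rwa [h, pow_two] at this

/-- a conjugate of an involution squares to one -/
theorem INV_sq_of_isConj {a b : G} (ha : a * a = 1) (h : IsConj a b) : b * b = 1 := by
  rw [isConj_iff] at h
  obtain ⟨c, rfl⟩ := h
  have : c * a * c⁻¹ * (c * a * c⁻¹) = c * (a * a) * c⁻¹ := by group
  rw [this, ha, mul_one, mul_inv_cancel]

/-- (INV) one class of involutions. -/
theorem invol_conj [Finite G] [IsSimpleGroup G] (S : Setup G) (D : CData S) (hcc : HCC S D)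
    (hf : 0 < D.f) (s : G) (hs : orderOf s = 2) : IsConj s S.t := by
  have hs1 : s ≠ 1 := by
    rintro rfl
    rw [orderOf_one] at hs
    omega
  have ht1 : S.t ≠ 1 := by
    intro h
    have := S.ht
    rw [h, orderOf_one] at this
    omega
  have hχp : (⟨D.χ, D.hχ⟩ : IrrCharacter G) ≠ Helper79.principalIrr G := by
    intro h
    exact D.hχ_ne (congrArg Subtype.val h)
  have h1 : D.χ s ≠ D.χ 1 := Helper17.G4320.ne_degree_of_simple ⟨D.χ, D.hχ⟩ hχp hs1
  have h2 : D.χ S.t ≠ D.χ 1 := Helper17.G4320.ne_degree_of_simple ⟨D.χ, D.hχ⟩ hχp ht1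
  rw [D.hχ1] at h1 h2
  have hss : s * s = 1 := INV_sq_of_orderOf hs
  have htt : S.t * S.t = 1 := INV_sq_of_orderOf S.ht
  have key := hcc S.t s S.x (Or.inr (Or.inr (IsConj.refl _)))
  rw [D.hχx, D.hψx, D.hrel S.t (by rw [S.ht]; norm_num), D.hrel s (by rw [hs]; norm_num)] at key
  simp only [map_one, map_neg] at key
  by_contra hcon
  have hN : Nat.card {p : G × G // IsConj S.t p.1 ∧ IsConj s p.2 ∧ p.1 * p.2 = S.x} = 0 := by
    rw [Nat.card_eq_zero]
    left
    constructor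
    rintro ⟨⟨a, b⟩, ha, hb, hab⟩
    simp only at ha hb hab
    apply hcon
    have haa : a * a = 1 := INV_sq_of_isConj htt ha
    have hbb : b * b = 1 := INV_sq_of_isConj hss hb
    have h3 : (a * b) ^ 3 = 1 := by
      rw [hab, ← S.hx]
      exact pow_orderOf_eq_one _
    exact hb.trans ((INV_conj_of_prod haa hbb h3).symm.trans ha.symm)
  rw [hN] at key
  have hF0 : (D.f : ℂ) ≠ 0 := by exact_mod_cast hf.ne'
  have hF1 : (D.f : ℂ) + 1 ≠ 0 := by
    have : ((D.f + 1 : ℕ) : ℂ) ≠ 0 := by exact_mod_cast (Nat.succ_ne_zero D.f)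
    simpa using this
  have hfac : 1 + D.χ S.t * D.χ s * 1 / (D.f : ℂ) + (1 + D.χ S.t) * (1 + D.χ s) * (-1) / ((D.f : ℂ) + 1)
      = ((D.f : ℂ) - D.χ S.t) * ((D.f : ℂ) - D.χ s) / ((D.f : ℂ) * ((D.f : ℂ) + 1)) := by
    field_simp
    ring
  rw [hfac] at key
  have hA : (Nat.card {y : G // IsConj S.t y} : ℂ) ≠ 0 := by
    have : Nonempty {y : G // IsConj S.t y} := ⟨⟨S.t, IsConj.refl _⟩⟩
    exact_mod_cast (Nat.card_pos (α := {y : G // IsConj S.t y})).ne'
  have hB : (Nat.card {y : G // IsConj s y} : ℂ) ≠ 0 := by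
    have : Nonempty {y : G // IsConj s y} := ⟨⟨s, IsConj.refl _⟩⟩
    exact_mod_cast (Nat.card_pos (α := {y : G // IsConj s y})).ne'
  have hne : (Nat.card {y : G // IsConj S.t y} : ℂ) * (Nat.card {y : G // IsConj s y} : ℂ) *
      (((D.f : ℂ) - D.χ S.t) * ((D.f : ℂ) - D.χ s) / ((D.f : ℂ) * ((D.f : ℂ) + 1))) ≠ 0 := by
    refine mul_ne_zero (mul_ne_zero hA hB) (div_ne_zero (mul_ne_zero ?_ ?_) (mul_ne_zero hF0 hF1))
    · exact sub_ne_zero.mpr (Ne.symm h2)
    · exact sub_ne_zero.mpr (Ne.symm h1)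
  apply hne
  rw [← key]
  simp

end Cfsg.Agent.Helper34.SC3C
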