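import Mathlib
import Cfsg.Agent.Helper5.SpBN.Api

/-!
# (MEMS) for S2545: the reflection matrices `sMat k` are symplectic (helper34, for helper5)
-/

set_option autoImplicit false

open Matrix Cfsg.Agent.Helper5.SpBN

namespace Cfsg.Agent.Helper34.SpBNMEMS

variable {F : Type*} [Field F] {m : ℕ}

theorem sgn_eq_pos (a : Fin m ⊕ Fin m) : sgn F a = if pos a < m then 1 else -1 := by
  rcases a with i | i
  · have := i.2
    rw [pos_inl, if_pos this]
    rfl
  · have := i.2
    rw [pos_inr, if_neg (by omega)]
    rfl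

theorem sSign_eq_pos (k : Fin m) (b : Fin m ⊕ Fin m) :
    sSign F k b = if k.val + 1 < m then 1 else if pos b = k.val + 1 then -1 else 1 := by
  unfold sSign
  simp only [eq_iff_pos_eq, pos_colIdx]

theorem sign_identity (k : Fin m) (a : Fin m ⊕ Fin m) :
    sSign F k (sPerm k a) * sgn F (Sum.swap (sPerm k a)) * sSign F k (Sum.swap (sPerm k a))
      = sgn F (Sum.swap a) := by
  have hk := k.2
  have ha := pos_lt a
  simp only [sSign_eq_pos, sgn_eq_pos, pos_swap, pos_sPerm]
  split_ifs <;> first | omega | simp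

theorem sMat_mem (k : Fin m) : sMat (F := F) k ∈ Matrix.symplecticGroup (Fin m) F := by
  rw [SymplecticGroup.mem_iff]
  ext a b
  rw [Matrix.mul_apply]
  have h1 : ∀ c : Fin m ⊕ Fin m, (sMat (F := F) k * J (Fin m) F) a c
      = sSign F k (sPerm k a) * J (Fin m) F (sPerm k a) c := by
    intro c
    rw [Matrix.mul_apply, Finset.sum_eq_single (sPerm k a)]
    · rw [sMat_apply, if_pos (sPerm_sPerm k a).symm]
    · intro d _ hd
      rw [sMat_apply, if_neg, zero_mul]
      intro h
      apply hd
      rw [h, sPerm_sPerm]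
    · intro h; exact absurd (Finset.mem_univ _) h
  rw [Finset.sum_eq_single (Sum.swap (sPerm k a))]
  · rw [h1, J_apply, if_pos (Sum.swap_swap _).symm, Matrix.transpose_apply, sMat_apply, sPerm_swap,
      sPerm_sPerm, J_apply]
    by_cases hb : b = Sum.swap a
    · rw [if_pos hb, if_pos (by rw [hb, Sum.swap_swap]), hb]
      have := sign_identity (F := F) k a
      rw [← this]
    · rw [if_neg hb, if_neg, mul_zero]
      intro h
      apply hb
      rw [h, Sum.swap_swap]
  · intro c _ hc
    rw [h1, J_apply, if_neg, mul_zero, zero_mul]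
    intro h
    apply hc
    rw [h, Sum.swap_swap]
  · intro h; exact absurd (Finset.mem_univ _) h

end Cfsg.Agent.Helper34.SpBNMEMS
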