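import Mathlib
import Cfsg.Agent.Helper5.SpBN.Api

/-!
# (MEMX) for S2545: the root elements `xMat k t` are symplectic (helper34, for helper5)
-/

set_option autoImplicit false

open Matrix Cfsg.Agent.Helper5.SpBN

namespace Cfsg.Agent.Helper34.SpBNMEMX

variable {F : Type*} [Field F] {m : ℕ}

theorem sgn_eq_pos (a : Fin m ⊕ Fin m) : sgn F a = if pos a < m then 1 else -1 := by
  rcases a with i | i
  · have := i.2
    rw [pos_inl, if_pos this]
    rfl
  · have := i.2
    rw [pos_inr, if_neg (by omega)]
    rfl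

/-- the entries of `A * J * Aᵀ` -/
theorem mul_J_mul_transpose_apply (A : Matrix (Fin m ⊕ Fin m) (Fin m ⊕ Fin m) F)
    (a b : Fin m ⊕ Fin m) :
    (A * J (Fin m) F * Aᵀ) a b = ∑ c, A a (Sum.swap c) * sgn F c * A b c := by
  rw [Matrix.mul_apply]
  apply Finset.sum_congr rfl
  intro c _
  rw [Matrix.transpose_apply, Matrix.mul_apply, Finset.sum_eq_single (Sum.swap c)]
  · rw [J_apply, if_pos rfl]
  · intro d _ hd
    rw [J_apply, if_neg hd, mul_zero]
  · intro h; exact absurd (Finset.mem_univ _) h

/-- the off-diagonal part of `xMat k t` -/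
def Nent (k : Fin m) (t : F) (a b : Fin m ⊕ Fin m) : F :=
  (if rowIdx k = a ∧ colIdx k = b then t else 0)
    - (if k.val + 1 < m then
        (if Sum.swap (colIdx k) = a ∧ Sum.swap (rowIdx k) = b then t else 0) else 0)

theorem xMat_apply' (k : Fin m) (t : F) (a b : Fin m ⊕ Fin m) :
    xMat k t a b = (if a = b then 1 else 0) + Nent k t a b := by
  rw [xMat_apply, Nent]
  ring

theorem Nent_pos (k : Fin m) (t : F) (a b : Fin m ⊕ Fin m) :
    Nent k t a b = (if k.val = pos a ∧ k.val + 1 = pos b then t else 0)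
      - (if k.val + 1 < m then
          (if 2 * m - 1 - (k.val + 1) = pos a ∧ 2 * m - 1 - k.val = pos b then t else 0) else 0) := by
  unfold Nent
  simp only [eq_iff_pos_eq, pos_rowIdx, pos_colIdx, pos_swap]

theorem Nent_mul_Nent (k : Fin m) (t : F) (a b c : Fin m ⊕ Fin m) :
    Nent k t a (Sum.swap c) * sgn F c * Nent k t b c = 0 := by
  have hk := k.2
  have hc := pos_lt c
  simp only [Nent_pos, pos_swap]
  split_ifs <;> first | omega | simp

theorem Nent_cross (k : Fin m) (t : F) (a b : Fin m ⊕ Fin m) :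
    sgn F (Sum.swap a) * Nent k t b (Sum.swap a) + Nent k t a (Sum.swap b) * sgn F b = 0 := by
  have hk := k.2
  have ha := pos_lt a
  have hb := pos_lt b
  simp only [Nent_pos, pos_swap, sgn_eq_pos]
  split_ifs <;> first | omega | simp

theorem xMat_mem (k : Fin m) (t : F) : xMat k t ∈ Matrix.symplecticGroup (Fin m) F := by
  rw [SymplecticGroup.mem_iff]
  ext a b
  rw [mul_J_mul_transpose_apply]
  have h1 : ∀ c : Fin m ⊕ Fin m, xMat k t a (Sum.swap c) * sgn F c * xMat k t b c
      = (if a = Sum.swap c then sgn F c * xMat k t b c else 0)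
        + (if b = c then Nent k t a (Sum.swap c) * sgn F c else 0)
        + Nent k t a (Sum.swap c) * sgn F c * Nent k t b c := by
    intro c
    rw [xMat_apply' k t a, xMat_apply' k t b c]
    split_ifs <;> ring
  rw [Finset.sum_congr rfl (fun c _ => h1 c), Finset.sum_add_distrib, Finset.sum_add_distrib,
    Finset.sum_eq_zero (fun c _ => Nent_mul_Nent k t a b c), add_zero,
    Finset.sum_ite_eq Finset.univ b, if_pos (Finset.mem_univ _)]
  rw [Finset.sum_eq_single (Sum.swap a)]
  · rw [if_pos (Sum.swap_swap a).symm, xMat_apply', J_apply, mul_add, add_assoc, Nent_cross, add_zero]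
    by_cases hab : b = Sum.swap a
    · rw [if_pos hab, if_pos (by rw [hab, Sum.swap_swap]), hab, mul_one]
    · rw [if_neg hab, if_neg, mul_zero]
      intro h
      apply hab
      rw [h, Sum.swap_swap]
  · intro c _ hc
    rw [if_neg]
    intro h
    apply hc
    rw [h, Sum.swap_swap]
  · intro h; exact absurd (Finset.mem_univ _) h

end Cfsg.Agent.Helper34.SpBNMEMX
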