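import Mathlib

/-!
# S2333 piece (Q1a) for helper80: a quadratic form in at least 3 variables over a finite field of
characteristic 2 has a non-zero singular vector.
-/

set_option autoImplicit false
set_option linter.unusedVariables false
set_option linter.unusedSectionVars false

namespace Cfsg.Agent.Helper34.SpE

variable {F : Type*} [Field F] [Fintype F] {V : Type*} [AddCommGroup V] [Module F V] [Fintype V]

/-- every element of a finite field of characteristic 2 is a square -/
theorem exists_mul_self_eq (h2 : (2 : F) = 0) (y : F) : ∃ r : F, r * r = y := by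
  have : CharP F 2 := CharTwo.of_one_ne_zero_of_two_eq_zero one_ne_zero h2
  have hc : ringChar F = 2 := ringChar.eq F 2
  obtain ⟨r, hr⟩ := FiniteField.isSquare_of_char_two hc y
  exact ⟨r, hr.symm⟩

/-- (Q1a) -/
theorem exists_singular (h2 : (2 : F) = 0) (Q : QuadraticForm F V)
    (hd : 3 ≤ Module.finrank F V) : ∃ e : V, e ≠ 0 ∧ Q e = 0 := by
  classical
  -- a non-zero vector
  obtain ⟨x, hx⟩ : ∃ x : V, x ≠ 0 := by
    by_contra hcon
    push Not at hcon
    have : Subsingleton V := ⟨fun a b => (hcon a).trans (hcon b).symm⟩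
    have := Module.finrank_zero_of_subsingleton (R := F) (M := V)
    omega
  by_cases hQx : Q x = 0
  · exact ⟨x, hx, hQx⟩
  -- the kernel of `b(x, ·)` has dimension at least 2
  set φ : V →ₗ[F] F := QuadraticMap.polarBilin Q x with hφ
  have hrk := LinearMap.finrank_range_add_finrank_ker φ
  have hrange : Module.finrank F (LinearMap.range φ) ≤ 1 := by
    have := Submodule.finrank_le (LinearMap.range φ)
    rwa [Module.finrank_self] at this
  have hker : 2 ≤ Module.finrank F (LinearMap.ker φ) := by omega
  -- a vector `z` of the kernel outside `F x`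
  obtain ⟨z, hzker, hzspan⟩ : ∃ z ∈ LinearMap.ker φ, z ∉ Submodule.span F ({x} : Set V) := by
    by_contra hcon
    push Not at hcon
    have hle : LinearMap.ker φ ≤ Submodule.span F ({x} : Set V) := fun z hz => hcon z hz
    have h1 := Submodule.finrank_mono hle
    have h3 : Module.finrank F (Submodule.span F ({x} : Set V)) = 1 := finrank_span_singleton hx
    omega
  have hbxz : QuadraticMap.polar Q x z = 0 := by
    have := LinearMap.mem_ker.1 hzker
    simpa [hφ] using this
  obtain ⟨a, ha⟩ := exists_mul_self_eq h2 (Q z)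
  obtain ⟨c, hc⟩ := exists_mul_self_eq h2 (Q x)
  have hc0 : c ≠ 0 := by
    rintro rfl
    rw [mul_zero] at hc
    exact hQx hc.symm
  refine ⟨a • x + c • z, ?_, ?_⟩
  · intro he
    apply hzspan
    rw [Submodule.mem_span_singleton]
    refine ⟨-(c⁻¹ * a), ?_⟩
    have h1 : c • z = -(a • x) := eq_neg_of_add_eq_zero_right he
    calc -(c⁻¹ * a) • x = c⁻¹ • (-(a • x)) := by rw [neg_smul, mul_smul, smul_neg]
      _ = c⁻¹ • (c • z) := by rw [h1]
      _ = z := by rw [smul_smul, inv_mul_cancel₀ hc0, one_smul]
  · have e1 := QuadraticMap.map_add Q (a • x) (c • z)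
    have e2 : Q (a • x) = a * a * Q x := by
      rw [QuadraticMap.map_smul Q a x, smul_eq_mul]
    have e3 : Q (c • z) = c * c * Q z := by
      rw [QuadraticMap.map_smul Q c z, smul_eq_mul]
    have e4 : QuadraticMap.polar Q (a • x) (c • z) = 0 := by
      rw [QuadraticMap.polar_smul_left Q a x (c • z), QuadraticMap.polar_smul_right Q c x z, hbxz,
        smul_zero, smul_zero]
    rw [e1, e2, e3, e4, add_zero, ha, hc]
    have : Q z * Q x + Q x * Q z = 2 * (Q x * Q z) := by ring
    rw [this, h2, zero_mul]

end Cfsg.Agent.Helper34.SpE
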