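import Mathlib

/-!
# S2333 piece (Q2) for helper80: for `Q x ≠ 0` and `β ≠ 0` there are at most `2 q^(d-2)` vectors `y`
with `Q y = γ` and `b(x, y) = β` (characteristic 2).
-/

set_option autoImplicit false
set_option linter.unusedVariables false
set_option linter.unusedSectionVars false

namespace Cfsg.Agent.Helper34.SpE

variable {F : Type*} [Field F] [Fintype F] {V : Type*} [AddCommGroup V] [Module F V] [Fintype V]

/-- expansion of `Q (z + s • x)` -/
theorem map_add_smul (Q : QuadraticForm F V) (z x : V) (s : F) :
    Q (z + s • x) = Q z + s * s * Q x + s * QuadraticMap.polar Q z x := by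
  rw [QuadraticMap.map_add Q z (s • x), QuadraticMap.map_smul Q s x,
    QuadraticMap.polar_smul_right Q s z x, smul_eq_mul, smul_eq_mul]

/-- a quadratic equation with non-zero leading coefficient has at most two roots -/
theorem card_quad_roots_le [DecidableEq F] (a b c : F) (ha : a ≠ 0) :
    (Finset.univ.filter fun t : F => a * (t * t) + b * t + c = 0).card ≤ 2 := by
  by_contra hcon
  push Not at hcon
  obtain ⟨t1, t2, t3, h1, h2, h3, h12, h13, h23⟩ := Finset.two_lt_card_iff.1 hcon
  simp only [Finset.mem_filter, Finset.mem_univ, true_and] at h1 h2 h3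
  have e12 : (t1 - t2) * (a * (t1 + t2) + b) = 0 := by linear_combination h1 - h2
  have e13 : (t1 - t3) * (a * (t1 + t3) + b) = 0 := by linear_combination h1 - h3
  have f12 : a * (t1 + t2) + b = 0 := by
    rcases mul_eq_zero.1 e12 with h | h
    · exact absurd (sub_eq_zero.1 h) h12
    · exact h
  have f13 : a * (t1 + t3) + b = 0 := by
    rcases mul_eq_zero.1 e13 with h | h
    · exact absurd (sub_eq_zero.1 h) h13
    · exact h
  have : a * (t2 - t3) = 0 := by linear_combination f12 - f13
  rcases mul_eq_zero.1 this with h | h
  · exact ha h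
  · exact h23 (sub_eq_zero.1 h)

/-- (Q2) -/
theorem card_fiber_le (h2 : (2 : F) = 0) (Q : QuadraticForm F V) (x : V) (hx : Q x ≠ 0)
    (β : F) (hβ : β ≠ 0) (γ : F) :
    Fintype.card F ^ 2 * Nat.card {y : V // Q y = γ ∧ QuadraticMap.polar Q x y = β} ≤
      2 * Fintype.card V := by
  classical
  set S : Finset V := Finset.univ.filter fun y => Q y = γ ∧ QuadraticMap.polar Q x y = β with hS
  set T : Finset V := Finset.univ.filter fun z => QuadraticMap.polar Q x z = β with hT
  have hcardS : Nat.card {y : V // Q y = γ ∧ QuadraticMap.polar Q x y = β} = S.card := by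
    rw [Nat.card_eq_fintype_card, Fintype.card_subtype]
  rw [hcardS]
  have hxx : QuadraticMap.polar Q x x = 0 := by
    have := QuadraticMap.polar_self Q x
    rw [this, two_smul, ← two_mul, h2, zero_mul]
  -- step (i)
  have h1 : Fintype.card F * S.card ≤ 2 * T.card := by
    have := Finset.card_le_mul_card_image_of_maps_to (s := S ×ˢ (Finset.univ : Finset F)) (t := T)
      (f := fun p : V × F => p.1 + p.2 • x) ?_ 2 ?_
    · rwa [Finset.card_product, Finset.card_univ, mul_comm] at this
    · rintro ⟨y, t⟩ hp
      simp only [Finset.mem_filter, Finset.mem_product, Finset.mem_univ, and_true, true_and, hS,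
        hT] at hp ⊢
      rw [QuadraticMap.polar_add_right Q x y (t • x), QuadraticMap.polar_smul_right Q t x x, hxx,
        smul_zero, add_zero, hp.2]
    · intro z hz
      refine le_trans (Finset.card_le_card_of_injOn (fun p : V × F => p.2) ?_ ?_)
        (card_quad_roots_le (Q x) (-(QuadraticMap.polar Q z x)) (Q z - γ) hx)
      · rintro ⟨y, t⟩ hp
        rw [Finset.mem_coe] at hp ⊢
        simp only [Finset.mem_filter, Finset.mem_product, Finset.mem_univ, and_true, true_and,
          hS] at hp ⊢
        obtain ⟨⟨hy1, hy2⟩, hyz⟩ := hp
        have hy : y = z + (-t) • x := by rw [← hyz, neg_smul]; abel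
        have := map_add_smul Q z x (-t)
        rw [← hy, hy1] at this
        linear_combination -this
      · rintro ⟨y, t⟩ hp ⟨y', t'⟩ hp' htt
        rw [Finset.mem_coe] at hp hp'
        simp only [Finset.mem_filter, Finset.mem_product, Finset.mem_univ, and_true] at hp hp' htt
        obtain ⟨-, hyz⟩ := hp
        obtain ⟨-, hyz'⟩ := hp'
        subst htt
        have : y = y' := by
          have := hyz.trans hyz'.symm
          exact add_right_cancel this
        rw [this]
  -- step (ii)
  have h2' : Fintype.card F * T.card ≤ Fintype.card V := by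
    rcases T.eq_empty_or_nonempty with hemp | ⟨w, hw⟩
    · rw [hemp]; simp
    · have hw' : QuadraticMap.polar Q x w = β := by
        simpa [hT] using hw
      have := Finset.card_le_card_of_injOn (s := T ×ˢ (Finset.univ : Finset F))
        (t := (Finset.univ : Finset V)) (fun p : V × F => p.1 + p.2 • w)
        (fun _ _ => Finset.mem_univ _) ?_
      · rwa [Finset.card_product, Finset.card_univ, Finset.card_univ, mul_comm] at this
      · rintro ⟨z, s⟩ hp ⟨z', s'⟩ hp' he
        simp only [Finset.coe_product, Finset.coe_univ, Set.mem_prod, Finset.mem_coe, Set.mem_univ,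
          and_true, hT, Finset.mem_filter, Finset.mem_univ, true_and] at hp hp' he
        have e1 := congrArg (QuadraticMap.polar Q x) he
        rw [QuadraticMap.polar_add_right Q x z (s • w), QuadraticMap.polar_add_right Q x z' (s' • w),
          QuadraticMap.polar_smul_right Q s x w, QuadraticMap.polar_smul_right Q s' x w, hp, hp',
          hw', smul_eq_mul, smul_eq_mul] at e1
        have hss : s = s' := by
          have : (s - s') * β = 0 := by linear_combination e1
          rcases mul_eq_zero.1 this with h | h
          · exact sub_eq_zero.1 h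
          · exact absurd h hβ
        subst hss
        have : z = z' := add_right_cancel he
        rw [this]
  calc Fintype.card F ^ 2 * S.card = Fintype.card F * (Fintype.card F * S.card) := by ring
    _ ≤ Fintype.card F * (2 * T.card) := Nat.mul_le_mul_left _ h1
    _ = 2 * (Fintype.card F * T.card) := by ring
    _ ≤ 2 * Fintype.card V := Nat.mul_le_mul_left _ h2'

end Cfsg.Agent.Helper34.SpE
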