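import Mathlib
import Cfsg.Agent.Helper13.SqOMDefs

/-!
# (ADJ1) if the row `a` of an isometry is `e_a + z e_{rev a}` then `z = 0`
(helper34, for helper13's piece (OM) of S4625)
-/

set_option autoImplicit false

namespace Cfsg.Agent.Helper34.SqOM

open Matrix Cfsg Cfsg.Agent.Helper5.OmBN Cfsg.Agent.Helper13.SqOM

variable {F : Type*} [Field F] {m : ℕ} {α β : F}

/-- the polar product with an outer basis vector -/
theorem Bm_single_outer (u : Fin (2 * m + 2) → F) (t : Fin (2 * m + 2)) (ht1 : t ≠ c1)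
    (ht2 : t ≠ c2) : Bm α β u (Pi.single t 1) = u (Fin.rev t) := by
  rcases pos_cases t with ⟨k, rfl⟩ | ⟨k, rfl⟩ | rfl | rfl
  · rw [Bm_single_lo, rev_lo]
  · rw [Bm_single_hi, rev_hi]
  · exact absurd rfl ht1
  · exact absurd rfl ht2

/-- the entries of the column `rev a` of the inverse, against the columns of the polar form -/
theorem Bm_col_inv (g : OG m α β) (a s : Fin (2 * m + 2)) (ha1 : a ≠ c1) (ha2 : a ≠ c2) :
    Bm α β (fun r => mat g⁻¹ r (Fin.rev a)) (Pi.single s 1) = mat g a s := by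
  have hr1 : Fin.rev a ≠ c1 := fun h => ha2 (by rw [← Fin.rev_rev a, h, rev_c1])
  have hr2 : Fin.rev a ≠ c2 := fun h => ha1 (by rw [← Fin.rev_rev a, h, rev_c2])
  have h := Bm_mulVec_inv g (Pi.single s (1 : F)) (Pi.single (Fin.rev a) (1 : F))
  rw [Cfsg.Agent.Helper5.OmBN.mulVec_single_one, Cfsg.Agent.Helper5.OmBN.mulVec_single_one, Bm_single_outer _ _ hr1 hr2, Fin.rev_rev] at h
  rw [Bm_comm, ← h]

/-- (ADJ1) if the row `a` of an isometry is `e_a + z e_{rev a}` then `z = 0` -/
theorem apply_rev_eq_zero (hdisc : 4 * β - α ^ 2 ≠ 0) (g : OG m α β) (a : Fin (2 * m + 2))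
    (ha1 : a ≠ c1) (ha2 : a ≠ c2)
    (h0 : ∀ s : Fin (2 * m + 2), s ≠ a → s ≠ Fin.rev a → mat g a s = 0)
    (h1 : mat g a a = 1) : mat g a (Fin.rev a) = 0 := by
  have hr1 : Fin.rev a ≠ c1 := fun h => ha2 (by rw [← Fin.rev_rev a, h, rev_c1])
  have hr2 : Fin.rev a ≠ c2 := fun h => ha1 (by rw [← Fin.rev_rev a, h, rev_c2])
  -- the column `rev a` of `g⁻¹`
  have hout : ∀ s : Fin (2 * m + 2), s ≠ c1 → s ≠ c2 →
      mat g⁻¹ (Fin.rev s) (Fin.rev a) = mat g a s := by
    intro s hs1 hs2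
    rw [← Bm_col_inv g a s ha1 ha2, Bm_single_outer _ _ hs1 hs2]
  have hm1 := Bm_col_inv g a c1 ha1 ha2
  have hm2 := Bm_col_inv g a c2 ha1 ha2
  rw [Bm_single_c1, h0 c1 (fun h => ha1 h.symm) (fun h => hr1 h.symm)] at hm1
  rw [Bm_single_c2, h0 c2 (fun h => ha2 h.symm) (fun h => hr2 h.symm)] at hm2
  have hx : mat g⁻¹ c1 (Fin.rev a) = 0 := by
    apply mul_left_cancel₀ hdisc
    linear_combination 2 * β * hm1 - α * hm2
  have hy : mat g⁻¹ c2 (Fin.rev a) = 0 := by
    apply mul_left_cancel₀ hdisc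
    linear_combination 2 * hm2 - α * hm1
  have hq := q_col g⁻¹ (Fin.rev a)
  unfold qd Nf at hq
  rw [if_neg hr1, if_neg hr2, hx, hy] at hq
  -- the sum has a single term
  rcases pos_cases a with ⟨j, rfl⟩ | ⟨j, rfl⟩ | rfl | rfl
  · rw [rev_lo] at hq hout h0 ⊢
    rw [Finset.sum_eq_single j] at hq
    · have e1 : mat g⁻¹ (lo j) (hi j) = mat g (lo j) (hi j) := by
        have := hout (hi j) (hi_ne_c1 j) (hi_ne_c2 j)
        rwa [rev_hi] at this
      have e2 : mat g⁻¹ (hi j) (hi j) = 1 := by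
        have := hout (lo j) (lo_ne_c1 j) (lo_ne_c2 j)
        rwa [rev_lo, h1] at this
      rw [e1, e2] at hq
      linear_combination hq
    · intro i _ hij
      have : mat g⁻¹ (lo i) (hi j) = 0 := by
        have := hout (hi i) (hi_ne_c1 i) (hi_ne_c2 i)
        rw [rev_hi] at this
        rw [this]
        apply h0
        · exact fun h => lo_ne_hi j i h.symm
        · exact fun h => hij (hi_injective h)
      rw [this, zero_mul]
    · intro h; exact absurd (Finset.mem_univ _) h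
  · rw [rev_hi] at hq hout h0 ⊢
    rw [Finset.sum_eq_single j] at hq
    · have e1 : mat g⁻¹ (hi j) (lo j) = mat g (hi j) (lo j) := by
        have := hout (lo j) (lo_ne_c1 j) (lo_ne_c2 j)
        rwa [rev_lo] at this
      have e2 : mat g⁻¹ (lo j) (lo j) = 1 := by
        have := hout (hi j) (hi_ne_c1 j) (hi_ne_c2 j)
        rwa [rev_hi, h1] at this
      rw [e1, e2] at hq
      linear_combination hq
    · intro i _ hij
      have : mat g⁻¹ (hi i) (lo j) = 0 := by
        have := hout (lo i) (lo_ne_c1 i) (lo_ne_c2 i)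
        rw [rev_lo] at this
        rw [this]
        apply h0
        · exact fun h => lo_ne_hi i j h
        · exact fun h => hij (lo_injective h)
      rw [this, mul_zero]
    · intro h; exact absurd (Finset.mem_univ _) h
  · exact absurd rfl ha1
  · exact absurd rfl ha2

end Cfsg.Agent.Helper34.SqOM
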