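import Mathlib

/-!
# A group of "transvection-like" automorphisms of an abelian normal `r`-subgroup
(helper34, piece (CL) for helper74's S4130)

`card_commutator_le` : if `E` acts on the abelian normal `r`-subgroup `N` through an abelian group
without elements of order `r`, and every class size of an element of `E` is not divisible by `r ^ 2`,
then `|[N, E]| ≤ r`.
-/

set_option autoImplicit false

namespace Cfsg.Agent.Helper34.Sqf34

open scoped commutatorElement

variable {G : Type*} [Group G]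

/-- For a normal subgroup `R`, the relative index `|R : R ∩ Y|` divides `|G : Y|`. -/
theorem relIndex_dvd_index_right [Finite G] (R Y : Subgroup G) [R.Normal] :
    Y.relIndex R ∣ Y.index := by
  have hYH : Y ≤ Y ⊔ R := le_sup_left
  have h1 := Subgroup.relIndex_mul_index hYH
  have hρ : R.relIndex (Y ⊔ R) = (Y ⊓ R).relIndex Y := by
    rw [Subgroup.relIndex_sup_right, inf_comm, Subgroup.inf_relIndex_right]
  have c1 := Subgroup.relIndex_mul_relIndex (Y ⊓ R) R (Y ⊔ R) inf_le_right le_sup_right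
  have c2 := Subgroup.relIndex_mul_relIndex (Y ⊓ R) Y (Y ⊔ R) inf_le_left le_sup_left
  rw [Subgroup.inf_relIndex_right, hρ] at c1
  have hne : (Y ⊓ R).relIndex Y ≠ 0 := by
    rw [Subgroup.relIndex]; exact Subgroup.index_ne_zero_of_finite
  have : Y.relIndex R = Y.relIndex (Y ⊔ R) := by
    have h3 : (Y ⊓ R).relIndex Y * Y.relIndex R = (Y ⊓ R).relIndex Y * Y.relIndex (Y ⊔ R) := by
      rw [c2, mul_comm, c1]
    exact Nat.eq_of_mul_eq_mul_left (Nat.pos_of_ne_zero hne) h3
  rw [this, ← h1]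
  exact dvd_mul_right _ _

/-- Two subgroups of the same prime order with nontrivial intersection are equal. -/
theorem eq_of_inf_ne_bot [Finite G] {r : ℕ} (hr : r.Prime) {A B : Subgroup G}
    (hA : Nat.card A = r) (hB : Nat.card B = r) (h : A ⊓ B ≠ ⊥) : A = B := by
  have h1 : Nat.card (A ⊓ B : Subgroup G) ∣ r := by
    rw [← hA]; exact Subgroup.card_dvd_of_le inf_le_left
  rcases (Nat.dvd_prime hr).mp h1 with h2 | h2
  · exact absurd (Subgroup.card_eq_one.mp h2) h
  · have h3 : A ⊓ B = A := Subgroup.eq_of_le_of_card_ge inf_le_left (by rw [h2, hA])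
    have h4 : A ≤ B := by rw [← h3]; exact inf_le_right
    exact Subgroup.eq_of_le_of_card_ge h4 (by rw [hA, hB])

/-- The commutator map `n ↦ n e n⁻¹ e⁻¹`. -/
def cm (e n : G) : G := n * e * n⁻¹ * e⁻¹

section CM

variable (N : Subgroup G) [hN : N.Normal]

theorem cm_mem (e : G) {n : G} (hn : n ∈ N) : cm e n ∈ N := by
  have h1 : cm e n = n * (e * n⁻¹ * e⁻¹) := by unfold cm; group
  rw [h1]
  exact N.mul_mem hn (hN.conj_mem _ (N.inv_mem hn) e)

theorem cm_mul (hNab : ∀ a ∈ N, ∀ b ∈ N, a * b = b * a) (e : G) {n m : G} (hn : n ∈ N)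
    (hm : m ∈ N) : cm e (n * m) = cm e n * cm e m := by
  have hx : e * n⁻¹ * e⁻¹ ∈ N := hN.conj_mem _ (N.inv_mem hn) e
  have hy : cm e m ∈ N := cm_mem N e hm
  have hxy := hNab _ hx _ hy
  unfold cm at hxy ⊢
  calc n * m * e * (n * m)⁻¹ * e⁻¹
      = n * ((m * e * m⁻¹ * e⁻¹) * (e * n⁻¹ * e⁻¹)) := by group
    _ = n * ((e * n⁻¹ * e⁻¹) * (m * e * m⁻¹ * e⁻¹)) := by rw [hxy]
    _ = n * e * n⁻¹ * e⁻¹ * (m * e * m⁻¹ * e⁻¹) := by group

/-- The commutator map as a homomorphism on `N`. -/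
def cmHom (hNab : ∀ a ∈ N, ∀ b ∈ N, a * b = b * a) (e : G) : ↥N →* G where
  toFun n := cm e (n : G)
  map_one' := by show cm e 1 = 1; unfold cm; group
  map_mul' n m := cm_mul N hNab e n.2 m.2

theorem cm_eq_one_iff (e n : G) : cm e n = 1 ↔ n * e = e * n := by
  unfold cm
  constructor
  · intro h
    calc n * e = (n * e * n⁻¹ * e⁻¹) * (e * n) := by group
      _ = e * n := by rw [h, one_mul]
  · intro h
    calc n * e * n⁻¹ * e⁻¹ = (n * e) * n⁻¹ * e⁻¹ := by group
      _ = (e * n) * n⁻¹ * e⁻¹ := by rw [h]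
      _ = 1 := by group

end CM

theorem card_commutator_le [Finite G] (r : ℕ) [hr : Fact r.Prime] (N E : Subgroup G)
    [hN : N.Normal] (hNr : IsPGroup r N) (hNab : ∀ a ∈ N, ∀ b ∈ N, a * b = b * a)
    (hEab : ∀ e ∈ E, ∀ e' ∈ E, e * e' * e⁻¹ * e'⁻¹ ∈ Subgroup.centralizer (N : Set G))
    (hr' : ∀ e ∈ E, e ^ r ∈ Subgroup.centralizer (N : Set G) →
      e ∈ Subgroup.centralizer (N : Set G))
    (hsmall : ∀ e ∈ E, ¬ r ^ 2 ∣ (Subgroup.centralizer ({e} : Set G)).index) :
    Nat.card (⁅N, E⁆ : Subgroup G) ≤ r := by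
  classical
  have hrp := hr.out
  obtain ⟨L, hL⟩ : ∃ L : G → Subgroup G, ∀ e, L e = (cmHom N hNab e).range := ⟨_, fun _ => rfl⟩
  have hmemL : ∀ e n, n ∈ N → cm e n ∈ L e := fun e n hn => by
    rw [hL]; exact ⟨⟨n, hn⟩, rfl⟩
  have hLelim : ∀ e x, x ∈ L e → ∃ n ∈ N, cm e n = x := by
    intro e x hx
    rw [hL] at hx
    obtain ⟨n, rfl⟩ := hx
    exact ⟨n, n.2, rfl⟩
  have hLN : ∀ e, L e ≤ N := by
    intro e x hx
    obtain ⟨n, hn, rfl⟩ := hLelim e x hx
    exact cm_mem N e hn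
  -- cardinalities
  have hLcard : ∀ e ∈ E, Nat.card (L e) = 1 ∨ Nat.card (L e) = r := by
    intro e he
    have h1 : Nat.card (L e) = (Subgroup.centralizer ({e} : Set G)).relIndex N := by
      rw [hL, ← Subgroup.index_ker]
      unfold Subgroup.relIndex
      congr 1
      ext n
      rw [MonoidHom.mem_ker, Subgroup.mem_subgroupOf, Subgroup.mem_centralizer_singleton_iff]
      show cm e n = 1 ↔ _
      rw [cm_eq_one_iff]
    obtain ⟨k, hk⟩ := IsPGroup.iff_card.mp hNr
    have h2 : (Subgroup.centralizer ({e} : Set G)).relIndex N ∣ r ^ k := by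
      rw [← hk]; exact Subgroup.relIndex_dvd_card _ _
    obtain ⟨j, -, hj⟩ := (Nat.dvd_prime_pow hrp).mp h2
    have h3 := relIndex_dvd_index_right N (Subgroup.centralizer ({e} : Set G))
    rw [hj] at h3
    have hj1 : j ≤ 1 := by
      by_contra hcon
      have hcon' : 2 ≤ j := by omega
      exact hsmall e he ((pow_dvd_pow r hcon').trans h3)
    rw [h1, hj]
    interval_cases j
    · left; simp
    · right; simp
  have hLcard' : ∀ e ∈ E, L e ≠ ⊥ → Nat.card (L e) = r := by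
    intro e he hne
    rcases hLcard e he with h | h
    · exact absurd (Subgroup.card_eq_one.mp h) hne
    · exact h
  -- the actions of e and e' on N commute
  have hF3 : ∀ e ∈ E, ∀ e' ∈ E, ∀ x ∈ N,
      e * (e' * x * e'⁻¹) * e⁻¹ = e' * (e * x * e⁻¹) * e'⁻¹ := by
    intro e he e' he' x hx
    have hz := hEab e he e' he'
    have hy : e' * (e * x * e⁻¹) * e'⁻¹ ∈ N := hN.conj_mem _ (hN.conj_mem _ hx e) e'
    have hyz := Subgroup.mem_centralizer_iff.mp hz _ hy
    calc e * (e' * x * e'⁻¹) * e⁻¹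
        = (e * e' * e⁻¹ * e'⁻¹) * (e' * (e * x * e⁻¹) * e'⁻¹) * (e * e' * e⁻¹ * e'⁻¹)⁻¹ := by group
      _ = (e' * (e * x * e⁻¹) * e'⁻¹) * (e * e' * e⁻¹ * e'⁻¹) * (e * e' * e⁻¹ * e'⁻¹)⁻¹ := by
          rw [hyz]
      _ = e' * (e * x * e⁻¹) * e'⁻¹ := by group
  have hconj : ∀ e ∈ E, ∀ e' ∈ E, ∀ n ∈ N, e * cm e' n * e⁻¹ = cm e' (e * n * e⁻¹) := by
    intro e he e' he' n hn
    have h := hF3 e he e' he' n⁻¹ (N.inv_mem hn)
    unfold cm
    calc e * (n * e' * n⁻¹ * e'⁻¹) * e⁻¹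
        = (e * n * e⁻¹) * (e * (e' * n⁻¹ * e'⁻¹) * e⁻¹) := by group
      _ = (e * n * e⁻¹) * (e' * (e * n⁻¹ * e⁻¹) * e'⁻¹) := by rw [h]
      _ = e * n * e⁻¹ * e' * (e * n * e⁻¹)⁻¹ * e'⁻¹ := by group
  have hnorm : ∀ e ∈ E, ∀ e' ∈ E, ∀ x ∈ L e', e * x * e⁻¹ ∈ L e' := by
    intro e he e' he' x hx
    obtain ⟨n, hn, rfl⟩ := hLelim e' x hx
    rw [hconj e he e' he' n hn]
    exact hmemL e' _ (hN.conj_mem _ hn e)
  -- Step B
  have hB : ∀ e ∈ E, ∀ e' ∈ E, L e ⊓ L e' = ⊥ → ∀ x ∈ L e', cm e x = 1 := by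
    intro e he e' he' hinf x hx
    have h1 : cm e x ∈ L e := hmemL e x (hLN e' hx)
    have h2 : cm e x ∈ L e' := by
      have h3 : cm e x = x * (e * x⁻¹ * e⁻¹) := by unfold cm; group
      rw [h3]
      exact (L e').mul_mem hx (hnorm e he e' he' _ ((L e').inv_mem hx))
    have h4 : cm e x ∈ L e ⊓ L e' := ⟨h1, h2⟩
    rw [hinf, Subgroup.mem_bot] at h4
    exact h4
  -- Step C
  have hC : ∀ e e' : G, (∀ x ∈ L e', cm e x = 1) → ∀ n ∈ N, cm (e * e') n = cm e n * cm e' n := by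
    intro e e' h n hn
    have h1 := (cm_eq_one_iff e (cm e' n)).mp (h _ (hmemL e' n hn))
    have h2 : e * cm e' n * e⁻¹ = cm e' n := by
      calc e * cm e' n * e⁻¹ = (cm e' n * e) * e⁻¹ := by rw [h1]
        _ = cm e' n := by group
    have h3 : cm (e * e') n = cm e n * (e * cm e' n * e⁻¹) := by unfold cm; group
    rw [h3, h2]
  -- Step D
  have hD : ∀ e ∈ E, L e ≠ ⊥ → ∃ l ∈ L e, cm e l ≠ 1 := by
    intro e he hne
    by_contra hcon
    have hcon' : ∀ l ∈ L e, l * e = e * l := by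
      intro l hl
      by_contra h
      exact hcon ⟨l, hl, fun h1 => h ((cm_eq_one_iff e l).mp h1)⟩
    have hcardL := hLcard' e he hne
    have hpow : e ^ r ∈ Subgroup.centralizer (N : Set G) := by
      rw [Subgroup.mem_centralizer_iff]
      intro n hn
      have hc : cm e n ∈ L e := hmemL e n hn
      have hce : cm e n * e = e * cm e n := hcon' _ hc
      have hen : e * n * e⁻¹ = (cm e n)⁻¹ * n := by unfold cm; group
      have hcomm : Commute e ((cm e n)⁻¹) := (Commute.inv_right (show Commute e (cm e n) from hce.symm))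
      have hind : ∀ j : ℕ, e ^ j * n * (e ^ j)⁻¹ = ((cm e n)⁻¹) ^ j * n := by
        intro j
        induction j with
        | zero => simp
        | succ j ih =>
          calc e ^ (j + 1) * n * (e ^ (j + 1))⁻¹ = e * (e ^ j * n * (e ^ j)⁻¹) * e⁻¹ := by
                rw [pow_succ']; group
            _ = e * (((cm e n)⁻¹) ^ j * n) * e⁻¹ := by rw [ih]
            _ = (e * ((cm e n)⁻¹) ^ j) * n * e⁻¹ := by group
            _ = (((cm e n)⁻¹) ^ j * e) * n * e⁻¹ := by rw [(hcomm.pow_right j).eq]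
            _ = ((cm e n)⁻¹) ^ j * (e * n * e⁻¹) := by group
            _ = ((cm e n)⁻¹) ^ j * ((cm e n)⁻¹ * n) := by rw [hen]
            _ = ((cm e n)⁻¹) ^ (j + 1) * n := by rw [pow_succ]; group
      have hcr : (cm e n) ^ r = 1 := by
        have h1 : (⟨cm e n, hc⟩ : L e) ^ Nat.card (L e) = 1 := pow_card_eq_one'
        rw [hcardL] at h1
        exact congrArg Subtype.val h1
      have h2 := hind r
      rw [inv_pow, hcr, inv_one, one_mul] at h2
      calc n * e ^ r = (e ^ r * n * (e ^ r)⁻¹) * e ^ r := by rw [h2]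
        _ = e ^ r * n := by group
    have hcen := hr' e he hpow
    apply hne
    rw [Subgroup.eq_bot_iff_forall]
    intro x hx
    obtain ⟨n, hn, rfl⟩ := hLelim e x hx
    exact (cm_eq_one_iff e n).mpr (Subgroup.mem_centralizer_iff.mp hcen n hn)
  -- main claim
  have hmain : ∀ e ∈ E, ∀ e' ∈ E, L e ≠ ⊥ → L e' ≠ ⊥ → L e = L e' := by
    intro e he e' he' hne hne'
    by_contra hdiff
    have hc := hLcard' e he hne
    have hc' := hLcard' e' he' hne'
    have hinf : L e ⊓ L e' = ⊥ := by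
      by_contra h
      exact hdiff (eq_of_inf_ne_bot hrp hc hc' h)
    have hinf' : L e' ⊓ L e = ⊥ := by rw [inf_comm]; exact hinf
    have hB1 := hB e he e' he' hinf
    have hB2 := hB e' he' e he hinf'
    have hC1 := hC e e' hB1
    have hee' : e * e' ∈ E := E.mul_mem he he'
    obtain ⟨l, hl, hl1⟩ := hD e he hne
    obtain ⟨l', hl', hl1'⟩ := hD e' he' hne'
    have h1 : cm (e * e') l = cm e l := by
      rw [hC1 l (hLN e hl), hB2 l hl, mul_one]
    have h2 : cm (e * e') l' = cm e' l' := by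
      rw [hC1 l' (hLN e' hl'), hB1 l' hl', one_mul]
    have hne'' : L (e * e') ≠ ⊥ := by
      intro h
      have h3 : cm (e * e') l ∈ L (e * e') := hmemL _ _ (hLN e hl)
      rw [h, Subgroup.mem_bot, h1] at h3
      exact hl1 h3
    have hc'' := hLcard' (e * e') hee' hne''
    have h3 : L (e * e') = L e := by
      apply eq_of_inf_ne_bot hrp hc'' hc
      intro h
      have h4 : cm e l ∈ L (e * e') ⊓ L e :=
        ⟨by rw [← h1]; exact hmemL _ _ (hLN e hl), hmemL e l (hLN e hl)⟩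
      rw [h, Subgroup.mem_bot] at h4
      exact hl1 h4
    have h4 : L (e * e') = L e' := by
      apply eq_of_inf_ne_bot hrp hc'' hc'
      intro h
      have h5 : cm e' l' ∈ L (e * e') ⊓ L e' :=
        ⟨by rw [← h2]; exact hmemL _ _ (hLN e' hl'), hmemL e' l' (hLN e' hl')⟩
      rw [h, Subgroup.mem_bot] at h5
      exact hl1' h5
    exact hdiff (h3.symm.trans h4)
  -- assembly
  by_cases hall : ∀ e ∈ E, L e = ⊥
  · have h1 : (⁅N, E⁆ : Subgroup G) = ⊥ := by
      rw [eq_bot_iff, Subgroup.commutator_le]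
      intro n hn e he
      have h2 : ⁅n, e⁆ ∈ L e := hmemL e n hn
      rw [hall e he] at h2
      exact h2
    rw [h1, Subgroup.card_bot]
    exact hrp.one_lt.le
  · have hex : ∃ e ∈ E, L e ≠ ⊥ := by
      by_contra hcon
      apply hall
      intro e he
      by_contra h
      exact hcon ⟨e, he, h⟩
    obtain ⟨e₀, he₀, hne₀⟩ := hex
    have h1 : (⁅N, E⁆ : Subgroup G) ≤ L e₀ := by
      rw [Subgroup.commutator_le]
      intro n hn e he
      have h2 : ⁅n, e⁆ ∈ L e := hmemL e n hn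
      by_cases h : L e = ⊥
      · rw [h, Subgroup.mem_bot] at h2
        rw [h2]; exact (L e₀).one_mem
      · rw [hmain e he e₀ he₀ h hne₀] at h2
        exact h2
    calc Nat.card (⁅N, E⁆ : Subgroup G) ≤ Nat.card (L e₀) := Subgroup.card_le_of_le h1
      _ = r := hLcard' e₀ he₀ hne₀

end Cfsg.Agent.Helper34.Sqf34
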