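import Mathlib
import Cfsg.Agent.Helper34.SqfCL

/-!
# Squarefree class sizes: `r'`-elements centralize a nonabelian normal Sylow `r`-subgroup of class 2
(helper34, piece (DG1) for helper74's S4130)
-/

set_option autoImplicit false

namespace Cfsg.Agent.Helper34.Sqf34

variable {G : Type*} [Group G]

/-- If `[u, v]` is central and `u` commutes with `x`, then `u` commutes with `[x, v]`. -/
theorem commute_comm_of_central (u v x z : G) (hz : z = u * v * u⁻¹ * v⁻¹)
    (hzc : ∀ g : G, g * z = z * g) (hux : u * x = x * u) :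
    u * (x * v * x⁻¹ * v⁻¹) = (x * v * x⁻¹ * v⁻¹) * u := by
  have huv : u * v = z * v * u := by rw [hz]; group
  have huv' : u * v⁻¹ = z⁻¹ * v⁻¹ * u := by
    have h1 : v⁻¹ * (u * v) * v⁻¹ = v⁻¹ * (z * v * u) * v⁻¹ := by rw [huv]
    have h2 : v⁻¹ * u = z * (u * v⁻¹) := by
      calc v⁻¹ * u = v⁻¹ * (u * v) * v⁻¹ := by group
        _ = v⁻¹ * (z * v * u) * v⁻¹ := h1
        _ = (v⁻¹ * z) * v * u * v⁻¹ := by group
        _ = (z * v⁻¹) * v * u * v⁻¹ := by rw [hzc v⁻¹]
        _ = z * (u * v⁻¹) := by group
    calc u * v⁻¹ = z⁻¹ * (z * (u * v⁻¹)) := by group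
      _ = z⁻¹ * (v⁻¹ * u) := by rw [← h2]
      _ = z⁻¹ * v⁻¹ * u := by group
  have hux' : u * x⁻¹ = x⁻¹ * u := by
    calc u * x⁻¹ = x⁻¹ * (x * u) * x⁻¹ := by group
      _ = x⁻¹ * (u * x) * x⁻¹ := by rw [hux]
      _ = x⁻¹ * u := by group
  calc u * (x * v * x⁻¹ * v⁻¹) = (u * x) * v * x⁻¹ * v⁻¹ := by group
    _ = (x * u) * v * x⁻¹ * v⁻¹ := by rw [hux]
    _ = x * (u * v) * x⁻¹ * v⁻¹ := by group
    _ = x * (z * v * u) * x⁻¹ * v⁻¹ := by rw [huv]
    _ = (x * z) * v * (u * x⁻¹) * v⁻¹ := by group
    _ = (z * x) * v * (x⁻¹ * u) * v⁻¹ := by rw [hzc x, hux']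
    _ = z * (x * v * x⁻¹) * (u * v⁻¹) := by group
    _ = z * (x * v * x⁻¹) * (z⁻¹ * v⁻¹ * u) := by rw [huv']
    _ = ((x * v * x⁻¹) * z) * z⁻¹ * v⁻¹ * u := by rw [hzc (x * v * x⁻¹)]; group
    _ = (x * v * x⁻¹ * v⁻¹) * u := by group

/-- A subgroup between a subgroup of prime relative index and the whole, containing an element
outside, is the whole. -/
theorem le_of_relIndex_prime {r : ℕ} (hr : r.Prime) {A B P : Subgroup G} (hAB : A ≤ B) (hBP : B ≤ P)
    (hidx : A.relIndex P = r) {w : G} (hwB : w ∈ B) (hwA : w ∉ A) : P ≤ B := by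
  have h1 := Subgroup.relIndex_mul_relIndex A B P hAB hBP
  rw [hidx] at h1
  have h2 : A.relIndex B ≠ 1 := by
    intro h
    exact hwA (Subgroup.relIndex_eq_one.mp h hwB)
  have h3 : A.relIndex B ∣ r := ⟨_, h1.symm⟩
  rcases (Nat.dvd_prime hr).mp h3 with h | h
  · exact absurd h h2
  · rw [h] at h1
    have h4 : B.relIndex P = 1 := by
      have : r * B.relIndex P = r * 1 := by rw [h1, mul_one]
      exact Nat.eq_of_mul_eq_mul_left hr.pos this
    exact Subgroup.relIndex_eq_one.mp h4

theorem commute_of_nonabelian [Finite G] (r : ℕ) [hr : Fact r.Prime] (P : Sylow r G)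
    (hPn : (P : Subgroup G).Normal)
    (h : ∀ x : G, ¬ r ^ 2 ∣ (Subgroup.centralizer ({x} : Set G)).index)
    (hcen : ∀ a ∈ (P : Subgroup G), ∀ b ∈ (P : Subgroup G),
      a * b * a⁻¹ * b⁻¹ ∈ Subgroup.center G)
    (hna : ∃ a ∈ (P : Subgroup G), ∃ b ∈ (P : Subgroup G), a * b ≠ b * a) (x : G)
    (hx : (orderOf x).Coprime r) : ∀ v ∈ (P : Subgroup G), x * v = v * x := by
  classical
  have hrp := hr.out
  have := hPn
  -- the relative index of a centralizer in P is 1 or r
  have hK : ∀ g : G, (Subgroup.centralizer ({g} : Set G)).relIndex (P : Subgroup G) = 1 ∨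
      (Subgroup.centralizer ({g} : Set G)).relIndex (P : Subgroup G) = r := by
    intro g
    obtain ⟨k, hk⟩ := IsPGroup.iff_card.mp P.isPGroup'
    have h2 : (Subgroup.centralizer ({g} : Set G)).relIndex (P : Subgroup G) ∣ r ^ k := by
      rw [← hk]; exact Subgroup.relIndex_dvd_card _ _
    obtain ⟨j, -, hj⟩ := (Nat.dvd_prime_pow hrp).mp h2
    have h3 := relIndex_dvd_index_right (P : Subgroup G) (Subgroup.centralizer ({g} : Set G))
    rw [hj] at h3
    have hj1 : j ≤ 1 := by
      by_contra hcon
      have hcon' : 2 ≤ j := by omega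
      exact h g ((pow_dvd_pow r hcon').trans h3)
    rw [hj]
    interval_cases j
    · left; simp
    · right; simp
  rcases hK x with h1 | hidx
  · intro v hv
    have h2 : v ∈ Subgroup.centralizer ({x} : Set G) := Subgroup.relIndex_eq_one.mp h1 hv
    exact (Subgroup.mem_centralizer_singleton_iff.mp h2).symm
  · -- the case of index r
    set A : Subgroup G := (P : Subgroup G) ⊓ Subgroup.centralizer ({x} : Set G) with hA
    have hAP : A ≤ (P : Subgroup G) := inf_le_left
    have hAidx : A.relIndex (P : Subgroup G) = r := by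
      rw [hA, Subgroup.inf_relIndex_left]; exact hidx
    have hAx : ∀ u ∈ A, u * x = x * u := fun u hu =>
      Subgroup.mem_centralizer_singleton_iff.mp hu.2
    -- (i) A is abelian
    have hAab : ∀ y ∈ A, ∀ u ∈ A, u * y = y * u := by
      intro y hy u hu
      have hyx : Commute x y := (hAx y hy).symm
      obtain ⟨j, hj⟩ := (IsPGroup.iff_orderOf.mp P.isPGroup') ⟨y, hy.1⟩
      have hoy : orderOf y = r ^ j := by
        rw [← hj]; exact (Subgroup.orderOf_mk y hy.1).symm
      have hcop : (orderOf y).Coprime (orderOf x) := by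
        rw [hoy]; exact (Nat.Coprime.pow_right j hx).symm
      -- x and y are powers of x * y
      obtain ⟨t, ht⟩ := exists_pow_eq_self_of_coprime hcop
      obtain ⟨t', ht'⟩ := exists_pow_eq_self_of_coprime hcop.symm
      have hxpow : x = ((x * y) ^ orderOf y) ^ t := by
        rw [hyx.mul_pow, pow_orderOf_eq_one, mul_one, ht]
      have hypow : y = ((x * y) ^ orderOf x) ^ t' := by
        rw [hyx.mul_pow, pow_orderOf_eq_one, one_mul, ht']
      have hle : Subgroup.centralizer ({x * y} : Set G) ≤
          Subgroup.centralizer ({x} : Set G) ⊓ Subgroup.centralizer ({y} : Set G) := by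
        intro c hc
        have hc' : Commute c (x * y) := Subgroup.mem_centralizer_singleton_iff.mp hc
        have hcx : c ∈ Subgroup.centralizer ({x} : Set G) := by
          rw [Subgroup.mem_centralizer_singleton_iff, hxpow]
          exact ((hc'.pow_right _).pow_right _).eq
        have hcy : c ∈ Subgroup.centralizer ({y} : Set G) := by
          rw [Subgroup.mem_centralizer_singleton_iff, hypow]
          exact ((hc'.pow_right _).pow_right _).eq
        exact ⟨hcx, hcy⟩
      have hle1 : Subgroup.centralizer ({x * y} : Set G) ≤ Subgroup.centralizer ({x} : Set G) :=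
        hle.trans inf_le_left
      have hdvd := Subgroup.relIndex_dvd_of_le_left (P : Subgroup G) hle1
      rw [hidx] at hdvd
      have hidx' : (Subgroup.centralizer ({x * y} : Set G)).relIndex (P : Subgroup G) = r := by
        rcases hK (x * y) with h1 | h1
        · rw [h1] at hdvd
          exact absurd (Nat.dvd_one.mp hdvd) hrp.one_lt.ne'
        · exact h1
      set B : Subgroup G := (P : Subgroup G) ⊓ Subgroup.centralizer ({x * y} : Set G) with hB
      have hBA : B ≤ A := inf_le_inf_left _ hle1
      have hBidx : B.relIndex (P : Subgroup G) = r := by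
        rw [hB, Subgroup.inf_relIndex_left]; exact hidx'
      have h1 := Subgroup.relIndex_mul_relIndex B A (P : Subgroup G) hBA hAP
      rw [hAidx, hBidx] at h1
      have h2 : B.relIndex A = 1 := by
        have : B.relIndex A * r = 1 * r := by rw [h1, one_mul]
        exact Nat.eq_of_mul_eq_mul_right hrp.pos this
      have huB : u ∈ B := Subgroup.relIndex_eq_one.mp h2 hu
      have huy : u ∈ Subgroup.centralizer ({y} : Set G) := (hle huB.2).2
      exact Subgroup.mem_centralizer_singleton_iff.mp huy
    -- (ii) A commutes with all [x, v]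
    have hAw : ∀ u ∈ A, ∀ v ∈ (P : Subgroup G),
        u * (x * v * x⁻¹ * v⁻¹) = (x * v * x⁻¹ * v⁻¹) * u := by
      intro u hu v hv
      have hz := hcen u hu.1 v hv
      exact commute_comm_of_central u v x _ rfl
        (fun g => Subgroup.mem_center_iff.mp hz g) (hAx u hu)
    have hwP : ∀ v ∈ (P : Subgroup G), x * v * x⁻¹ * v⁻¹ ∈ (P : Subgroup G) := fun v hv =>
      (P : Subgroup G).mul_mem (hPn.conj_mem v hv x) ((P : Subgroup G).inv_mem hv)
    by_cases hall : ∀ v ∈ (P : Subgroup G), x * v * x⁻¹ * v⁻¹ ∈ A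
    · -- (iii) x centralizes P
      intro v hv
      set w := x * v * x⁻¹ * v⁻¹ with hw
      have hwA : w ∈ A := hall v hv
      have hwx : Commute x w := (hAx w hwA).symm
      have hxv : x * v * x⁻¹ = w * v := by rw [hw]; group
      have hind : ∀ k : ℕ, x ^ k * v * (x ^ k)⁻¹ = w ^ k * v := by
        intro k
        induction k with
        | zero => simp
        | succ k ih =>
          calc x ^ (k + 1) * v * (x ^ (k + 1))⁻¹ = x * (x ^ k * v * (x ^ k)⁻¹) * x⁻¹ := by
                rw [pow_succ']; group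
            _ = x * (w ^ k * v) * x⁻¹ := by rw [ih]
            _ = (x * w ^ k) * v * x⁻¹ := by group
            _ = (w ^ k * x) * v * x⁻¹ := by rw [(hwx.pow_right k).eq]
            _ = w ^ k * (x * v * x⁻¹) := by group
            _ = w ^ k * (w * v) := by rw [hxv]
            _ = w ^ (k + 1) * v := by rw [pow_succ]; group
      have h1 := hind (orderOf x)
      rw [pow_orderOf_eq_one, inv_one, mul_one, one_mul] at h1
      have h2 : w ^ orderOf x = 1 := by
        calc w ^ orderOf x = (w ^ orderOf x * v) * v⁻¹ := by group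
          _ = v * v⁻¹ := by rw [← h1]
          _ = 1 := by group
      have h3 : orderOf w ∣ orderOf x := orderOf_dvd_of_pow_eq_one h2
      obtain ⟨j, hj⟩ := (IsPGroup.iff_orderOf.mp P.isPGroup') ⟨w, hwA.1⟩
      have how : orderOf w = r ^ j := by
        rw [← hj]; exact (Subgroup.orderOf_mk w hwA.1).symm
      have h4 : (orderOf w).Coprime (orderOf w) := by
        have h5 : (orderOf w).Coprime (orderOf x) := by
          rw [how]; exact (Nat.Coprime.pow_right j hx).symm
        exact Nat.Coprime.coprime_dvd_right h3 h5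
      have h5 : orderOf w = 1 := (Nat.coprime_self _).mp h4
      have h6 : w = 1 := orderOf_eq_one_iff.mp h5
      calc x * v = (x * v * x⁻¹ * v⁻¹) * (v * x) := by group
        _ = v * x := by rw [← hw, h6, one_mul]
    · -- P is abelian: contradiction
      exfalso
      have hex : ∃ v ∈ (P : Subgroup G), x * v * x⁻¹ * v⁻¹ ∉ A := by
        by_contra hcon
        apply hall
        intro v hv
        by_contra h1
        exact hcon ⟨v, hv, h1⟩
      obtain ⟨v, hv, hwA⟩ := hex
      set w := x * v * x⁻¹ * v⁻¹ with hw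
      have hwPm : w ∈ (P : Subgroup G) := hwP v hv
      -- every element of P commutes with A and w
      let B₁ : Subgroup G := (P : Subgroup G) ⊓ Subgroup.centralizer (A : Set G) ⊓
        Subgroup.centralizer ({w} : Set G)
      have hAB₁ : A ≤ B₁ := by
        intro u hu
        have h2 : u ∈ Subgroup.centralizer (A : Set G) :=
          Subgroup.mem_centralizer_iff.mpr fun y hy => (hAab y hy u hu).symm
        have h3 : u ∈ Subgroup.centralizer ({w} : Set G) :=
          Subgroup.mem_centralizer_singleton_iff.mpr (hAw u hu v hv)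
        exact Subgroup.mem_inf.mpr ⟨Subgroup.mem_inf.mpr ⟨hAP hu, h2⟩, h3⟩
      have hwB₁ : w ∈ B₁ := by
        have h2 : w ∈ Subgroup.centralizer (A : Set G) :=
          Subgroup.mem_centralizer_iff.mpr fun u hu => hAw u hu v hv
        have h3 : w ∈ Subgroup.centralizer ({w} : Set G) :=
          Subgroup.mem_centralizer_singleton_iff.mpr rfl
        exact Subgroup.mem_inf.mpr ⟨Subgroup.mem_inf.mpr ⟨hwPm, h2⟩, h3⟩
      have hB₁P : B₁ ≤ (P : Subgroup G) := inf_le_left.trans inf_le_left
      have hPB₁ := le_of_relIndex_prime hrp hAB₁ hB₁P hAidx hwB₁ hwA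
      -- A and w are central in P
      let B₂ : Subgroup G := (P : Subgroup G) ⊓ Subgroup.centralizer ((P : Subgroup G) : Set G)
      have hAB₂ : A ≤ B₂ := by
        intro u hu
        have h2 : u ∈ Subgroup.centralizer (((P : Subgroup G)) : Set G) := by
          rw [Subgroup.mem_centralizer_iff]
          intro g hg
          have h1 : g ∈ Subgroup.centralizer (A : Set G) :=
            (Subgroup.mem_inf.mp (Subgroup.mem_inf.mp (hPB₁ hg)).1).2
          exact (Subgroup.mem_centralizer_iff.mp h1 u hu).symm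
        exact Subgroup.mem_inf.mpr ⟨hAP hu, h2⟩
      have hwB₂ : w ∈ B₂ := by
        have h2 : w ∈ Subgroup.centralizer (((P : Subgroup G)) : Set G) := by
          rw [Subgroup.mem_centralizer_iff]
          intro g hg
          have h1 : g ∈ Subgroup.centralizer ({w} : Set G) := (Subgroup.mem_inf.mp (hPB₁ hg)).2
          exact Subgroup.mem_centralizer_singleton_iff.mp h1
        exact Subgroup.mem_inf.mpr ⟨hwPm, h2⟩
      have hB₂P : B₂ ≤ (P : Subgroup G) := inf_le_left
      have hPB₂ := le_of_relIndex_prime hrp hAB₂ hB₂P hAidx hwB₂ hwA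
      obtain ⟨a, ha, b, hb, hab⟩ := hna
      apply hab
      have h1 : b ∈ Subgroup.centralizer (((P : Subgroup G)) : Set G) :=
        (Subgroup.mem_inf.mp (hPB₂ hb)).2
      exact (Subgroup.mem_centralizer_iff.mp h1 a ha)

end Cfsg.Agent.Helper34.Sqf34
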