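import Mathlib
import Cfsg.Agent.Helper95.TIC.Defs

/-!
# (B5) blocks are T.I. subgroups (helper34, for helper95's S4064)
-/

set_option autoImplicit false

namespace Cfsg.Agent.Helper34.TICent

open Subgroup Cfsg.Agent.Helper95.TICent

variable {G : Type*} [Group G]

/-- one inclusion between two blocks sharing a non-identity element -/
theorem block_le_of_mem {M₁ M₂ : Subgroup G} (h₁ : IsBlock M₁) (h₂ : IsBlock M₂) {x : G}
    (hx1 : x ≠ 1) (hx₁ : x ∈ M₁) (hx₂ : x ∈ M₂) : M₂ ≤ M₁ := by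
  have hnt : Nontrivial M₂ := (Subgroup.nontrivial_iff_ne_bot M₂).2 h₂.ne_bot
  have hnil : Group.IsNilpotent M₂ := h₂.nil
  have hc : center M₂ ≠ ⊥ := Group.IsNilpotent.center_ne_bot M₂
  obtain ⟨⟨z, hzc⟩, hz1⟩ := Subgroup.ne_bot_iff_exists_ne_one.1 hc
  have hz1' : (z : G) ≠ 1 := fun h => hz1 (Subtype.ext (Subtype.ext h))
  have hcomm : ∀ m : G, ∀ hm : m ∈ M₂, m * (z : G) = (z : G) * m := by
    intro m hm
    have := Subgroup.mem_center_iff.1 hzc ⟨m, hm⟩
    exact congrArg Subtype.val this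
  have hzM₁ : (z : G) ∈ M₁ := h₁.mem_of_commute hx₁ hx1 (hcomm x hx₂).symm
  intro m hm
  exact h₁.mem_of_commute hzM₁ hz1' (hcomm m hm)

/-- two blocks sharing a non-identity element are equal -/
theorem block_eq_of_mem {M₁ M₂ : Subgroup G} (h₁ : IsBlock M₁) (h₂ : IsBlock M₂) {x : G}
    (hx1 : x ≠ 1) (hx₁ : x ∈ M₁) (hx₂ : x ∈ M₂) : M₁ = M₂ :=
  le_antisymm (block_le_of_mem h₂ h₁ hx1 hx₂ hx₁) (block_le_of_mem h₁ h₂ hx1 hx₁ hx₂)

/-- conjugates of blocks are blocks -/
theorem block_conj {M : Subgroup G} (hM : IsBlock M) (g : G) :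
    IsBlock (M.map (MulAut.conj g).toMonoidHom) := by
  refine ⟨?_, ?_, ?_⟩
  · intro h
    apply hM.ne_bot
    rw [Subgroup.map_eq_bot_iff_of_injective _ (MulAut.conj g).injective] at h
    exact h
  · have e : M ≃* (M.map (MulAut.conj g).toMonoidHom) :=
      M.equivMapOfInjective _ (MulAut.conj g).injective
    have := hM.nil
    exact (Group.isNilpotent_congr e).1 this
  · rintro x ⟨k, hk, rfl⟩ hx1 y hy
    have hk1 : k ≠ 1 := by
      rintro rfl
      exact hx1 (map_one _)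
    rw [Subgroup.mem_centralizer_singleton_iff] at hy
    -- `g⁻¹ y g` commutes with `k`
    refine ⟨g⁻¹ * y * g, ?_, ?_⟩
    · apply hM.mem_of_commute hk hk1
      have h' : y * (g * k * g⁻¹) = g * k * g⁻¹ * y := hy
      calc g⁻¹ * y * g * k = g⁻¹ * (y * (g * k * g⁻¹)) * g := by group
        _ = g⁻¹ * (g * k * g⁻¹ * y) * g := by rw [h']
        _ = k * (g⁻¹ * y * g) := by group
    · show g * (g⁻¹ * y * g) * g⁻¹ = y
      group

/-- (B5) Blocks are T.I. subgroups. -/
theorem IsBlock.ti {M : Subgroup G} (hM : IsBlock M) : Cfsg.IsTISubset (M : Set G) := by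
  intro g hg x hx hgx
  by_contra hx1
  apply hg
  have hk1 : g * x * g⁻¹ ≠ 1 := by
    intro h
    apply hx1
    have : x = g⁻¹ * (g * x * g⁻¹) * g := by group
    rw [this, h]
    group
  have hmem : g * x * g⁻¹ ∈ M.map (MulAut.conj g).toMonoidHom := ⟨x, hx, rfl⟩
  have heq : M = M.map (MulAut.conj g).toMonoidHom :=
    block_eq_of_mem hM (block_conj hM g) hk1 hgx hmem
  rw [Subgroup.mem_normalizer_iff]
  intro h
  constructor
  · intro hh
    have : g * h * g⁻¹ ∈ M.map (MulAut.conj g).toMonoidHom := ⟨h, hh, rfl⟩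
    rw [← heq] at this
    exact this
  · intro hh
    have hh' : g * h * g⁻¹ ∈ M.map (MulAut.conj g).toMonoidHom := by
      rw [← heq]
      exact hh
    obtain ⟨k, hk, hkeq⟩ := hh'
    have hkeq' : g * k * g⁻¹ = g * h * g⁻¹ := hkeq
    have : k = h := by
      have := congrArg (fun t => g⁻¹ * t * g) hkeq'
      simpa [mul_assoc] using this
    rw [← this]
    exact hk

end Cfsg.Agent.Helper34.TICent
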