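import Mathlib
import Cfsg.Agent.Helper95.TIC.Defs

/-!
# (B6) blocks are Hall subgroups (helper34, for helper95's S4064)
-/

set_option autoImplicit false

namespace Cfsg.Agent.Helper34.TICent

open Subgroup Cfsg.Agent.Helper95.TICent

variable {G : Type*} [Group G]

/-- (B6) Blocks are Hall subgroups. -/
theorem IsBlock.coprime [Finite G] {M : Subgroup G} (hM : IsBlock M) :
    (Nat.card M).Coprime M.index := by
  rw [Nat.coprime_iff_gcd_eq_one]
  by_contra hne
  obtain ⟨r, hr, hrd⟩ := Nat.exists_prime_and_dvd hne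
  have hrM : r ∣ Nat.card M := hrd.trans (Nat.gcd_dvd_left _ _)
  have hrI : r ∣ M.index := hrd.trans (Nat.gcd_dvd_right _ _)
  have : Fact r.Prime := ⟨hr⟩
  -- an element of order `r` in `M`
  obtain ⟨y, hy⟩ := exists_prime_orderOf_dvd_card' r hrM
  have hy1 : (y : G) ≠ 1 := by
    intro h
    have : y = 1 := Subtype.ext h
    rw [this, orderOf_one] at hy
    exact hr.one_lt.ne hy
  have hyo : orderOf (y : G) = r := by rw [Subgroup.orderOf_coe, hy]
  -- a Sylow `r`-subgroup containing `y`
  have hpg : IsPGroup r (Subgroup.zpowers (y : G)) := by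
    rw [IsPGroup.iff_card, Nat.card_zpowers, hyo]
    exact ⟨1, (pow_one r).symm⟩
  obtain ⟨R, hR⟩ := hpg.exists_le_sylow
  have hyR : (y : G) ∈ (R : Subgroup G) := hR (Subgroup.mem_zpowers _)
  -- a non-identity central element of `R`
  have hRnt : Nontrivial (R : Subgroup G) :=
    ⟨⟨⟨(y : G), hyR⟩, 1, fun h => hy1 (congrArg Subtype.val h)⟩⟩
  have hcn : Nontrivial (center (R : Subgroup G)) := R.2.center_nontrivial
  obtain ⟨⟨w, hwc⟩, hw1⟩ := exists_ne (1 : center (R : Subgroup G))
  have hw1' : (w : G) ≠ 1 := fun h => hw1 (Subtype.ext (Subtype.ext h))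
  have hcomm : ∀ m : G, ∀ hm : m ∈ (R : Subgroup G), m * (w : G) = (w : G) * m := by
    intro m hm
    have := Subgroup.mem_center_iff.1 hwc ⟨m, hm⟩
    exact congrArg Subtype.val this
  have hwM : (w : G) ∈ M := hM.mem_of_commute y.2 hy1 (hcomm (y : G) hyR).symm
  have hRM : (R : Subgroup G) ≤ M := fun m hm => hM.mem_of_commute hwM hw1' (hcomm m hm)
  exact R.not_dvd_index (hrI.trans (Subgroup.index_dvd_of_le hRM))

end Cfsg.Agent.Helper34.TICent
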