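import Mathlib
import Cfsg.Agent.Helper34.Focal
import Cfsg.Agent.Helper78.Frobenius

set_option autoImplicit false

namespace Cfsg.Agent.Helper34

open scoped Pointwise

variable {G : Type*} [Group G] {p : ℕ}

/-- the normalizer of `H` normalizes the centralizer of `H` -/
theorem normalizer_le_normalizer_centralizer (H : Subgroup G) :
    Subgroup.normalizer (H : Set G) ≤
      Subgroup.normalizer ((Subgroup.centralizer (H : Set G) : Subgroup G) : Set G) := by
  intro n hn
  have hnorm := (Subgroup.normal_subgroupOf_iff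
    (Subgroup.centralizer_le_normalizer (H : Set G))).mp
    (Subgroup.normal_subgroupOf_centralizer_normalizer (H : Set G))
  rw [Subgroup.mem_normalizer_iff]
  intro c
  constructor
  · intro hc
    exact hnorm c n hc hn
  · intro hc
    have := hnorm _ n⁻¹ hc (inv_mem hn)
    have e : n⁻¹ * (n * c * n⁻¹) * n⁻¹⁻¹ = c := by group
    rwa [e] at this

/-- Frattini-type factorization: if `N_G(H)/C_G(H)` is a `p`-group and `N_P(H)` is a Sylow
`p`-subgroup of `N_G(H)` then `N_G(H) = C_G(H) N_P(H)`. -/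
theorem exists_mul_of_isPGroup_quotient [Finite G] [Fact p.Prime] (P : Sylow p G) (H : Subgroup G)
    (hS : ¬ p ∣ ((P : Subgroup G) ⊓ Subgroup.normalizer (H : Set G)).relIndex
      (Subgroup.normalizer (H : Set G)))
    (hq : IsPGroup p (Subgroup.normalizer (H : Set G) ⧸
      (Subgroup.centralizer (H : Set G)).subgroupOf (Subgroup.normalizer (H : Set G))))
    {x : G} (hx : x ∈ Subgroup.normalizer (H : Set G)) :
    ∃ c ∈ Subgroup.centralizer (H : Set G),
      ∃ y ∈ (P : Subgroup G) ⊓ Subgroup.normalizer (H : Set G), x = c * y := by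
  have hp := (Fact.out : p.Prime)
  set N := Subgroup.normalizer (H : Set G) with hN
  set C := Subgroup.centralizer (H : Set G) with hC
  set S := (P : Subgroup G) ⊓ N with hSdef
  obtain ⟨k, hk⟩ := IsPGroup.iff_card.mp hq
  have hCrel : C.relIndex N = p ^ k := by
    rw [Subgroup.relIndex, Subgroup.index_eq_card]
    exact hk
  have h1 : (C ⊔ S).relIndex N ∣ p ^ k := by
    rw [← hCrel]
    exact Subgroup.relIndex_dvd_of_le_left N le_sup_left
  have h2 : (C ⊔ S).relIndex N ∣ S.relIndex N :=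
    Subgroup.relIndex_dvd_of_le_left N le_sup_right
  have h3 : (C ⊔ S).relIndex N = 1 := by
    have hcop : Nat.Coprime (p ^ k) (S.relIndex N) :=
      Nat.Coprime.pow_left k ((Nat.Prime.coprime_iff_not_dvd hp).mpr hS)
    exact Nat.eq_one_of_dvd_coprimes hcop h1 h2
  have h4 : N ≤ C ⊔ S := Subgroup.relIndex_eq_one.mp h3
  have hSle : S ≤ Subgroup.normalizer ((C : Subgroup G) : Set G) :=
    le_trans inf_le_right (normalizer_le_normalizer_centralizer H)
  have h5 : x ∈ ((C ⊔ S : Subgroup G) : Set G) := h4 hx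
  rw [Subgroup.coe_mul_of_right_le_normalizer_left C S hSle] at h5
  obtain ⟨c, hc, y, hy, rfl⟩ := h5
  exact ⟨c, hc, y, hy, rfl⟩

/-- Under the hypothesis that `N_G(H)/C_G(H)` is a `p`-group for all nontrivial tame intersections,
a valid Alperin chain acts on the tracked set like an element of `P`. -/
theorem exists_mem_sylow_conj_eq [Finite G] [Fact p.Prime] (P : Sylow p G)
    (h : ∀ Q : Sylow p G, (P : Subgroup G) ⊓ (Q : Subgroup G) ≠ ⊥ → (¬ p ∣ ((P : Subgroup G) ⊓ Subgroup.normalizer (((P : Subgroup G) ⊓ (Q : Subgroup G) : Subgroup G) : Set G)).relIndex (Subgroup.normalizer (((P : Subgroup G) ⊓ (Q : Subgroup G) : Subgroup G) : Set G)) ∧ ¬ p ∣ ((Q : Subgroup G) ⊓ Subgroup.normalizer (((P : Subgroup G) ⊓ (Q : Subgroup G) : Subgroup G) : Set G)).relIndex (Subgroup.normalizer (((P : Subgroup G) ⊓ (Q : Subgroup G) : Subgroup G) : Set G))) →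
      IsPGroup p (Subgroup.normalizer (((P : Subgroup G) ⊓ (Q : Subgroup G) : Subgroup G) : Set G) ⧸
        (Subgroup.centralizer (((P : Subgroup G) ⊓ (Q : Subgroup G) : Subgroup G) : Set G)).subgroupOf
          (Subgroup.normalizer (((P : Subgroup G) ⊓ (Q : Subgroup G) : Subgroup G) : Set G))))
    (L : List (Sylow p G × G)) :
    ∀ B : Set G, (∃ b ∈ B, b ≠ 1) → AValid P B L →
      ∃ y ∈ (P : Subgroup G), ∀ b ∈ B, (cprod L)⁻¹ * b * cprod L = y⁻¹ * b * y := by
  induction L with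
  | nil =>
    intro B _ _
    exact ⟨1, one_mem _, fun b _ => by rw [cprod_nil]⟩
  | cons a L ih =>
    obtain ⟨Q, x⟩ := a
    intro B hB hv
    rw [aValid_cons] at hv
    obtain ⟨⟨hx, ht1, ht2, -⟩, hBsub, hL⟩ := hv
    obtain ⟨b₀, hb₀, hb₀1⟩ := hB
    have hne : (P : Subgroup G) ⊓ (Q : Subgroup G) ≠ ⊥ := by
      intro hbot
      have : b₀ ∈ ((P : Subgroup G) ⊓ (Q : Subgroup G) : Subgroup G) := hBsub hb₀
      rw [hbot, Subgroup.mem_bot] at this
      exact hb₀1 this
    have hq := h Q hne ⟨ht1, ht2⟩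
    obtain ⟨c, hc, y₁, hy₁, hxcy⟩ := exists_mul_of_isPGroup_quotient P _ ht1 hq hx
    -- conjugation by x agrees with conjugation by y₁ on P ⊓ Q
    have hconj : ∀ b ∈ B, x⁻¹ * b * x = y₁⁻¹ * b * y₁ := by
      intro b hb
      have hbH : b ∈ ((P : Subgroup G) ⊓ (Q : Subgroup G) : Subgroup G) := hBsub hb
      have hcb : b * c = c * b := Subgroup.mem_centralizer_iff.mp hc b hbH
      rw [hxcy]
      have e : (c * y₁)⁻¹ * b * (c * y₁) = y₁⁻¹ * (c⁻¹ * (b * c)) * y₁ := by group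
      rw [e, hcb]
      group
    have hB' : ∃ b ∈ rconj x B, b ≠ 1 := by
      refine ⟨x⁻¹ * b₀ * x, ⟨b₀, hb₀, rfl⟩, ?_⟩
      intro h1
      apply hb₀1
      have : b₀ = x * (x⁻¹ * b₀ * x) * x⁻¹ := by group
      rw [this, h1]; group
    obtain ⟨y₂, hy₂, hy₂c⟩ := ih (rconj x B) hB' hL
    refine ⟨y₁ * y₂, mul_mem hy₁.1 hy₂, ?_⟩
    intro b hb
    have h1 := hy₂c (x⁻¹ * b * x) ⟨b, hb, rfl⟩
    rw [cprod_cons]
    have e1 : (x * cprod L)⁻¹ * b * (x * cprod L) = (cprod L)⁻¹ * (x⁻¹ * b * x) * cprod L := by group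
    rw [e1, h1, hconj b hb]
    group

/-- If `g` and `y` induce the same conjugation on the subgroup `D` normalized by `g`, `y` is a
`p`-element and `g` a `p'`-element, then `g` centralizes `D`. -/
theorem mem_centralizer_of_conj_eq [Fact p.Prime] (D : Subgroup G) (g y : G)
    (hg : g ∈ Subgroup.normalizer (D : Set G))
    (hgy : ∀ d ∈ D, g⁻¹ * d * g = y⁻¹ * d * y) (k : ℕ) (hy : y ^ (p ^ k) = 1)
    (hcop : Nat.Coprime (orderOf g) p) : g ∈ Subgroup.centralizer (D : Set G) := by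
  have hpow : ∀ j : ℕ, ∀ d ∈ D, (g ^ j)⁻¹ * d * g ^ j = (y ^ j)⁻¹ * d * y ^ j := by
    intro j
    induction j with
    | zero => intro d _; simp
    | succ j ih =>
      intro d hd
      have hgj : g ^ j ∈ Subgroup.normalizer (D : Set G) := pow_mem hg j
      have hd' : (g ^ j)⁻¹ * d * g ^ j ∈ D := (Subgroup.mem_normalizer_iff''.mp hgj d).mp hd
      have e1 : (g ^ (j + 1))⁻¹ * d * g ^ (j + 1) = g⁻¹ * ((g ^ j)⁻¹ * d * g ^ j) * g := by
        rw [pow_succ]; group
      rw [e1, hgy _ hd', ih d hd, pow_succ]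
      group
  have hcent : g ^ (p ^ k) ∈ Subgroup.centralizer (D : Set G) := by
    rw [Subgroup.mem_centralizer_iff]
    intro d hd
    have := hpow (p ^ k) d hd
    rw [hy] at this
    simp only [inv_one, one_mul, mul_one] at this
    have e : d * g ^ (p ^ k) = g ^ (p ^ k) * ((g ^ (p ^ k))⁻¹ * d * g ^ (p ^ k)) := by group
    rw [e, this]
  obtain ⟨m, hm⟩ := exists_pow_eq_self_of_coprime (x := g) (n := p ^ k)
    (Nat.Coprime.pow_left k hcop.symm)
  rw [← hm]
  exact pow_mem hcent m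

/-- The tame-intersection Frobenius criterion gives the full Frobenius hypothesis on the
subgroups of `P`. -/
theorem frobenius_hyp_of_tame [Finite G] [Fact p.Prime] (P : Sylow p G)
    (h : ∀ Q : Sylow p G, (P : Subgroup G) ⊓ (Q : Subgroup G) ≠ ⊥ → (¬ p ∣ ((P : Subgroup G) ⊓ Subgroup.normalizer (((P : Subgroup G) ⊓ (Q : Subgroup G) : Subgroup G) : Set G)).relIndex (Subgroup.normalizer (((P : Subgroup G) ⊓ (Q : Subgroup G) : Subgroup G) : Set G)) ∧ ¬ p ∣ ((Q : Subgroup G) ⊓ Subgroup.normalizer (((P : Subgroup G) ⊓ (Q : Subgroup G) : Subgroup G) : Set G)).relIndex (Subgroup.normalizer (((P : Subgroup G) ⊓ (Q : Subgroup G) : Subgroup G) : Set G))) →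
      IsPGroup p (Subgroup.normalizer (((P : Subgroup G) ⊓ (Q : Subgroup G) : Subgroup G) : Set G) ⧸
        (Subgroup.centralizer (((P : Subgroup G) ⊓ (Q : Subgroup G) : Subgroup G) : Set G)).subgroupOf
          (Subgroup.normalizer (((P : Subgroup G) ⊓ (Q : Subgroup G) : Subgroup G) : Set G)))) :
    ∀ D : Subgroup G, D ≤ (P : Subgroup G) → ∀ g ∈ Subgroup.normalizer (D : Set G),
      Nat.Coprime (orderOf g) p → g ∈ Subgroup.centralizer (D : Set G) := by
  intro D hD g hg hcop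
  by_cases hbot : D = ⊥
  · rw [hbot, Subgroup.mem_centralizer_iff]
    intro d hd
    rw [Subgroup.coe_bot, Set.mem_singleton_iff] at hd
    rw [hd, one_mul, mul_one]
  obtain ⟨b₀, hb₀1⟩ := (Subgroup.ne_bot_iff_exists_ne_one.mp hbot)
  have hb₀' : (b₀ : G) ≠ 1 := fun h1 => hb₀1 (Subtype.ext h1)
  obtain ⟨L, hL, hprod⟩ := alperin_fusion_list P (D : Set G) g hD (by
    rintro _ ⟨d, hd, rfl⟩
    exact hD ((Subgroup.mem_normalizer_iff''.mp hg d).mp hd))
  obtain ⟨y, hy, hyc⟩ := exists_mem_sylow_conj_eq P h L (D : Set G) ⟨b₀, b₀.2, hb₀'⟩ hL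
  rw [hprod] at hyc
  obtain ⟨k, hk⟩ := P.2 ⟨y, hy⟩
  have hk' : y ^ (p ^ k) = 1 := by
    have := congrArg Subtype.val hk
    simpa using this
  exact mem_centralizer_of_conj_eq D g y hg hyc k hk' hcop

/-- **Tame intersection form of Frobenius' normal `p`-complement criterion.** -/
theorem exists_normal_complement_of_tame [Finite G] [Fact p.Prime] (P : Sylow p G)
    (h : ∀ Q : Sylow p G, (P : Subgroup G) ⊓ (Q : Subgroup G) ≠ ⊥ → (¬ p ∣ ((P : Subgroup G) ⊓ Subgroup.normalizer (((P : Subgroup G) ⊓ (Q : Subgroup G) : Subgroup G) : Set G)).relIndex (Subgroup.normalizer (((P : Subgroup G) ⊓ (Q : Subgroup G) : Subgroup G) : Set G)) ∧ ¬ p ∣ ((Q : Subgroup G) ⊓ Subgroup.normalizer (((P : Subgroup G) ⊓ (Q : Subgroup G) : Subgroup G) : Set G)).relIndex (Subgroup.normalizer (((P : Subgroup G) ⊓ (Q : Subgroup G) : Subgroup G) : Set G))) →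
      IsPGroup p (Subgroup.normalizer (((P : Subgroup G) ⊓ (Q : Subgroup G) : Subgroup G) : Set G) ⧸
        (Subgroup.centralizer (((P : Subgroup G) ⊓ (Q : Subgroup G) : Subgroup G) : Set G)).subgroupOf
          (Subgroup.normalizer (((P : Subgroup G) ⊓ (Q : Subgroup G) : Subgroup G) : Set G)))) :
    ∃ N : Subgroup G, N.Normal ∧ N.IsComplement' (P : Subgroup G) :=
  (Cfsg.Agent.Helper78.frobenius_normal_pComplement_iff P).mpr (frobenius_hyp_of_tame P h)

end Cfsg.Agent.Helper34
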