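import Mathlib
import Cfsg.Agent.Helper34.FunctorBasic
import Cfsg.Agent.Helper34.CentralSylow
import Cfsg.Agent.Helper78.Frobenius
import Cfsg.Agent.Helper78.PNilpotent

/-!
# Thompson's normal `p`-complement theorem in functor form (helper34)

`thompson_functor` : let `W` be an isomorphism-invariant `p`-group functor.  Suppose every section
`Y` of the finite group `X` satisfies the local hypothesis `Loc p W Y` (if `C_Y(O_p(Y)) ≤ O_p(Y)`,
`Y/O_p(Y)` is `p`-nilpotent and the Sylow `p`-subgroup `T` of `Y` is maximal in `Y`, then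
`W(T)` is normal in `Y`).  If `N_X(W(S))` is `p`-nilpotent for the Sylow `p`-subgroups `S` of `X`,
then `X` is `p`-nilpotent.
-/

set_option autoImplicit false

namespace Cfsg.Agent.Helper34

universe u

open Subgroup

section aux

variable {p : ℕ} [hp : Fact p.Prime]

/-- A `p`-subgroup of order `p ^ b` inside `V` gives `b ≤ ν_p(|V|)`. -/
theorem le_factorization_of_le {X : Type u} [Group X] [Finite X] {U V : Subgroup X} (hUV : U ≤ V)
    {b : ℕ} (hU : Nat.card U = p ^ b) : b ≤ (Nat.card V).factorization p := by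
  have h1 : p ^ b ∣ Nat.card V := hU ▸ Subgroup.card_dvd_of_le hUV
  exact (hp.1.pow_dvd_iff_le_factorization Nat.card_pos.ne').mp h1

omit hp in
theorem eq_one_of_pow_prime_pow_of_coprime {X : Type u} [Group X] {M : Subgroup X}
    (hM : (Nat.card M).Coprime p) {x : X} (hx : x ∈ M) {n : ℕ} (h : x ^ p ^ n = 1) : x = 1 := by
  have hd1 : orderOf x ∣ p ^ n := orderOf_dvd_of_pow_eq_one h
  have hd2 : orderOf x ∣ Nat.card M := Subgroup.orderOf_dvd_natCard M hx
  exact orderOf_eq_one_iff.mp (Nat.eq_one_of_dvd_coprimes (hM.pow_right n) hd2 hd1)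

/-- If `X/O_p(X)` is `p`-nilpotent and `O_{p'}(X) = 1` then `C_X(O_p(X)) ≤ O_p(X)`. -/
theorem centralizer_pCore_le_of_pnil_quotient {X : Type u} [Group X] [Finite X]
    (hq : PNil p (X ⧸ Cfsg.pCore p X)) (hO : Cfsg.pPrimeCore p X = ⊥) :
    centralizer ((Cfsg.pCore p X : Subgroup X) : Set X) ≤ Cfsg.pCore p X := by
  have hQp : IsPGroup p (Cfsg.pCore p X) := Lib.isPGroup_pCore p
  obtain ⟨Kb, hKbn, hKbc, k, hk⟩ := hq
  have hDn : (centralizer ((Cfsg.pCore p X : Subgroup X) : Set X) ⊓
      Kb.comap (QuotientGroup.mk' (Cfsg.pCore p X))).Normal := by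
    have : (Kb.comap (QuotientGroup.mk' (Cfsg.pCore p X))).Normal := hKbn.comap _
    infer_instance
  -- `p`-elements of `D` lie in `Q`
  have hpel : ∀ d ∈ centralizer ((Cfsg.pCore p X : Subgroup X) : Set X) ⊓
      Kb.comap (QuotientGroup.mk' (Cfsg.pCore p X)), ∀ n : ℕ, d ^ p ^ n = 1 →
      d ∈ Cfsg.pCore p X := by
    intro d hd n hn
    have h1 : QuotientGroup.mk' (Cfsg.pCore p X) d ∈ Kb := hd.2
    have h2 : (QuotientGroup.mk' (Cfsg.pCore p X) d) ^ p ^ n = 1 := by
      rw [← map_pow, hn, map_one]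
    have h3 := eq_one_of_pow_prime_pow_of_coprime hKbc h1 h2
    rwa [QuotientGroup.mk'_apply, QuotientGroup.eq_one_iff] at h3
  set D := centralizer ((Cfsg.pCore p X : Subgroup X) : Set X) ⊓
      Kb.comap (QuotientGroup.mk' (Cfsg.pCore p X)) with hD
  obtain ⟨P⟩ : Nonempty (Sylow p ↥D) := inferInstance
  have hcoe : ∀ (x : ↥D) (n : ℕ), x ^ p ^ n = 1 → (x : X) ^ p ^ n = 1 := by
    intro x n hn
    have := congrArg Subtype.val hn
    simpa using this
  have hPc : (P : Subgroup ↥D) ≤ center ↥D := by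
    intro x hx
    rw [mem_center_iff]
    intro d
    obtain ⟨n, hn⟩ := P.2 ⟨x, hx⟩
    have hn' : x ^ p ^ n = 1 := by
      have := congrArg Subtype.val hn
      simpa using this
    have hxQ : (x : X) ∈ Cfsg.pCore p X := hpel x x.2 n (hcoe x n hn')
    have hdC : (d : X) ∈ centralizer ((Cfsg.pCore p X : Subgroup X) : Set X) := d.2.1
    have h3 := (mem_centralizer_iff.mp hdC) x hxQ
    exact Subtype.ext h3.symm
  have htop := central_sylow_sup_pPrimeCore P hPc
  have hO' : Cfsg.pPrimeCore p ↥D = ⊥ := by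
    have hchar : (Cfsg.pPrimeCore p ↥D).Characteristic := Lib.pPrimeCore_characteristic p
    have hn : ((Cfsg.pPrimeCore p ↥D).map D.subtype).Normal :=
      ConjAct.normal_of_characteristic_of_normal
    have hc : (Nat.card ((Cfsg.pPrimeCore p ↥D).map D.subtype)).Coprime p := by
      rw [Subgroup.card_map_of_injective D.subtype_injective]
      exact Lib.card_pPrimeCore_coprime p
    have hle := Lib.le_pPrimeCore hn hc
    rw [hO, le_bot_iff] at hle
    exact (Subgroup.map_eq_bot_iff_of_injective _ D.subtype_injective).mp hle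
  rw [hO', sup_bot_eq] at htop
  have hDQ : D ≤ Cfsg.pCore p X := by
    intro d hd
    have h1 : (⟨d, hd⟩ : ↥D) ∈ (P : Subgroup ↥D) := by rw [htop]; trivial
    obtain ⟨n, hn⟩ := P.2 ⟨⟨d, hd⟩, h1⟩
    have hn' : (⟨d, hd⟩ : ↥D) ^ p ^ n = 1 := by
      have := congrArg Subtype.val hn
      simpa using this
    exact hpel d hd n (hcoe ⟨d, hd⟩ n hn')
  have hCp : IsPGroup p ↥(centralizer ((Cfsg.pCore p X : Subgroup X) : Set X)) := by
    intro c
    have h1 : (QuotientGroup.mk' (Cfsg.pCore p X) (c : X)) ^ p ^ k ∈ Kb := by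
      rw [← hk]; exact Subgroup.pow_index_mem Kb _
    have h2 : (c : X) ^ p ^ k ∈ D := by
      refine ⟨Subgroup.pow_mem _ c.2 _, ?_⟩
      show QuotientGroup.mk' (Cfsg.pCore p X) ((c : X) ^ p ^ k) ∈ Kb
      rw [map_pow]; exact h1
    obtain ⟨a, ha⟩ := hQp ⟨_, hDQ h2⟩
    have ha' : ((c : X) ^ p ^ k) ^ p ^ a = 1 := by
      have := congrArg Subtype.val ha
      simpa using this
    refine ⟨k + a, ?_⟩
    apply Subtype.ext
    rw [Subgroup.coe_pow, Subgroup.coe_one, pow_add, pow_mul]
    exact ha'
  exact Lib.le_pCore Subgroup.normal_centralizer hCp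

end aux

section main

variable {p : ℕ} [hp : Fact p.Prime] {W : ∀ (Q : Type u) [Group Q], Subgroup Q}

/-- Every Sylow subgroup of `Y ≥ S₁` (with `S₁` Sylow in `X`) is Sylow in `X`. -/
theorem exists_sylow_eq_map_of_sylow_le {X : Type u} [Group X] [Finite X] (S₁ : Sylow p X)
    (Y : Subgroup X) (h : (S₁ : Subgroup X) ≤ Y) (T : Sylow p ↥Y) :
    ∃ S' : Sylow p X, (S' : Subgroup X) = (T : Subgroup ↥Y).map Y.subtype := by
  have hTp : IsPGroup p ((T : Subgroup ↥Y).map Y.subtype) := T.2.map _
  obtain ⟨S', hS'⟩ := hTp.exists_le_sylow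
  refine ⟨S', ?_⟩
  have h1 : Nat.card (S' : Subgroup X) = Nat.card (S₁ : Subgroup X) := by
    rw [Sylow.card_eq_multiplicity, Sylow.card_eq_multiplicity]
  have h2 : Nat.card ((S₁.subtype h : Sylow p ↥Y) : Subgroup ↥Y) = Nat.card (S₁ : Subgroup X) := by
    rw [Sylow.coe_subtype]
    exact Nat.card_congr (Subgroup.subgroupOfEquivOfLe h).toEquiv
  have h3 : Nat.card (T : Subgroup ↥Y) = Nat.card ((S₁.subtype h : Sylow p ↥Y) : Subgroup ↥Y) := by
    rw [Sylow.card_eq_multiplicity, Sylow.card_eq_multiplicity]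
  have h4 : Nat.card ((T : Subgroup ↥Y).map Y.subtype) = Nat.card (T : Subgroup ↥Y) :=
    Subgroup.card_map_of_injective Y.subtype_injective
  exact (Subgroup.eq_of_le_of_card_ge hS' (by rw [h1, h4, h3, h2])).symm

/-- **Thompson's normal `p`-complement theorem, functor form** (induction on the order). -/
theorem thompson_functor_aux (hW : Cfsg.IsCharPFunctor.{u} p W) :
    ∀ (n : ℕ) (X : Type u) [Group X] [Finite X], Nat.card X = n →
      (∀ (Y : Type u) [Group Y], IsSec X Y → Loc p W Y) →
      (∀ S : Sylow p X, PNil p ↥(normalizer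
        ((Cfsg.inducedFunctor (G := X) W (S : Subgroup X) : Subgroup X) : Set X))) →
      PNil p X := by
  intro n
  induction n using Nat.strong_induction_on with
  | _ n ih =>
  intro X _ _ hcard hsec hnorm
  by_contra hX
  -- the set of bad `p`-subgroups
  let bad : Set (Subgroup X) :=
    {H | IsPGroup p H ∧ H ≠ ⊥ ∧ ¬ PNil p ↥(normalizer (H : Set X))}
  have hne : bad.Nonempty := by
    by_contra hemp
    rw [Set.not_nonempty_iff_eq_empty] at hemp
    apply hX
    rw [pnil_iff, Helper78.hasNormalPComplement_iff_normalizers]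
    intro Q hQ hQne
    rw [← pnil_iff]
    by_contra hQn
    have : Q ∈ bad := ⟨hQ, hQne, hQn⟩
    rw [hemp] at this
    exact this
  let ν : Subgroup X → ℕ := fun H => (Nat.card ↥(normalizer (H : Set X))).factorization p
  let μ : Subgroup X → ℕ := fun H => ν H * (Nat.card X + 1) + Nat.card H
  obtain ⟨H, hHbad, hmax⟩ := Set.exists_max_image bad μ (Set.toFinite bad) hne
  obtain ⟨hHp, hHne, hHn⟩ := hHbad
  have hgood : ∀ L : Subgroup X, IsPGroup p L → L ≠ ⊥ → μ H < μ L →
      PNil p ↥(normalizer (L : Set X)) := by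
    intro L hLp hLne hlt
    by_contra hLn
    exact absurd (hmax L ⟨hLp, hLne, hLn⟩) (not_le.mpr hlt)
  have hcardle : ∀ L : Subgroup X, Nat.card L ≤ Nat.card X := fun L => Subgroup.card_le_card_group L
  have hμ_of_ν : ∀ L : Subgroup X, ν H < ν L → μ H < μ L := by
    intro L hνL
    have h1 := hcardle H
    calc μ H = ν H * (Nat.card X + 1) + Nat.card H := rfl
      _ < ν H * (Nat.card X + 1) + (Nat.card X + 1) := by omega
      _ = (ν H + 1) * (Nat.card X + 1) := by ring
      _ ≤ ν L * (Nat.card X + 1) := Nat.mul_le_mul_right _ hνL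
      _ ≤ μ L := Nat.le_add_right _ _
  -- ν is bounded by the `p`-part of `|X|`
  have hν_le : ∀ L : Subgroup X, ν L ≤ (Nat.card X).factorization p := by
    intro L
    have h1 : Nat.card ↥(normalizer (L : Set X)) ∣ Nat.card X := Subgroup.card_subgroup_dvd_card _
    exact (Nat.factorization_le_iff_dvd Nat.card_pos.ne' Nat.card_pos.ne').mpr h1 p
  -- if `N(L)` contains a Sylow subgroup of `X` and `|H| < |L|` then `μ H < μ L`
  have hμ_of_sylow : ∀ (L : Subgroup X) (S₁ : Sylow p X),
      (S₁ : Subgroup X) ≤ normalizer (L : Set X) → Nat.card H < Nat.card L → μ H < μ L := by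
    intro L S₁ hS₁ hlt
    have h1 : (Nat.card X).factorization p ≤ ν L :=
      le_factorization_of_le hS₁ (Sylow.card_eq_multiplicity S₁)
    have h2 : ν H ≤ ν L := (hν_le H).trans h1
    calc μ H = ν H * (Nat.card X + 1) + Nat.card H := rfl
      _ < ν H * (Nat.card X + 1) + Nat.card L := by omega
      _ ≤ ν L * (Nat.card X + 1) + Nat.card L :=
          Nat.add_le_add_right (Nat.mul_le_mul_right _ h2) _
  -- Step 2: `H` is normal in `X`
  have hHnormal : normalizer (H : Set X) = ⊤ := by
    by_contra hNtop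
    have hlt : Nat.card ↥(normalizer (H : Set X)) < Nat.card X := by
      have := Helper78.card_lt_card_of_lt (lt_top_iff_ne_top.mpr hNtop)
      rwa [Subgroup.card_top] at this
    have hIH := ih (Nat.card ↥(normalizer (H : Set X))) (hcard ▸ hlt)
      ↥(normalizer (H : Set X)) rfl (fun Y _ hY => hsec Y hY.of_subgroup)
    have hex : ∃ T : Sylow p ↥(normalizer (H : Set X)), ¬ PNil p ↥(normalizer
        ((Cfsg.inducedFunctor (G := ↥(normalizer (H : Set X))) W
          (T : Subgroup ↥(normalizer (H : Set X))) : Subgroup ↥(normalizer (H : Set X))) :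
            Set ↥(normalizer (H : Set X)))) := by
      by_contra hall
      push Not at hall
      exact hHn (hIH hall)
    obtain ⟨T, hT⟩ := hex
    have hT'p : IsPGroup p ((T : Subgroup ↥(normalizer (H : Set X))).map
        (normalizer (H : Set X)).subtype) := T.2.map _
    have hHT' : H ≤ (T : Subgroup ↥(normalizer (H : Set X))).map
        (normalizer (H : Set X)).subtype := by
      intro h hh
      have h1 : (H.subgroupOf (normalizer (H : Set X))) ≤
          (T : Subgroup ↥(normalizer (H : Set X))) :=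
        Lib.normal_pGroup_le_sylow (Subgroup.normal_in_normalizer) hHp.comap_subtype T
      exact ⟨⟨h, le_normalizer hh⟩, h1 (Subgroup.mem_subgroupOf.mpr hh), rfl⟩
    have hT'ne : (T : Subgroup ↥(normalizer (H : Set X))).map
        (normalizer (H : Set X)).subtype ≠ ⊥ := by
      intro h0
      apply hHne
      rw [eq_bot_iff, ← h0]
      exact hHT'
    have hH₁ : Cfsg.inducedFunctor (G := X) W ((T : Subgroup ↥(normalizer (H : Set X))).map
        (normalizer (H : Set X)).subtype) =
        (Cfsg.inducedFunctor (G := ↥(normalizer (H : Set X))) W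
          (T : Subgroup ↥(normalizer (H : Set X)))).map (normalizer (H : Set X)).subtype :=
      inducedFunctor_map hW (normalizer (H : Set X)).subtype
        (T : Subgroup ↥(normalizer (H : Set X))) T.2
        (fun t _ ht => (normalizer (H : Set X)).subtype_injective (by simpa using ht))
    generalize hT'def : (T : Subgroup ↥(normalizer (H : Set X))).map
        (normalizer (H : Set X)).subtype = T' at hT'p hHT' hT'ne hH₁
    have hH₁p : IsPGroup p (Cfsg.inducedFunctor (G := X) W T') :=
      hT'p.to_le (inducedFunctor_le T')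
    have hH₁ne : Cfsg.inducedFunctor (G := X) W T' ≠ ⊥ := inducedFunctor_ne_bot hW T' hT'p hT'ne
    have hH₁not : ¬ PNil p ↥(normalizer ((Cfsg.inducedFunctor (G := X) W T' : Subgroup X) : Set X)) := by
      intro h
      apply hT
      apply pnil_normalizer_of_injective (normalizer (H : Set X)).subtype
        (normalizer (H : Set X)).subtype_injective
      exact pnil_of_eq (congrArg (fun K : Subgroup X => normalizer (K : Set X)) hH₁) h
    have hμle := hmax _ ⟨hH₁p, hH₁ne, hH₁not⟩
    obtain ⟨P, hP⟩ := hT'p.exists_le_sylow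
    by_cases hTP : T' = P
    · apply hH₁not
      have := hnorm P
      exact pnil_of_eq (congrArg (fun K : Subgroup X =>
        normalizer ((Cfsg.inducedFunctor (G := X) W K : Subgroup X) : Set X)) hTP.symm) this
    · obtain ⟨s, hsP, hsT, hsN⟩ :=
        Helper78.exists_mem_normalizer_not_mem (P : Subgroup X) P.2 T' (lt_of_le_of_ne hP hTP)
      have hUle : T' ⊔ zpowers s ≤ (P : Subgroup X) :=
        sup_le hP ((Subgroup.zpowers_le).mpr hsP)
      have hUp : IsPGroup p ↥(T' ⊔ zpowers s) := P.2.to_le hUle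
      have hUN : T' ⊔ zpowers s ≤
          normalizer ((Cfsg.inducedFunctor (G := X) W T' : Subgroup X) : Set X) :=
        (sup_le le_normalizer ((Subgroup.zpowers_le).mpr hsN)).trans
          (normalizer_le_normalizer_inducedFunctor hW T' hT'p)
      have hlt' : T' < T' ⊔ zpowers s := by
        refine lt_of_le_of_ne le_sup_left ?_
        intro heq
        apply hsT
        rw [heq]
        exact (le_sup_right : zpowers s ≤ T' ⊔ zpowers s) (Subgroup.mem_zpowers s)
      obtain ⟨b, hb⟩ := hUp.exists_card_eq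
      have hcT' : Nat.card T' = p ^ ν H := by
        rw [← hT'def, Subgroup.card_map_of_injective (normalizer (H : Set X)).subtype_injective]
        exact Sylow.card_eq_multiplicity T
      have h1 : p ^ ν H < p ^ b := by
        rw [← hcT', ← hb]; exact Helper78.card_lt_card_of_lt hlt'
      have h2 : ν H < b := (Nat.pow_lt_pow_iff_right hp.1.one_lt).mp h1
      have h3 : b ≤ ν (Cfsg.inducedFunctor (G := X) W T') := le_factorization_of_le hUN hb
      exact absurd hμle (not_le.mpr (hμ_of_ν _ (lt_of_lt_of_le h2 h3)))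
  have hHN : H.Normal := normalizer_eq_top_iff.mp hHnormal
  -- `Q = O_p(X)`
  have hQp : IsPGroup p (Cfsg.pCore p X) := Lib.isPGroup_pCore p
  have hHQ : H ≤ Cfsg.pCore p X := Lib.le_pCore hHN hHp
  have hQne : Cfsg.pCore p X ≠ ⊥ := by
    intro h0
    apply hHne
    rw [eq_bot_iff, ← h0]
    exact hHQ
  have hcardQH : Nat.card H ≤ Nat.card (Cfsg.pCore p X) := Subgroup.card_le_of_le hHQ
  -- Step 3: `X / Q` is `p`-nilpotent
  have hquot : PNil p (X ⧸ Cfsg.pCore p X) := by
    by_cases hdvd : p ∣ Nat.card (X ⧸ Cfsg.pCore p X)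
    · have hπ : Function.Surjective (QuotientGroup.mk' (Cfsg.pCore p X)) :=
        QuotientGroup.mk'_surjective _
      have hlt : Nat.card (X ⧸ Cfsg.pCore p X) < Nat.card X := by
        have h1 := Subgroup.card_eq_card_quotient_mul_card_subgroup (Cfsg.pCore p X)
        have h2 : 1 < Nat.card (Cfsg.pCore p X) := (Subgroup.one_lt_card_iff_ne_bot _).mpr hQne
        have h3 : 0 < Nat.card (X ⧸ Cfsg.pCore p X) := Nat.card_pos
        rw [h1]
        nlinarith
      refine ih _ (hcard ▸ hlt) (X ⧸ Cfsg.pCore p X) rfl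
        (fun Y _ hY => hsec Y (hY.of_surjective _ hπ)) ?_
      intro Sb
      obtain ⟨S₁, hS₁⟩ := Sylow.mapSurjective_surjective hπ p Sb
      have hSbcoe : (Sb : Subgroup (X ⧸ Cfsg.pCore p X)) =
          (S₁ : Subgroup X).map (QuotientGroup.mk' (Cfsg.pCore p X)) := by
        rw [← hS₁]; rfl
      have hSbne : (Sb : Subgroup (X ⧸ Cfsg.pCore p X)) ≠ ⊥ := Sb.ne_bot_of_dvd_card hdvd
      have hWne : Cfsg.inducedFunctor (G := X ⧸ Cfsg.pCore p X) W
          (Sb : Subgroup (X ⧸ Cfsg.pCore p X)) ≠ ⊥ := inducedFunctor_ne_bot hW _ Sb.2 hSbne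
      apply pnil_normalizer_of_comap (QuotientGroup.mk' (Cfsg.pCore p X)) hπ
      set L := (Cfsg.inducedFunctor (G := X ⧸ Cfsg.pCore p X) W
          (Sb : Subgroup (X ⧸ Cfsg.pCore p X))).comap (QuotientGroup.mk' (Cfsg.pCore p X)) with hL
      have hLp : IsPGroup p L := by
        apply IsPGroup.comap_of_ker_isPGroup
        · exact Sb.2.to_le (inducedFunctor_le _)
        · rw [QuotientGroup.ker_mk']; exact hQp
      have hQL : Cfsg.pCore p X ≤ L := by
        intro q hq
        rw [hL, Subgroup.mem_comap, QuotientGroup.mk'_apply, (QuotientGroup.eq_one_iff q).mpr hq]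
        exact Subgroup.one_mem _
      have hQLne : Cfsg.pCore p X ≠ L := by
        intro heq
        apply hWne
        have h1 : L.map (QuotientGroup.mk' (Cfsg.pCore p X)) = ⊥ :=
          (Subgroup.map_eq_bot_iff _).mpr (by rw [QuotientGroup.ker_mk']; exact heq.ge)
        rw [hL, Subgroup.map_comap_eq_self_of_surjective hπ] at h1
        exact h1
      have hLne : L ≠ ⊥ := by
        intro h0
        apply hQne
        rw [eq_bot_iff, ← h0]
        exact hQL
      have hcardlt : Nat.card H < Nat.card L :=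
        lt_of_le_of_lt hcardQH (Helper78.card_lt_card_of_lt (lt_of_le_of_ne hQL hQLne))
      have hS₁N : (S₁ : Subgroup X) ≤ normalizer (L : Set X) := by
        intro s hs
        rw [hL, ← Subgroup.comap_normalizer_eq_of_surjective _ hπ, Subgroup.mem_comap]
        apply normalizer_le_normalizer_inducedFunctor hW _ Sb.2
        apply le_normalizer
        rw [hSbcoe]
        exact Subgroup.mem_map_of_mem _ hs
      exact hgood L hLp hLne (hμ_of_sylow L S₁ hS₁N hcardlt)
    · exact pnil_of_coprime ((Nat.Prime.coprime_iff_not_dvd hp.1).mpr hdvd).symm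
  -- Step 4: `O_{p'}(X) = 1`
  have hOp' : Cfsg.pPrimeCore p X = ⊥ := by
    by_contra hMne
    have hMc : (Nat.card (Cfsg.pPrimeCore p X)).Coprime p := Lib.card_pPrimeCore_coprime p
    have hπ : Function.Surjective (QuotientGroup.mk' (Cfsg.pPrimeCore p X)) :=
      QuotientGroup.mk'_surjective _
    have hlt : Nat.card (X ⧸ Cfsg.pPrimeCore p X) < Nat.card X := by
      have h1 := Subgroup.card_eq_card_quotient_mul_card_subgroup (Cfsg.pPrimeCore p X)
      have h2 : 1 < Nat.card (Cfsg.pPrimeCore p X) := (Subgroup.one_lt_card_iff_ne_bot _).mpr hMne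
      have h3 : 0 < Nat.card (X ⧸ Cfsg.pPrimeCore p X) := Nat.card_pos
      rw [h1]
      nlinarith
    apply hX
    apply pnil_of_quotient (Cfsg.pPrimeCore p X) hMc
    refine ih _ (hcard ▸ hlt) (X ⧸ Cfsg.pPrimeCore p X) rfl
      (fun Y _ hY => hsec Y (hY.of_surjective _ hπ)) ?_
    intro Sb
    obtain ⟨S₁, hS₁⟩ := Sylow.mapSurjective_surjective hπ p Sb
    have hSbcoe : (Sb : Subgroup (X ⧸ Cfsg.pPrimeCore p X)) =
        (S₁ : Subgroup X).map (QuotientGroup.mk' (Cfsg.pPrimeCore p X)) := by
      rw [← hS₁]; rfl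
    have hinj : ∀ t ∈ (S₁ : Subgroup X), QuotientGroup.mk' (Cfsg.pPrimeCore p X) t = 1 → t = 1 := by
      intro t ht h1
      rw [QuotientGroup.mk'_apply, QuotientGroup.eq_one_iff] at h1
      obtain ⟨n, hn⟩ := S₁.2 ⟨t, ht⟩
      have hn' : t ^ p ^ n = 1 := by
        have := congrArg Subtype.val hn
        simpa using this
      exact eq_one_of_pow_prime_pow_of_coprime hMc h1 hn'
    have hWmap := inducedFunctor_map hW (QuotientGroup.mk' (Cfsg.pPrimeCore p X))
      (S₁ : Subgroup X) S₁.2 hinj
    have h5 := pnil_normalizer_map_of_coprime_ker (QuotientGroup.mk' (Cfsg.pPrimeCore p X)) hπ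
      (by rw [QuotientGroup.ker_mk']; exact hMc)
      (Cfsg.inducedFunctor (G := X) W (S₁ : Subgroup X)) (S₁.2.to_le (inducedFunctor_le _)) (hnorm S₁)
    refine pnil_of_eq ?_ h5
    rw [hSbcoe, hWmap]
  -- Step 5: `C_X(Q) ≤ Q`
  have hCQ : centralizer ((Cfsg.pCore p X : Subgroup X) : Set X) ≤ Cfsg.pCore p X :=
    centralizer_pCore_le_of_pnil_quotient hquot hOp'
  -- Step 6: a Sylow subgroup is maximal
  obtain ⟨S₁⟩ : Nonempty (Sylow p X) := inferInstance
  have hQS₁ : Cfsg.pCore p X ≤ (S₁ : Subgroup X) := Lib.pCore_le_sylow S₁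
  have hcoatom : IsCoatom (S₁ : Subgroup X) := by
    constructor
    · intro htop
      apply hX
      apply pnil_of_isPGroup
      have h1 : IsPGroup p ↥(⊤ : Subgroup X) := htop ▸ S₁.2
      exact h1.of_equiv (Subgroup.topEquiv : (⊤ : Subgroup X) ≃* X)
    · intro Y hY
      by_contra hYtop
      have hlt : Nat.card ↥Y < Nat.card X := by
        have := Helper78.card_lt_card_of_lt (lt_top_iff_ne_top.mpr hYtop)
        rwa [Subgroup.card_top] at this
      have hYpnil : PNil p ↥Y := by
        refine ih _ (hcard ▸ hlt) ↥Y rfl (fun Z _ hZ => hsec Z hZ.of_subgroup) ?_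
        intro T
        obtain ⟨S', hS'⟩ := exists_sylow_eq_map_of_sylow_le S₁ Y hY.le T
        apply pnil_normalizer_of_injective Y.subtype Y.subtype_injective
        have h1 := inducedFunctor_map hW Y.subtype (T : Subgroup ↥Y) T.2
          (fun t _ ht => Y.subtype_injective (by simpa using ht))
        refine pnil_of_eq ?_ (hnorm S')
        rw [← h1, hS']
      -- `Y` is a `p`-group
      have hQY : Cfsg.pCore p X ≤ Y := hQS₁.trans hY.le
      have hYp : IsPGroup p ↥Y := by
        refine hYpnil.isPGroup_of_centralizer_le ((Cfsg.pCore p X).subgroupOf Y)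
          hQp.comap_subtype ?_
        intro y hy
        rw [Subgroup.mem_subgroupOf]
        apply hCQ
        rw [mem_centralizer_iff]
        intro q hq
        have h1 := (mem_centralizer_iff.mp hy) ⟨q, hQY hq⟩ (Subgroup.mem_subgroupOf.mpr hq)
        exact congrArg Subtype.val h1
      have hYp' : IsPGroup p Y := hYp
      have := S₁.is_maximal' hYp' hY.le
      exact hY.ne this.symm
  -- conclusion
  have hloc := hsec X (isSec_refl X) hCQ (pnil_iff.mp hquot) S₁ hcoatom
  have htop : normalizer ((Cfsg.inducedFunctor (G := X) W (S₁ : Subgroup X) : Subgroup X) : Set X) = ⊤ :=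
    normalizer_eq_top_iff.mpr hloc
  have h1 : PNil p ↥(⊤ : Subgroup X) := pnil_of_eq htop (hnorm S₁)
  exact hX (h1.of_mulEquiv Subgroup.topEquiv)

/-- **Thompson's normal `p`-complement theorem, functor form**. -/
theorem thompson_functor (hW : Cfsg.IsCharPFunctor.{u} p W) (X : Type u) [Group X] [Finite X]
    (hsec : ∀ (Y : Type u) [Group Y], IsSec X Y → Loc p W Y)
    (hnorm : ∀ S : Sylow p X, PNil p ↥(normalizer
        ((Cfsg.inducedFunctor (G := X) W (S : Subgroup X) : Subgroup X) : Set X))) :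
    PNil p X :=
  thompson_functor_aux hW _ X rfl hsec hnorm

/-- The hypothesis on `N(W S)` for one Sylow subgroup gives it for all. -/
theorem pnil_normalizer_inducedFunctor_all (hW : Cfsg.IsCharPFunctor.{u} p W) {X : Type u} [Group X]
    [Finite X] (S : Sylow p X) (h : PNil p ↥(normalizer
        ((Cfsg.inducedFunctor (G := X) W (S : Subgroup X) : Subgroup X) : Set X)))
    (S' : Sylow p X) : PNil p ↥(normalizer
        ((Cfsg.inducedFunctor (G := X) W (S' : Subgroup X) : Subgroup X) : Set X)) := by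
  obtain ⟨g, hg⟩ := MulAction.exists_smul_eq X S S'
  have h1 : (S' : Subgroup X) = (S : Subgroup X).map (MulAut.conj g).toMonoidHom := by
    rw [← hg, Sylow.coe_subgroup_smul]
    rfl
  have h2 := inducedFunctor_map hW (MulAut.conj g).toMonoidHom (S : Subgroup X) S.2
    (fun t _ ht => (MulAut.conj g).injective (by simpa using ht))
  have h3 := pnil_normalizer_map_equiv (MulAut.conj g) _ h
  refine pnil_of_eq ?_ h3
  rw [h1, h2]

end main

end Cfsg.Agent.Helper34
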