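import Mathlib
import Cfsg.Agent.Helper30.ThreeMin.Defs

/-!
# (T-4) of S2930: a transitive group containing `Alt(T)` for a large non-block `T` is primitive
(helper34)
-/

set_option autoImplicit false

namespace Cfsg.Agent.Helper34.ThreeMin

open Equiv Equiv.Perm MulAction Subgroup Cfsg.Agent.Helper30.ThreeMin
open scoped Pointwise

universe u

/-- the `3`-cycle `b → a → c → b` on three points of `T` is an even permutation fixing the
complement of `T` pointwise -/
theorem threeCycle_mem {α : Type u} [Fintype α] [DecidableEq α] (T : Set α) {a b c : α}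
    (ha : a ∈ T) (hb : b ∈ T) (hc : c ∈ T) (hab : a ≠ b) (hac : a ≠ c) (hbc : b ≠ c) :
    swap a b * swap a c ∈ alternatingGroup α ⊓ fixingSubgroup (Perm α) Tᶜ := by
  refine ⟨(isThreeCycle_swap_mul_swap_same hab hac hbc).mem_alternatingGroup, ?_⟩
  refine (mem_fixingSubgroup_iff (Perm α)).mpr ?_
  intro y hy
  have hya : y ≠ a := fun h => hy (h ▸ ha)
  have hyb : y ≠ b := fun h => hy (h ▸ hb)
  have hyc : y ≠ c := fun h => hy (h ▸ hc)
  rw [Perm.smul_def, Perm.mul_apply, swap_apply_of_ne_of_ne hya hyc,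
    swap_apply_of_ne_of_ne hya hyb]

/-- the block property for elements of `J` given as permutations -/
theorem block_apply {α : Type u} [Fintype α] [DecidableEq α] (J : Subgroup (Perm α))
    (D : Set α) (hD : IsBlock J D) (g : Perm α) (hg : g ∈ J) {u : α} (hu : u ∈ D)
    (hgu : g u ∈ D) {w : α} (hw : w ∈ D) : g w ∈ D := by
  have h1 : (⟨g, hg⟩ : J) • D = D := hD.smul_eq_of_mem (g := ⟨g, hg⟩) hu hgu
  have h2 : (⟨g, hg⟩ : J) • w ∈ (⟨g, hg⟩ : J) • D := Set.smul_mem_smul_set hw
  rw [h1] at h2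
  exact h2

/-- a block containing two points of `T` contains `T` -/
theorem subset_block_of_two {α : Type u} [Fintype α] [DecidableEq α] (J : Subgroup (Perm α))
    (T : Set α) (hle : alternatingGroup α ⊓ fixingSubgroup (Perm α) Tᶜ ≤ J) (D : Set α)
    (hD : IsBlock J D) {x : α} (hxD : x ∈ D) (hxT : x ∈ T) {y : α} (hyD : y ∈ D) (hyT : y ∈ T)
    (hyx : y ≠ x) : T ⊆ D := by
  intro t ht
  by_cases htx : t = x
  · rw [htx]; exact hxD
  by_cases hty : t = y
  · rw [hty]; exact hyD
  -- the 3-cycle `x → y → t → x`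
  have hg := hle (threeCycle_mem T hyT hxT ht hyx (Ne.symm hty) (Ne.symm htx))
  have h1 : (swap y x * swap y t) x = y := by
    rw [Perm.mul_apply, swap_apply_of_ne_of_ne (Ne.symm hyx) (Ne.symm htx), swap_apply_right]
  have h2 : (swap y x * swap y t) y = t := by
    rw [Perm.mul_apply, swap_apply_left, swap_apply_of_ne_of_ne hty htx]
  have h3 := block_apply J D hD _ hg hxD (by rw [h1]; exact hyD) hyD
  rw [h2] at h3
  exact h3

/-- a non-trivial block meeting `T` contains `T` -/
theorem subset_block_of_alt_le {α : Type u} [Fintype α] [DecidableEq α] (J : Subgroup (Perm α))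
    (T : Set α) (h3 : 3 ≤ T.ncard)
    (hle : alternatingGroup α ⊓ fixingSubgroup (Perm α) Tᶜ ≤ J) (D : Set α) (hD : IsBlock J D)
    {x : α} (hxD : x ∈ D) (hxT : x ∈ T) {y : α} (hyD : y ∈ D) (hyx : y ≠ x) : T ⊆ D := by
  by_cases hyT : y ∈ T
  · exact subset_block_of_two J T hle D hD hxD hxT hyD hyT hyx
  · -- `y ∉ T`: move `x` inside `T` fixing `y`
    have hfin : T.Finite := Set.toFinite T
    have h4 : 1 < (T \ {x}).ncard := by
      rw [Set.ncard_sdiff_singleton_of_mem hxT]
      omega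
    obtain ⟨a, b, ha, hb, hab⟩ := (Set.one_lt_ncard_iff (hfin.sdiff)).mp h4
    have haT : a ∈ T := ha.1
    have hbT : b ∈ T := hb.1
    have hax : a ≠ x := fun h => ha.2 (by rw [h]; rfl)
    have hbx : b ≠ x := fun h => hb.2 (by rw [h]; rfl)
    have hg := hle (threeCycle_mem T hxT haT hbT (Ne.symm hax) (Ne.symm hbx) hab)
    have hya : y ≠ a := fun h => hyT (h ▸ haT)
    have hyb : y ≠ b := fun h => hyT (h ▸ hbT)
    have h1 : (swap x a * swap x b) y = y := by
      rw [Perm.mul_apply, swap_apply_of_ne_of_ne hyx hyb, swap_apply_of_ne_of_ne hyx hya]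
    have h2 : (swap x a * swap x b) x = b := by
      rw [Perm.mul_apply, swap_apply_left, swap_apply_of_ne_of_ne hbx (Ne.symm hab)]
    have h5 := block_apply J D hD _ hg hyD (by rw [h1]; exact hyD) hxD
    rw [h2] at h5
    exact subset_block_of_two J T hle D hD hxD hxT h5 hbT hbx

/-- (T-4) -/
theorem isPreprimitive_of_alt_le {α : Type u} [Fintype α] [DecidableEq α] (J : Subgroup (Perm α))
    (htr : IsPretransitive J α) (T : Set α) (h3 : 3 ≤ T.ncard)
    (hle : alternatingGroup α ⊓ fixingSubgroup (Perm α) Tᶜ ≤ J)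
    (hnb : ∃ g ∈ J, (g • T ∩ T).Nonempty ∧ g • T ≠ T)
    (hdiv : ∀ d : ℕ, d ∣ Fintype.card α → T.ncard < d → d = Fintype.card α) :
    IsPreprimitive J α := by
  have := htr
  refine ⟨fun {D} hD => ?_⟩
  by_contra hnt
  rw [IsTrivialBlock, not_or, Set.not_subsingleton_iff] at hnt
  obtain ⟨⟨d1, hd1, d2, hd2, hd12⟩, hnu⟩ := hnt
  -- a point of `T`
  have hTne : T.Nonempty := by
    rw [← Set.ncard_pos (Set.toFinite T)]
    omega
  obtain ⟨t, ht⟩ := hTne
  -- move `D` to meet `T`
  obtain ⟨h, hh⟩ := exists_smul_eq J d1 t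
  have hD' : IsBlock J (h • D) := hD.translate h
  have h1 : t ∈ h • D := by
    rw [← hh]
    exact Set.smul_mem_smul_set hd1
  have h2 : h • d2 ∈ h • D := Set.smul_mem_smul_set hd2
  have h2ne : h • d2 ≠ t := by
    rw [← hh]
    intro hc
    exact hd12 (MulAction.injective h hc).symm
  have hsub : T ⊆ h • D := subset_block_of_alt_le J T h3 hle (h • D) hD' h1 ht h2 h2ne
  -- cardinalities
  have hdvd : (h • D).ncard ∣ Fintype.card α := by
    have := hD'.ncard_dvd_card ⟨t, h1⟩
    rwa [Nat.card_eq_fintype_card] at this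
  have hle' : T.ncard ≤ (h • D).ncard := Set.ncard_le_ncard hsub (Set.toFinite _)
  rcases hle'.lt_or_eq with hlt | heq
  · -- `h • D` is everything
    have h5 := hdiv _ hdvd hlt
    have h6 : h • D = Set.univ := by
      rw [Set.eq_univ_iff_ncard, h5, Nat.card_eq_fintype_card]
    apply hnu
    have h7 : D = h⁻¹ • (h • D) := by rw [inv_smul_smul]
    rw [h7, h6, Set.smul_set_univ]
  · -- `h • D = T`, but `T` is not a block
    have h5 : T = h • D := Set.eq_of_subset_of_ncard_le hsub heq.ge (Set.toFinite _)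
    obtain ⟨g, hg, hgne, hgT⟩ := hnb
    rw [← h5] at hD'
    have h6 : (⟨g, hg⟩ : J) • T = T := hD'.smul_eq_of_nonempty (g := ⟨g, hg⟩) hgne
    exact hgT h6

end Cfsg.Agent.Helper34.ThreeMin
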